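import Cfsg.Agent.LocalB.OffenderGeneration
import Cfsg.Agent.Offender.Replacement

/-!
Offenders in a `p`-minimal group with trivial `p`-core: the standing hypothesis and first facts.
-/

set_option autoImplicit false
set_option linter.style.haveILetI false
set_option linter.unusedSectionVars false

namespace CfsgLib.PMinFF

open Subgroup CfsgLib.OffGen

variable {P : Type*} [Group P]

/-- `g A g⁻¹`. -/
def cj (g : P) (A : Subgroup P) : Subgroup P := A.map (MulAut.conj g).toMonoidHom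

theorem mem_cj {g x : P} {A : Subgroup P} : x ∈ cj g A ↔ g⁻¹ * x * g ∈ A := by
  constructor
  · rintro ⟨a, ha, rfl⟩
    simpa [mul_assoc] using ha
  · exact fun h => ⟨_, h, by simp [mul_assoc]⟩

theorem conj_mem_cj {g x : P} {A : Subgroup P} (h : x ∈ A) : g * x * g⁻¹ ∈ cj g A := ⟨x, h, rfl⟩

theorem cj_one (A : Subgroup P) : cj 1 A = A := by ext; simp [mem_cj]

theorem cj_mul (g h : P) (A : Subgroup P) : cj (g * h) A = cj g (cj h A) := by
  ext; simp [mem_cj, mul_assoc]

theorem cj_inv_cj (g : P) (A : Subgroup P) : cj g⁻¹ (cj g A) = A := by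
  rw [← cj_mul, inv_mul_cancel, cj_one]

theorem cj_cj_inv (g : P) (A : Subgroup P) : cj g (cj g⁻¹ A) = A := by
  rw [← cj_mul, mul_inv_cancel, cj_one]

theorem cj_mono (g : P) {A B : Subgroup P} (h : A ≤ B) : cj g A ≤ cj g B := Subgroup.map_mono h

theorem cj_le_iff {g : P} {A B : Subgroup P} : cj g A ≤ B ↔ A ≤ cj g⁻¹ B :=
  ⟨fun h => cj_inv_cj g A ▸ cj_mono g⁻¹ h, fun h => cj_cj_inv g B ▸ cj_mono g h⟩

theorem cj_sup (g : P) (A B : Subgroup P) : cj g (A ⊔ B) = cj g A ⊔ cj g B := Subgroup.map_sup _ _ _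

theorem cj_injective (g : P) : Function.Injective (cj g) := fun A B h => by
  simpa [cj_inv_cj] using congrArg (cj g⁻¹) h

theorem cj_ne_bot {g : P} {A : Subgroup P} (h : A ≠ ⊥) : cj g A ≠ ⊥ := fun e => h
  (cj_injective g (e.trans (Subgroup.map_bot _).symm))

theorem card_cj (g : P) (A : Subgroup P) : Nat.card (cj g A) = Nat.card A :=
  (Nat.card_congr (A.equivMapOfInjective _ (MulAut.conj g).injective).toEquiv).symm

theorem cj_self {g : P} {A : Subgroup P} (hg : g ∈ A) : cj g A = A := by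
  ext x; rw [mem_cj]
  exact ⟨fun h => by simpa [mul_assoc] using A.mul_mem (A.mul_mem hg h) (A.inv_mem hg),
    fun h => A.mul_mem (A.mul_mem (A.inv_mem hg) h) hg⟩

theorem smul_coe {p : ℕ} (g : P) (S : Sylow p P) :
    ((g • S : Sylow p P) : Subgroup P) = cj g (S : Subgroup P) := by
  ext x
  rw [Sylow.coe_subgroup_smul, mem_cj, Subgroup.mem_pointwise_smul_iff_inv_smul_mem]
  simp

variable [Finite P]

theorem cj_eq_of_le {g : P} {A : Subgroup P} (h : cj g A ≤ A) : cj g A = A :=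
  Subgroup.eq_of_le_of_card_ge h (card_cj g A).ge

theorem mem_normalizer_iff_cj {g : P} {A : Subgroup P} :
    g ∈ normalizer (A : Set P) ↔ cj g A = A := by
  rw [mem_normalizer_iff]
  constructor
  · intro h
    ext x
    rw [mem_cj]
    refine (h (g⁻¹ * x * g)).trans ?_
    simp [mul_assoc]
  · intro h x
    conv_rhs => rw [← h]
    rw [mem_cj]
    simp [mul_assoc]

theorem mem_normalizer_of_le {g : P} {A : Subgroup P} (h : cj g A ≤ A) :
    g ∈ normalizer (A : Set P) := mem_normalizer_iff_cj.2 (cj_eq_of_le h)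

/-- The subgroup generated by conjugates by a subgroup is normalized by it. -/
theorem normalizer_iSup_cj (K A : Subgroup P) :
    K ≤ normalizer ((⨆ k ∈ K, cj k A : Subgroup P) : Set P) := by
  intro g hg
  refine mem_normalizer_of_le ?_
  simp only [cj, Subgroup.map_iSup]
  refine iSup₂_le fun k hk => le_iSup₂_of_le (g * k) (K.mul_mem hg hk) ?_
  exact (cj_mul g k A).ge

/-- A proper subgroup of a `p`-subgroup grows in its normalizer. -/
theorem exists_mem_normalizer {p : ℕ} [Fact p.Prime] {S R : Subgroup P} (hS : IsPGroup p S)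
    (h : R < S) : ∃ n ∈ S, n ∉ R ∧ cj n R = R := by
  haveI : Group.IsNilpotent S := hS.isNilpotent
  have hne : R.subgroupOf S < ⊤ := lt_top_iff_ne_top.2 fun e =>
    h.not_ge (subgroupOf_eq_top.1 e)
  obtain ⟨n, hn, hn'⟩ := SetLike.exists_of_lt ((Group.normalizerCondition_of_isNilpotent) _ hne)
  refine ⟨n, n.2, hn', cj_eq_of_le ?_⟩
  rintro - ⟨r, hr, rfl⟩
  have hr' : (⟨r, h.le hr⟩ : S) ∈ R.subgroupOf S := hr
  exact ((mem_normalizer_iff.1 hn _).1 hr' : _)

/-- Two subgroups of a `p`-group, the second not inside the first: the conjugates of the first by the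
second generate a proper subgroup. -/
theorem conj_sup_lt {p : ℕ} [Fact p.Prime] {A B : Subgroup P} (hp : IsPGroup p ↥(A ⊔ B))
    (hBA : ¬ B ≤ A) {b : P} (hb : b ∈ A ⊔ B) : A ⊔ cj b A < A ⊔ B := by
  haveI : Group.IsNilpotent ↥(A ⊔ B) := hp.isNilpotent
  have hne : A.subgroupOf (A ⊔ B) ≠ ⊤ := fun e => hBA (le_sup_right.trans (subgroupOf_eq_top.1 e))
  obtain ⟨K, hK, hAK⟩ := (eq_top_or_exists_le_coatom _).resolve_left hne
  haveI : K.Normal := Subgroup.NormalizerCondition.normal_of_coatom K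
    Group.normalizerCondition_of_isNilpotent hK
  have hA : A ≤ K.map (A ⊔ B).subtype := fun a ha =>
    ⟨⟨a, mem_sup_left ha⟩, hAK (show a ∈ A from ha), rfl⟩
  have hlt : K.map (A ⊔ B).subtype < A ⊔ B := by
    refine lt_of_le_of_ne (map_subtype_le K) fun e => hK.1 ?_
    rw [← comap_map_eq_self_of_injective (A ⊔ B).subtype_injective K, e]
    exact subgroupOf_self _
  refine lt_of_le_of_lt (sup_le hA ?_) hlt
  rintro - ⟨a, ha, rfl⟩
  exact ⟨_, Normal.conj_mem inferInstance _ (hAK (show (⟨a, mem_sup_left ha⟩ : ↥(A ⊔ B)) ∈ _ from ha))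
    ⟨b, hb⟩, rfl⟩

/-- A normal `p`-subgroup and the Sylow subgroups. -/
theorem isPGroup_sup {p : ℕ} {H B : Subgroup P} (hH : IsPGroup p H) (hB : IsPGroup p B)
    (h : B ≤ normalizer (H : Set P)) : IsPGroup p ↥(H ⊔ B) :=
  hH.to_sup_of_normal_left' hB h

variable {V : Type*} [AddCommGroup V] [DistribMulAction P V]

/-- Elementary abelian. -/
structure Elem (p : ℕ) (A : Subgroup P) : Prop where
  comm : ∀ a ∈ A, ∀ b ∈ A, a * b = b * a
  pow : ∀ a ∈ A, a ^ p = 1

theorem Elem.mono {p : ℕ} {A B : Subgroup P} (h : Elem p A) (hle : B ≤ A) : Elem p B :=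
  ⟨fun a ha b hb => h.comm a (hle ha) b (hle hb), fun a ha => h.pow a (hle ha)⟩

theorem Elem.isPGroup {p : ℕ} {A : Subgroup P} (h : Elem p A) : IsPGroup p A := fun a =>
  ⟨1, by rw [pow_one]; exact Subtype.ext (h.pow a a.2)⟩

theorem Elem.cj {p : ℕ} {A : Subgroup P} (h : Elem p A) (g : P) : Elem p (cj g A) := by
  refine ⟨?_, ?_⟩
  · rintro - ⟨a, ha, rfl⟩ - ⟨b, hb, rfl⟩
    rw [← map_mul, h.comm a ha b hb, map_mul]
  · rintro - ⟨a, ha, rfl⟩
    rw [← map_pow, h.pow a ha, map_one]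

/-- Commuting elementary subgroups generate one. -/
theorem Elem.sup {p : ℕ} {A B : Subgroup P} (hA : Elem p A) (hB : Elem p B)
    (h : ∀ a ∈ A, ∀ b ∈ B, a * b = b * a) : Elem p (A ⊔ B) := by
  have hN : B ≤ normalizer (A : Set P) := fun b hb => mem_normalizer_of_le (by
    rintro - ⟨a, ha, rfl⟩
    simpa [← h a ha b hb, mul_assoc] using ha)
  have hmem : ∀ x ∈ A ⊔ B, ∃ a ∈ A, ∃ b ∈ B, a * b = x := fun x hx => by
    rw [← SetLike.mem_coe, coe_mul_of_right_le_normalizer_left A B hN] at hx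
    exact Set.mem_mul.1 hx
  refine ⟨fun x hx y hy => ?_, fun x hx => ?_⟩
  · obtain ⟨a, ha, b, hb, rfl⟩ := hmem x hx
    obtain ⟨c, hc, d, hd, rfl⟩ := hmem y hy
    calc a * b * (c * d) = a * (b * c) * d := by group
      _ = a * (c * b) * d := by rw [h c hc b hb]
      _ = a * c * (b * d) := by group
      _ = c * a * (d * b) := by rw [hA.comm a ha c hc, hB.comm b hb d hd]
      _ = c * (a * d) * b := by group
      _ = c * (d * a) * b := by rw [h a ha d hd]
      _ = c * d * (a * b) := by group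
  · obtain ⟨a, ha, b, hb, rfl⟩ := hmem x hx
    rw [(show Commute a b from h a ha b hb).mul_pow, hA.pow a ha, hB.pow b hb, one_mul]

theorem fix_anti {A B : Subgroup P} (h : A ≤ B) : fix V B ≤ fix V A := fun _ hv a ha => hv a (h ha)

theorem mem_fix_cj {g : P} {A : Subgroup P} {v : V} :
    v ∈ fix V (cj g A) ↔ g⁻¹ • v ∈ fix V A := by
  constructor
  · intro h a ha
    have := congrArg (g⁻¹ • ·) (h _ (conj_mem_cj (g := g) ha))
    simpa [mul_smul] using this
  · rintro h - ⟨a, ha, rfl⟩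
    simp [mul_smul, h a ha]

theorem card_fix_cj (g : P) (A : Subgroup P) :
    Nat.card (fix V (cj g A)) = Nat.card (fix V A) := by
  refine Nat.card_congr ((MulAction.toPerm (g⁻¹ : P) : Equiv.Perm V).subtypeEquiv fun v => ?_)
  exact mem_fix_cj

theorem mem_fix_sup {A B : Subgroup P} {v : V} :
    v ∈ fix V (A ⊔ B) ↔ v ∈ fix V A ∧ v ∈ fix V B := by
  refine ⟨fun h => ⟨fix_anti le_sup_left h, fix_anti le_sup_right h⟩, fun h g hg => ?_⟩
  exact (sup_le (fun a ha => h.1 a ha) fun b hb => h.2 b hb :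
    A ⊔ B ≤ MulAction.stabilizer P v) hg

theorem mem_com {A : Subgroup P} {a : P} (ha : a ∈ A) (v : V) : a • v - v ∈ com V A :=
  AddSubgroup.subset_closure ⟨a, ha, v, rfl⟩

theorem com_le {A : Subgroup P} {K : AddSubgroup V} :
    com V A ≤ K ↔ ∀ a ∈ A, ∀ v : V, a • v - v ∈ K :=
  ⟨fun h a ha v => h (mem_com ha v), fun h => (AddSubgroup.closure_le _).2 (by
    rintro - ⟨a, ha, v, rfl⟩; exact h a ha v)⟩

theorem smul_mem_com_cj {g : P} {A : Subgroup P} {v : V} (hv : v ∈ com V A) :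
    g • v ∈ com V (cj g A) := by
  induction hv using AddSubgroup.closure_induction with
  | mem x hx =>
    obtain ⟨a, ha, w, rfl⟩ := hx
    have := mem_com (conj_mem_cj (g := g) ha) (g • w)
    simpa [mul_smul, smul_sub] using this
  | zero => rw [smul_zero]; exact zero_mem _
  | add x y _ _ hx hy => rw [smul_add]; exact add_mem hx hy
  | neg x _ hx => rw [smul_neg]; exact neg_mem hx

theorem com_mono {A B : Subgroup P} (h : A ≤ B) : com V A ≤ com V B :=
  com_le.2 fun _ ha v => mem_com (h ha) v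

variable (V) in
/-- `|A| |C_V(A)|`. -/
noncomputable def meas (A : Subgroup P) : ℕ := Nat.card A * Nat.card (fix V A)

theorem meas_cj (g : P) (A : Subgroup P) : meas V (cj g A) = meas V A := by
  rw [meas, meas, card_cj, card_fix_cj]

theorem meas_bot : meas V (⊥ : Subgroup P) = Nat.card V := by
  have : fix V (⊥ : Subgroup P) = ⊤ := eq_top_iff.2 fun v _ a ha => by
    rw [mem_bot.1 ha, one_smul]
  rw [meas, Subgroup.card_bot, one_mul, this, AddSubgroup.card_top]

variable (V) in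
/-- A minimal offender acting quadratically. -/
structure Mem (p : ℕ) (A : Subgroup P) : Prop where
  elem : Elem p A
  ne : A ≠ ⊥
  bound : Nat.card V ≤ meas V A
  strict : ∀ B ≤ A, B ≠ ⊥ → B ≠ A → meas V B < meas V A
  quad : ∀ a ∈ A, ∀ b ∈ A, ∀ v : V, b • (a • v - v) = a • v - v

theorem Mem.cj {p : ℕ} {A : Subgroup P} (h : Mem V p A) (g : P) : Mem V p (cj g A) := by
  refine ⟨h.elem.cj g, cj_ne_bot h.ne, by rw [meas_cj]; exact h.bound, fun B hB hne hne' => ?_, ?_⟩
  · rw [meas_cj, ← meas_cj g⁻¹ B]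
    refine h.strict _ (cj_le_iff.2 (by simpa using hB)) (cj_ne_bot hne) fun e => hne' ?_
    rw [← e, cj_cj_inv]
  · rintro - ⟨a, ha, rfl⟩ - ⟨b, hb, rfl⟩ v
    have := congrArg (g • ·) (h.quad a ha b hb (g⁻¹ • v))
    simpa [mul_smul, smul_sub] using this

theorem Mem.com_le_fix {p : ℕ} {A : Subgroup P} (h : Mem V p A) : com V A ≤ fix V A :=
  com_le.2 fun a ha v b hb => h.quad a ha b hb v

variable (V) in
/-- The standing hypothesis: faithful elementary module, `p`-minimal, trivial core, and the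
centralizer of the fixed points of the Sylow subgroup below the maximal subgroup. -/
structure Hyp (p : ℕ) (T : Sylow p P) (M : Subgroup P) : Prop where
  exp : ∀ w : V, p • w = 0
  faithful : ∀ g : P, (∀ w : V, g • w = w) → g = 1
  hover : CfsgLib.PMin.Over (T : Subgroup P) M
  core : Cfsg.pCore p P = ⊥
  nt : (T : Subgroup P) ≠ ⊥
  cent : ∀ g : P, (∀ v ∈ fix V (T : Subgroup P), g • v = v) → g ∈ M

theorem over_unique {A M M' : Subgroup P} (h : CfsgLib.PMin.Over A M)
    (h' : CfsgLib.PMin.Over A M') : M = M' :=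
  le_antisymm ((h'.2.2 M h.1).resolve_left h.2.1) ((h.2.2 M' h'.1).resolve_left h'.2.1)

theorem over_cj {A M : Subgroup P} (h : CfsgLib.PMin.Over A M) (g : P) :
    CfsgLib.PMin.Over (cj g A) (cj g M) := by
  refine ⟨cj_mono g h.1, fun e => h.2.1 ?_, fun Y hY => ?_⟩
  · rw [← cj_inv_cj g M, e]; ext; simp [mem_cj]
  · rcases h.2.2 (cj g⁻¹ Y) (cj_le_iff.1 hY) with e | e
    · left; rw [← cj_cj_inv g Y, e]; ext; simp [mem_cj]
    · exact Or.inr (by simpa [cj_cj_inv] using cj_mono g e)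

namespace Hyp

variable {p : ℕ} [Fact p.Prime] {T : Sylow p P} {M : Subgroup P} (H : Hyp V p T M)

include H

theorem conj (g : P) : Hyp V p (g • T) (cj g M) := by
  refine ⟨H.exp, H.faithful, by rw [smul_coe]; exact over_cj H.hover g, H.core,
    by rw [smul_coe]; exact cj_ne_bot H.nt, fun x hx => ?_⟩
  rw [mem_cj]
  refine H.cent _ fun v hv => ?_
  have h1 := hx (g • v) (by rw [smul_coe, mem_fix_cj, inv_smul_smul]; exact hv)
  rw [mul_smul, mul_smul, h1, inv_smul_smul]

theorem exists_max (S : Sylow p P) : ∃ N, Hyp V p S N := by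
  obtain ⟨g, rfl⟩ := MulAction.exists_smul_eq P T S
  exact ⟨_, H.conj g⟩

theorem of_le {S : Sylow p P} (hS : (S : Subgroup P) ≤ M) : Hyp V p S M := by
  obtain ⟨g, rfl⟩ := MulAction.exists_smul_eq P T S
  have h := H.conj g
  have hle : M ≤ cj g M := (h.hover.2.2 M hS).resolve_left H.hover.2.1
  rwa [← Subgroup.eq_of_le_of_card_ge hle (card_cj g M).le] at h

theorem normal_bot {N : Subgroup P} (hN : N.Normal) (hp : IsPGroup p N) : N = ⊥ :=
  le_bot_iff.1 (H.core ▸ CfsgLib.Solvable.le_pCore p hN hp)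

theorem normalizer_le : normalizer ((T : Subgroup P) : Set P) ≤ M := by
  rcases H.hover.2.2 _ le_normalizer with h | h
  · exact absurd (H.normal_bot (normalizer_eq_top_iff.1 h) T.2) H.nt
  · exact h

/-- A normal subgroup below the maximal subgroup has no nontrivial `p`-subgroup. -/
theorem inf_eq_bot {N Q : Subgroup P} [hN : N.Normal] (hNM : N ≤ M) (hQ : IsPGroup p Q) :
    N ⊓ Q = ⊥ := by
  obtain ⟨S, hS⟩ := hQ.exists_le_sylow
  obtain ⟨g, rfl⟩ := MulAction.exists_smul_eq P T S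
  have hNg : N ≤ cj g M := fun x hx => mem_cj.2 (hNM (by
    simpa using hN.conj_mem x hx g⁻¹))
  refine le_bot_iff.1 ((inf_le_inf_left N hS).trans ?_)
  exact H.core ▸ CfsgLib.PMin.normal_inf_le_pCore (H.conj g).hover N hNg

theorem self_normalizing {g : P} (hg : cj g M = M) : g ∈ M := by
  rcases H.hover.2.2 (normalizer (M : Set P)) (H.hover.1.trans le_normalizer) with h | h
  · exfalso
    haveI := normalizer_eq_top_iff.1 h
    exact H.nt (by simpa [inf_eq_right.2 H.hover.1] using H.inf_eq_bot (N := M) le_rfl T.2)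
  · exact h (mem_normalizer_iff_cj.2 hg)

theorem exists_mem_smul {S : Sylow p P} (hS : (S : Subgroup P) ≤ M) :
    ∃ m ∈ M, (S : Subgroup P) = cj m (T : Subgroup P) := by
  obtain ⟨g, rfl⟩ := MulAction.exists_smul_eq P T S
  exact ⟨g, H.self_normalizing (over_unique (H.conj g).hover (H.of_le hS).hover), smul_coe g T⟩

/-- A `p`-subgroup of `M` lies in an `M`-conjugate of `T`. -/
theorem exists_conj_le {Q : Subgroup P} (hQ : IsPGroup p Q) (hQM : Q ≤ M) :
    ∃ m ∈ M, Q ≤ cj m (T : Subgroup P) := by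
  have hdvd : ¬ p ∣ ((T : Subgroup P).subgroupOf M).index := fun h => T.not_dvd_index
    (h.trans ((T : Subgroup P).relIndex_dvd_index_of_le H.hover.1))
  obtain ⟨R, hR⟩ := ((hQ.comap_subtype : IsPGroup p (Q.subgroupOf M))).exists_le_sylow
  obtain ⟨m, hm⟩ := MulAction.exists_smul_eq M ((T.2.comap_subtype).toSylow hdvd) R
  refine ⟨m, m.2, fun x hx => ?_⟩
  have : (⟨x, hQM hx⟩ : M) ∈ (R : Subgroup M) := hR hx
  rw [← hm, smul_coe, mem_cj] at this
  rw [mem_cj]
  exact this

theorem top_of_not_mem {K : Subgroup P} (hT : (T : Subgroup P) ≤ K) {x : P} (hx : x ∈ K)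
    (hxM : x ∉ M) : K = ⊤ :=
  (H.hover.2.2 K hT).resolve_right fun h => hxM (h hx)

end Hyp

/-! ### Measure and existence of minimal offenders -/

variable [Finite V]

theorem exists_representation {p : ℕ} [Module (ZMod p) V] :
    ∃ ρ : Representation (ZMod p) P V, ∀ g v, ρ g v = g • v := by
  let f : P → Module.End (ZMod p) V := fun g => (DistribSMul.toAddMonoidHom V g).toZModLinearMap p
  have hf : ∀ g v, (f g : V →ₗ[ZMod p] V) v = g • v := fun g v => rfl
  refine ⟨MonoidHom.mk ⟨f, ?_⟩ ?_, fun g v => hf g v⟩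
  · exact LinearMap.ext fun v => by rw [hf, one_smul, Module.End.one_apply]
  · intro g h
    exact LinearMap.ext fun v => by simp only [Module.End.mul_apply, hf, mul_smul]

theorem exp_representation {p : ℕ} [Fact p.Prime] (hexp : ∀ w : V, p • w = 0) :
    ∃ (_ : Module (ZMod p) V) (ρ : Representation (ZMod p) P V), ∀ g v, ρ g v = g • v :=
  ⟨AddCommGroup.zmodModule hexp,
    @exists_representation P _ _ V _ _ _ p (AddCommGroup.zmodModule hexp)⟩

theorem card_fixSpace {p : ℕ} [Fact p.Prime] [Module (ZMod p) V] {ρ : Representation (ZMod p) P V}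
    (hρ : ∀ g v, ρ g v = g • v) (B : Subgroup P) :
    Nat.card (CfsgLib.Offender.fixSpace ρ (B : Set P)) = Nat.card (fix V B) :=
  Nat.card_congr (Equiv.subtypeEquivRight fun v => by
    rw [CfsgLib.Offender.mem_fixSpace, OffGen.mem_fix]
    simp only [SetLike.mem_coe, hρ])

/-- An offender contains a quadratic minimal one of at least the same measure. -/
theorem exists_mem_le {p : ℕ} [Fact p.Prime] (hexp : ∀ w : V, p • w = 0)
    (hfaith : ∀ g : P, (∀ w : V, g • w = w) → g = 1) {B : Subgroup P} (hB : Elem p B)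
    (hne : B ≠ ⊥) (hm : Nat.card V ≤ meas V B) :
    ∃ A ≤ B, Mem V p A ∧ meas V B ≤ meas V A := by
  classical
  obtain ⟨A₀, ⟨hA₀, hA₀ne⟩, hmax⟩ := Set.exists_max_image {A : Subgroup P | A ≤ B ∧ A ≠ ⊥}
    (meas V) (Set.toFinite _) ⟨B, le_rfl, hne⟩
  obtain ⟨A, ⟨hA, hAne, hAm⟩, hmin⟩ := Set.exists_min_image
    {A : Subgroup P | A ≤ B ∧ A ≠ ⊥ ∧ meas V A₀ ≤ meas V A} (fun A => Nat.card A) (Set.toFinite _)
    ⟨A₀, hA₀, hA₀ne, le_rfl⟩
  have hBA : meas V B ≤ meas V A := (hmax B ⟨le_rfl, hne⟩).trans hAm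
  have hstrict : ∀ C ≤ A, C ≠ ⊥ → C ≠ A → meas V C < meas V A := by
    intro C hC hCne hCA
    by_contra hcon
    push Not at hcon
    exact hCA (Subgroup.eq_of_le_of_card_ge hC
      (hmin C ⟨hC.trans hA, hCne, hAm.trans hcon⟩))
  refine ⟨A, hA, ⟨hB.mono hA, hAne, hm.trans hBA, hstrict, ?_⟩, hBA⟩
  obtain ⟨_, ρ, hρ⟩ := exp_representation (P := P) hexp
  have hbest : CfsgLib.Offender.Best ρ A := by
    intro C hC
    rw [card_fixSpace hρ, card_fixSpace hρ]
    by_cases hCb : C = ⊥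
    · subst hCb
      exact le_of_eq_of_le meas_bot (hm.trans hBA)
    · exact (hmax C ⟨hC.trans hA, hCb⟩).trans hAm
  obtain ⟨a₁, ha₁, ha₁1⟩ : ∃ a ∈ A, a ≠ 1 := by
    by_contra h
    push Not at h
    exact hAne ((eq_bot_iff_forall _).2 h)
  obtain ⟨C, hC, hCm, hq, b, hb, hb1⟩ := CfsgLib.Offender.exists_quadratic_offender hbest
    (hB.mono hA).comm (fun a ha => ⟨1, by rw [pow_one]; exact hB.pow a (hA ha)⟩)
    ⟨a₁, ha₁, fun e => ha₁1 (hfaith a₁ fun w => by rw [← hρ, e]; rfl)⟩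
  rw [card_fixSpace hρ, card_fixSpace hρ] at hCm
  have hCne : C ≠ ⊥ := fun e => hb1 (by rw [(eq_bot_iff_forall _).1 e b hb, map_one])
  have hCA : C = A := by
    by_contra hCA
    exact (hstrict C hC hCne hCA).not_ge hCm
  intro a ha c hc v
  have := LinearMap.congr_fun (hq a (hCA ▸ ha) c hc) v
  simpa [Module.End.mul_apply, hρ, sub_eq_zero] using this

end CfsgLib.PMinFF
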