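import Cfsg.Agent.PMinFF.Basic

/-!
A minimal offender inside a subgroup acting as `SL₂(q)` on its natural module: elementary facts.
-/

set_option autoImplicit false
set_option linter.style.haveILetI false
set_option linter.unusedSectionVars false

namespace CfsgLib.PMinFF

open Subgroup Matrix CfsgLib.OffGen CfsgLib.SL2Pair

section Matrices

variable {F : Type*} [Field F]

/-- The monomial element. -/
def wS : SpecialLinearGroup (Fin 2) F := ⟨!![0, -1; 1, 0], by simp [Matrix.det_fin_two]⟩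

/-- The diagonal element. -/
def dS (c : Fˣ) : SpecialLinearGroup (Fin 2) F :=
  ⟨!![(c : F), 0; 0, ((c⁻¹ : Fˣ) : F)], by simp [Matrix.det_fin_two]⟩

theorem wS_coe :
    ((wS : SpecialLinearGroup (Fin 2) F) : Matrix (Fin 2) (Fin 2) F) = !![0, -1; 1, 0] := rfl

theorem dS_coe (c : Fˣ) : ((dS c : SpecialLinearGroup (Fin 2) F) : Matrix (Fin 2) (Fin 2) F) =
    !![(c : F), 0; 0, ((c⁻¹ : Fˣ) : F)] := rfl

theorem up_mulVec (c : F) (v : Fin 2 → F) :
    ((up c : SpecialLinearGroup (Fin 2) F) : Matrix (Fin 2) (Fin 2) F).mulVec v =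
      ![v 0 + c * v 1, v 1] := by
  ext i; fin_cases i <;> simp [up_coe, Matrix.mulVec, dotProduct, Fin.sum_univ_two]

theorem low_mulVec (c : F) (v : Fin 2 → F) :
    ((low c : SpecialLinearGroup (Fin 2) F) : Matrix (Fin 2) (Fin 2) F).mulVec v =
      ![v 0, c * v 0 + v 1] := by
  ext i; fin_cases i <;> simp [low_coe, Matrix.mulVec, dotProduct, Fin.sum_univ_two]

theorem wS_mulVec (v : Fin 2 → F) :
    ((wS : SpecialLinearGroup (Fin 2) F) : Matrix (Fin 2) (Fin 2) F).mulVec v = ![-v 1, v 0] := by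
  ext i; fin_cases i <;> simp [wS_coe, Matrix.mulVec, dotProduct, Fin.sum_univ_two]

theorem dS_mulVec (c : Fˣ) (v : Fin 2 → F) :
    ((dS c : SpecialLinearGroup (Fin 2) F) : Matrix (Fin 2) (Fin 2) F).mulVec v =
      ![(c : F) * v 0, ((c⁻¹ : Fˣ) : F) * v 1] := by
  ext i; fin_cases i <;> simp [dS_coe, Matrix.mulVec, dotProduct, Fin.sum_univ_two]

theorem wS_up (c : F) : wS * up c * (wS : SpecialLinearGroup (Fin 2) F)⁻¹ = low (-c) := by
  rw [mul_inv_eq_iff_eq_mul]
  ext i j; fin_cases i <;> fin_cases j <;>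
    simp [wS_coe, up_coe, low_coe, Matrix.mul_apply, Fin.sum_univ_two]

theorem wS_sq : (wS : SpecialLinearGroup (Fin 2) F) * wS = dS (-1) := by
  ext i j; fin_cases i <;> fin_cases j <;> simp [wS_coe, dS_coe, Matrix.mul_apply, Fin.sum_univ_two]

theorem dS_up (c : Fˣ) (a : F) : dS c * up a = up ((c : F) * c * a) * dS c := by
  ext i j; fin_cases i <;> fin_cases j <;>
    simp [dS_coe, up_coe, Matrix.mul_apply, Fin.sum_univ_two]
  field_simp

theorem dS_wS (c : Fˣ) : dS c * wS = wS * dS c⁻¹ := by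
  ext i j; fin_cases i <;> fin_cases j <;> simp [wS_coe, dS_coe, Matrix.mul_apply, Fin.sum_univ_two]

/-- A nonzero vector can be moved onto the first axis. -/
theorem exists_to_axis {v : Fin 2 → F} (hv : v ≠ 0) :
    ∃ h : SpecialLinearGroup (Fin 2) F, (h : Matrix (Fin 2) (Fin 2) F).mulVec v = ![1, 0] := by
  by_cases h0 : v 0 = 0
  · have h1 : v 1 ≠ 0 := fun h1 => hv (funext fun i => by fin_cases i <;> simp [h0, h1])
    refine ⟨⟨!![0, (v 1)⁻¹; -v 1, 0], by simp [Matrix.det_fin_two, h1]⟩, ?_⟩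
    ext i; fin_cases i <;> simp [Matrix.mulVec, dotProduct, Fin.sum_univ_two, h0, h1]
  · refine ⟨⟨!![(v 0)⁻¹, 0; -v 1, v 0], by simp [Matrix.det_fin_two, h0]⟩, ?_⟩
    ext i; fin_cases i <;> simp [Matrix.mulVec, dotProduct, Fin.sum_univ_two, h0]
    ring

end Matrices

variable {P : Type*} [Group P] [Finite P]
variable {V : Type*} [AddCommGroup V] [Finite V] [DistribMulAction P V]

variable (V) in
/-- `L` acts as `SL₂(F)` on its natural module, `A` as the upper unitriangular group. -/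
structure Block (F : Type) [Field F] (A L : Subgroup P) where
  ρ : ↥L ≃* SpecialLinearGroup (Fin 2) F
  ψ : V →+ (Fin 2 → F)
  surj : Function.Surjective ψ
  ker : ∀ w, ψ w = 0 ↔ w ∈ fix V L
  equi : ∀ (g : L) (w : V), ψ ((g : P) • w) = ((ρ g) : Matrix (Fin 2) (Fin 2) F).mulVec (ψ w)
  le : A ≤ L
  map : ∀ g : L, (g : P) ∈ A ↔ ρ g ∈ Cfsg.upperUnipotentSL2 F
  bound : Nat.card V ≤ meas V A

namespace Block

variable {F : Type} [Field F] [Finite F] {A L : Subgroup P} (b : Block V F A L)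

include b

/-- The element of `L` over a matrix. -/
def el (m : SpecialLinearGroup (Fin 2) F) : P := (b.ρ.symm m : P)

theorem el_mem (m : SpecialLinearGroup (Fin 2) F) : b.el m ∈ L := (b.ρ.symm m).2

theorem el_mul (m n : SpecialLinearGroup (Fin 2) F) : b.el (m * n) = b.el m * b.el n := by
  simp [el, map_mul]

theorem el_one : b.el 1 = 1 := by simp [el]

theorem el_inv (m : SpecialLinearGroup (Fin 2) F) : b.el m⁻¹ = (b.el m)⁻¹ := by simp [el, map_inv]

theorem el_injective : Function.Injective b.el := fun _ _ h =>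
  b.ρ.symm.injective (Subtype.ext h)

theorem el_rho (g : L) : b.el (b.ρ g) = (g : P) := by simp [el]

theorem psi_el (m : SpecialLinearGroup (Fin 2) F) (w : V) :
    b.ψ (b.el m • w) = (m : Matrix (Fin 2) (Fin 2) F).mulVec (b.ψ w) := by
  rw [el, b.equi, MulEquiv.apply_symm_apply]

/-- The element of `A`. -/
def a (c : F) : P := b.el (up c)

/-- The element of the opposite root subgroup. -/
def x (c : F) : P := b.el (low c)

/-- The monomial element. -/
def w : P := b.el wS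

/-- The torus element. -/
def h (c : Fˣ) : P := b.el (dS c)

theorem a_mem (c : F) : b.a c ∈ A := (b.map _).2 (by
  rw [MulEquiv.apply_symm_apply]; exact mem_upper.2 ⟨c, rfl⟩)

theorem exists_a {g : P} (hg : g ∈ A) : ∃ c, g = b.a c := by
  obtain ⟨c, hc⟩ := mem_upper.1 ((b.map ⟨g, b.le hg⟩).1 hg)
  exact ⟨c, by rw [a, ← hc, b.el_rho]⟩

theorem a_add (c d : F) : b.a (c + d) = b.a c * b.a d := by rw [a, a, a, ← el_mul, up_mul]

theorem a_zero : b.a 0 = 1 := by rw [a, up_zero, el_one]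

theorem a_inj : Function.Injective b.a := fun c d h => by
  have := congrArg (fun g : SpecialLinearGroup (Fin 2) F =>
    (g : Matrix (Fin 2) (Fin 2) F) 0 1) (b.el_injective h)
  simpa [up_coe] using this

theorem card_A : Nat.card A = Nat.card F := by
  refine (Nat.card_congr (Equiv.ofBijective (fun c : F => (⟨b.a c, b.a_mem c⟩ : A))
    ⟨fun c d h => b.a_inj (congrArg (fun t : A => (t : P)) h), fun g => ?_⟩)).symm
  obtain ⟨c, hc⟩ := b.exists_a g.2
  exact ⟨c, Subtype.ext hc.symm⟩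

theorem psi_a (c : F) (v : V) : b.ψ (b.a c • v) = ![b.ψ v 0 + c * b.ψ v 1, b.ψ v 1] := by
  rw [a, psi_el, up_mulVec]

theorem psi_x (c : F) (v : V) : b.ψ (b.x c • v) = ![b.ψ v 0, c * b.ψ v 0 + b.ψ v 1] := by
  rw [x, psi_el, low_mulVec]

theorem psi_w (v : V) : b.ψ (b.w • v) = ![-b.ψ v 1, b.ψ v 0] := by rw [w, psi_el, wS_mulVec]

theorem psi_h (c : Fˣ) (v : V) :
    b.ψ (b.h c • v) = ![(c : F) * b.ψ v 0, ((c⁻¹ : Fˣ) : F) * b.ψ v 1] := by
  rw [h, psi_el, dS_mulVec]

theorem fix_le : fix V L ≤ fix V A := fix_anti b.le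

theorem psi_fix {v : V} (hv : v ∈ fix V A) : b.ψ v 1 = 0 := by
  have h1 := congrArg (fun u => b.ψ u 0) (hv _ (b.a_mem 1))
  simpa [psi_a] using h1

theorem card_V : Nat.card V = Nat.card F * Nat.card F * Nat.card (fix V L) := by
  have hker : b.ψ.ker = fix V L := by ext v; exact b.ker v
  rw [AddSubgroup.card_eq_card_quotient_mul_card_addSubgroup b.ψ.ker,
    Nat.card_congr (QuotientAddGroup.quotientKerEquivOfSurjective b.ψ b.surj).toEquiv, hker,
    Nat.card_congr (piFinTwoEquiv fun _ : Fin 2 => F), Nat.card_prod]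

theorem fix_eq : ∀ v, v ∈ fix V A ↔ b.ψ v 1 = 0 := by
  let R : AddSubgroup V := ((Pi.evalAddMonoidHom (fun _ : Fin 2 => F) 1).comp b.ψ).ker
  have hle : fix V A ≤ R := fun v hv => b.psi_fix hv
  let π : R →+ F := ((Pi.evalAddMonoidHom (fun _ : Fin 2 => F) 0).comp b.ψ).comp R.subtype
  have hR : Nat.card R ≤ Nat.card F * Nat.card (fix V L) := by
    rw [AddSubgroup.card_eq_card_quotient_mul_card_addSubgroup π.ker]
    refine Nat.mul_le_mul ?_ (Nat.card_le_card_of_injective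
      (fun k : π.ker => (⟨(k : R), (b.ker _).1 ?_⟩ : fix V L)) fun k l h => ?_)
    · exact Nat.card_le_card_of_injective _ (QuotientAddGroup.kerLift_injective π)
    · have h0 : b.ψ ((k : R) : V) 0 = 0 := k.2
      have h1 : b.ψ ((k : R) : V) 1 = 0 := (k : R).2
      funext i; fin_cases i <;> simp [h0, h1]
    · exact Subtype.ext (Subtype.ext (congrArg (fun t : fix V L => (t : V)) h :))
  have h2 : Nat.card F * (Nat.card F * Nat.card (fix V L)) ≤
      Nat.card F * Nat.card (fix V A) := by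
    rw [← mul_assoc, ← b.card_V, ← b.card_A]
    exact b.bound
  have h3 : fix V A = R := AddSubgroup.eq_of_le_of_card_ge hle
    (hR.trans (Nat.le_of_mul_le_mul_left h2 Nat.card_pos))
  intro v
  rw [h3]
  rfl

theorem card_eq : meas V A = Nat.card V := by
  refine le_antisymm ?_ b.bound
  rw [meas, b.card_V, b.card_A, mul_assoc]
  refine Nat.mul_le_mul_left _ ?_
  let π : fix V A →+ F := ((Pi.evalAddMonoidHom (fun _ : Fin 2 => F) 0).comp b.ψ).comp
    (fix V A).subtype
  rw [AddSubgroup.card_eq_card_quotient_mul_card_addSubgroup π.ker]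
  refine Nat.mul_le_mul (Nat.card_le_card_of_injective _ (QuotientAddGroup.kerLift_injective π))
    (Nat.card_le_card_of_injective (fun k : π.ker => (⟨(k : fix V A), (b.ker _).1 ?_⟩ : fix V L))
      fun k l h => Subtype.ext (Subtype.ext (congrArg (fun t : fix V L => (t : V)) h :)))
  have h0 : b.ψ ((k : fix V A) : V) 0 = 0 := k.2
  have h1 := b.psi_fix (k : fix V A).2
  funext i; fin_cases i <;> simp [h0, h1]

theorem key {g : P} (hg : g ∈ A) (hg1 : g ≠ 1) {v : V} (hv : g • v = v) : v ∈ fix V A := by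
  obtain ⟨c, rfl⟩ := b.exists_a hg
  have hc : c ≠ 0 := fun h => hg1 (by rw [h, a_zero])
  have h1 := congrArg (fun u => b.ψ u 0) hv
  simp [psi_a, hc] at h1
  exact (b.fix_eq v).2 h1

theorem card_fix : Nat.card (fix V A) = Nat.card F * Nat.card (fix V L) :=
  Nat.eq_of_mul_eq_mul_left (Nat.card_pos (α := F)) (by
    rw [← mul_assoc, ← b.card_V, ← b.card_eq, meas, b.card_A])

/-- The opposite root subgroup. -/
def X : Subgroup P := cj b.w A

theorem mem_X {g : P} : g ∈ b.X ↔ ∃ c, g = b.x c := by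
  constructor
  · rintro ⟨y, hy, rfl⟩
    obtain ⟨c, rfl⟩ := b.exists_a hy
    refine ⟨-c, ?_⟩
    show b.w * b.a c * b.w⁻¹ = _
    rw [w, a, x, ← el_inv, ← el_mul, ← el_mul, wS_up]
  · rintro ⟨c, rfl⟩
    refine ⟨b.a (-c), b.a_mem _, ?_⟩
    show b.w * b.a (-c) * b.w⁻¹ = _
    rw [w, a, x, ← el_inv, ← el_mul, ← el_mul, wS_up, neg_neg]

theorem X_le : b.X ≤ L := by
  intro g hg
  obtain ⟨c, rfl⟩ := b.mem_X.1 hg
  exact b.el_mem _

theorem gen : A ⊔ b.X = L := by
  refine le_antisymm (sup_le b.le b.X_le) fun g hg => ?_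
  let R : Subgroup (SpecialLinearGroup (Fin 2) F) :=
    ((A ⊔ b.X).subgroupOf L).comap b.ρ.symm.toMonoidHom
  have hR : R = ⊤ := by
    rw [eq_top_iff, ← SL2Pair.sup_eq_top (k := F)]
    refine sup_le (fun m hm => ?_) (fun m hm => ?_)
    · obtain ⟨c, rfl⟩ := mem_lower.1 hm
      exact mem_sup_right (b.mem_X.2 ⟨c, rfl⟩)
    · obtain ⟨c, rfl⟩ := mem_upper.1 hm
      exact mem_sup_left (b.a_mem c)
  have : b.ρ ⟨g, hg⟩ ∈ R := hR ▸ mem_top _
  simpa [R, Subgroup.mem_subgroupOf] using this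

theorem le_of_le {K : Subgroup P} (h1 : A ≤ K) (h2 : b.X ≤ K) : L ≤ K :=
  b.gen ▸ sup_le h1 h2

theorem mem_fix_X {v : V} : v ∈ fix V b.X ↔ b.ψ v 0 = 0 := by
  have hw : b.w⁻¹ = b.el (wS⁻¹) := (b.el_inv wS).symm
  rw [X, mem_fix_cj, b.fix_eq]
  have h1 : b.ψ v = ![-(b.ψ (b.w⁻¹ • v) 1), b.ψ (b.w⁻¹ • v) 0] := by
    rw [← psi_w, smul_inv_smul]
  rw [h1]
  simp

theorem mem_fix_L {v : V} : v ∈ fix V L ↔ v ∈ fix V A ∧ v ∈ fix V b.X := by
  rw [← mem_fix_sup, b.gen]

/-- Every vector has a translate fixed by `A`. -/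
theorem exists_fix (v : V) : ∃ m, b.el m • v ∈ fix V A := by
  by_cases hv : b.ψ v = 0
  · exact ⟨1, by rw [el_one, one_smul]; exact b.fix_le ((b.ker v).1 hv)⟩
  · obtain ⟨m, hm⟩ := exists_to_axis hv
    exact ⟨m, (b.fix_eq _).2 (by rw [psi_el, hm]; simp)⟩

/-- An element of `L` trivial modulo the fixed points is trivial. -/
theorem eq_one_of_psi {g : P} (hg : g ∈ L) (h : ∀ v, b.ψ (g • v) = b.ψ v) : g = 1 := by
  have h1 : b.ρ ⟨g, hg⟩ = 1 := by
    apply Matrix.SpecialLinearGroup.ext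
    refine fun i j => congrFun (congrFun (Matrix.ext_of_mulVec_single fun i => ?_) i) j
    obtain ⟨v, hv⟩ := b.surj (Pi.single i 1)
    have h2 := b.equi ⟨g, hg⟩ v
    rw [h v, hv] at h2
    exact h2.symm.trans (one_mulVec _).symm
  exact congrArg Subtype.val (b.ρ.map_eq_one_iff.1 h1)

/-- Conjugate block. -/
noncomputable def cj (g : P) : Block V F (PMinFF.cj g A) (PMinFF.cj g L) where
  ρ := (L.equivMapOfInjective _ (MulAut.conj g).injective).symm.trans b.ρ
  ψ := b.ψ.comp (DistribSMul.toAddMonoidHom V g⁻¹)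
  surj := b.surj.comp (MulAction.surjective g⁻¹)
  ker := fun v => (b.ker _).trans mem_fix_cj.symm
  equi := fun y v => by
    obtain ⟨y0, rfl⟩ := (L.equivMapOfInjective _ (MulAut.conj g).injective).surjective y
    show b.ψ (g⁻¹ • ((g * (y0 : P) * g⁻¹) • v)) = _
    rw [mul_smul, mul_smul, inv_smul_smul, b.equi]
    exact congrArg (fun z : L => (b.ρ z : Matrix (Fin 2) (Fin 2) F).mulVec (b.ψ (g⁻¹ • v)))
      ((L.equivMapOfInjective _ (MulAut.conj g).injective).symm_apply_apply y0).symm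
  le := cj_mono g b.le
  map := fun y => by
    obtain ⟨y0, rfl⟩ := (L.equivMapOfInjective _ (MulAut.conj g).injective).surjective y
    show g * (y0 : P) * g⁻¹ ∈ PMinFF.cj g A ↔ _
    rw [mem_cj]
    refine Iff.trans ?_ (iff_of_eq (congrArg
      (fun z : L => b.ρ z ∈ Cfsg.upperUnipotentSL2 F)
      ((L.equivMapOfInjective _ (MulAut.conj g).injective).symm_apply_apply y0).symm))
    simpa [mul_assoc] using b.map y0
  bound := by rw [meas_cj]; exact b.bound

end Block

end CfsgLib.PMinFF
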