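import Cfsg.Agent.PMinFF.Commute

/-!
The members inside a Sylow subgroup, and the shape of the final block decomposition.
-/

set_option autoImplicit false
set_option linter.style.haveILetI false
set_option linter.unusedSectionVars false

namespace CfsgLib.PMinFF

open Subgroup Matrix CfsgLib.OffGen

variable {P : Type*} [Group P] [Finite P]
variable {V : Type*} [AddCommGroup V] [Finite V] [DistribMulAction P V]

theorem com_cj_le {A B : Subgroup P} (h : com V A ≤ fix V B) (g : P) :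
    com V (cj g A) ≤ fix V (cj g B) := by
  refine com_le.2 ?_
  rintro - ⟨a, ha, rfl⟩ v
  rw [mem_fix_cj]
  have := h (mem_com ha (g⁻¹ • v))
  simpa [mul_smul, smul_sub] using this

variable (V) in
/-- The members inside a subgroup. -/
def mems (p : ℕ) (R : Subgroup P) : Set (Subgroup P) := {B | Mem V p B ∧ B ≤ R}

theorem ncard_mems {p : ℕ} (g : P) (R : Subgroup P) :
    (mems V p (cj g R)).ncard = (mems V p R).ncard := by
  have key : ∀ (g : P) (R : Subgroup P), (mems V p R).ncard ≤ (mems V p (cj g R)).ncard := fun g R => by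
    rw [← Set.ncard_image_of_injective _ (cj_injective g)]
    refine Set.ncard_le_ncard ?_ (Set.toFinite _)
    rintro - ⟨B, hB, rfl⟩
    exact ⟨hB.1.cj g, cj_mono g hB.2⟩
  refine le_antisymm ?_ (key g R)
  simpa [cj_inv_cj] using key g⁻¹ (cj g R)

namespace Hyp

variable {p : ℕ} [Fact p.Prime] {T : Sylow p P} {M : Subgroup P} (H : Hyp V p T M)

include H

theorem exists_conj_mems {B : Subgroup P} (hB : Mem V p B) :
    ∃ g, cj g B ∈ mems V p (T : Subgroup P) := by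
  obtain ⟨R, hR⟩ := hB.elem.isPGroup.exists_le_sylow
  obtain ⟨g, hg⟩ := MulAction.exists_smul_eq P R T
  exact ⟨g, hB.cj g, hg ▸ (smul_coe g R).symm ▸ cj_mono g hR⟩

theorem commute_mems {B C : Subgroup P} (hB : B ∈ mems V p (T : Subgroup P))
    (hC : C ∈ mems V p (T : Subgroup P)) : ∀ x ∈ B, ∀ y ∈ C, x * y = y * x :=
  H.commute_of_pGroup hB.1 hC.1 (T.2.to_le (sup_le hB.2 hC.2))

/-- A member commuting with all members of the Sylow subgroup lies in it. -/
theorem mem_mems_of_commute {B : Subgroup P} (hB : Mem V p B)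
    (hc : ∀ C ∈ mems V p (T : Subgroup P), ∀ x ∈ B, ∀ y ∈ C, x * y = y * x) :
    B ∈ mems V p (T : Subgroup P) := by
  set J := sSup (mems V p (T : Subgroup P))
  have hJT : J ≤ (T : Subgroup P) := sSup_le fun C hC => hC.2
  have hBJ : B ≤ Subgroup.centralizer (J : Set P) := by
    have hJ : J ≤ Subgroup.centralizer (B : Set P) := sSup_le fun C hC y hy =>
      mem_centralizer_iff.2 fun x hx => hc C hC x hx y hy
    exact fun x hx => mem_centralizer_iff.2 fun y hy => (mem_centralizer_iff.1 (hJ hy) x hx).symm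
  obtain ⟨R, hR⟩ := (isPGroup_sup (T.2.to_le hJT) hB.elem.isPGroup
    (hBJ.trans (centralizer_le_normalizer _))).exists_le_sylow
  have hsub : insert B (mems V p (T : Subgroup P)) ⊆ mems V p (R : Subgroup P) := by
    rintro C (rfl | hC)
    · exact ⟨hB, le_sup_right.trans hR⟩
    · exact ⟨hC.1, (le_sSup hC).trans (le_sup_left.trans hR)⟩
  obtain ⟨g, hg⟩ := MulAction.exists_smul_eq P T R
  have h1 := Set.ncard_le_ncard hsub (Set.toFinite _)
  rw [← hg, smul_coe, ncard_mems] at h1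
  by_contra hnot
  rw [Set.ncard_insert_of_notMem hnot (Set.toFinite _)] at h1
  omega

theorem normalizer_mems_le {B : Subgroup P} (hB : Mem V p B) :
    normalizer ((sSup (mems V p (T : Subgroup P)) : Subgroup P) : Set P) ≤ M := by
  set J := sSup (mems V p (T : Subgroup P))
  have hT : (T : Subgroup P) ≤ normalizer (J : Set P) := fun t ht => mem_normalizer_of_le (by
    rw [cj_le_iff, sSup_le_iff]
    intro C hC
    rw [← cj_le_iff]
    exact le_sSup ⟨hC.1.cj t, (cj_mono t hC.2).trans_eq (cj_self ht)⟩)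
  rcases H.hover.2.2 _ hT with h | h
  · exfalso
    obtain ⟨g, hg⟩ := H.exists_conj_mems hB
    have hJ := H.normal_bot (normalizer_eq_top_iff.1 h) (T.2.to_le (sSup_le fun C hC => hC.2))
    exact hg.1.ne (le_bot_iff.1 (hJ ▸ le_sSup hg))
  · exact h

/-- Members below `M` closed under the Sylow subgroup are not centralized by an outside element. -/
theorem false_of_centralized {𝒮 : Set (Subgroup P)} {B : Subgroup P} (hB : B ∈ 𝒮)
    (hBm : Mem V p B) (hM : ∀ C ∈ 𝒮, C ≤ M) (hT : ∀ C ∈ 𝒮, ∀ t ∈ (T : Subgroup P), cj t C ∈ 𝒮)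
    {x : P} (hx : x ∉ M) (hc : ∀ C ∈ 𝒮, ∀ y ∈ C, x * y = y * x) : False := by
  set Q := sSup 𝒮
  have hTQ : (T : Subgroup P) ≤ normalizer (Q : Set P) := fun t ht => mem_normalizer_of_le (by
    rw [cj_le_iff, sSup_le_iff]
    intro C hC
    rw [← cj_le_iff]
    exact le_sSup (hT C hC t ht))
  have hxQ : x ∈ normalizer (Q : Set P) := mem_normalizer_of_le (by
    rw [cj_le_iff, sSup_le_iff]
    intro C hC y hy
    rw [mem_cj, inv_inv, hc C hC y hy, mul_inv_cancel_right]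
    exact (le_sSup hC : C ≤ Q) hy)
  haveI hn : Q.Normal := normalizer_eq_top_iff.1 (H.top_of_not_mem hTQ hxQ hx)
  refine hBm.ne (le_bot_iff.1 ?_)
  rw [← H.inf_eq_bot (sSup_le hM) hBm.elem.isPGroup]
  exact le_inf (le_sSup hB) le_rfl

/-- A member below `M` is an `M`-conjugate of one in the Sylow subgroup. -/
theorem exists_mems_of_le {B : Subgroup P} (hB : Mem V p B) (hBM : B ≤ M) :
    ∃ m ∈ M, cj m⁻¹ B ∈ mems V p (T : Subgroup P) := by
  obtain ⟨m, hm, hle⟩ := H.exists_conj_le hB.elem.isPGroup hBM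
  exact ⟨m, hm, hB.cj _, cj_le_iff.2 (by rwa [inv_inv])⟩

end Hyp

variable (V) in
/-- `E` acts on `[V, E]` modulo fixed points as `SL₂` on its natural module. -/
def SLBlock (p : ℕ) (E : Subgroup P) : Prop :=
  ∃ (F : Type) (_ : Field F) (_ : Fintype F) (n : ℕ), 1 ≤ n ∧ Fintype.card F = p ^ n ∧
    ∃ (ρ : E ≃* SpecialLinearGroup (Fin 2) F) (ψ : V →+ (Fin 2 → F)),
      (∀ y, ∃ u ∈ com V E, ψ u = y) ∧ (∀ v, ψ v = 0 ↔ v ∈ fix V E) ∧
        ∀ (g : E) (v : V), ψ ((g : P) • v) = (ρ g : Matrix (Fin 2) (Fin 2) F).mulVec (ψ v)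

variable (V) in
/-- `E` acts on `[V, E]` modulo fixed points as a symmetric group of odd degree on even vectors. -/
def PermBlock (p : ℕ) (E : Subgroup P) : Prop :=
  p = 2 ∧ ∃ n : ℕ, 1 ≤ n ∧ ∃ (ρ : E ≃* Equiv.Perm (Fin (2 ^ n + 1)))
    (ψ : V →+ (Fin (2 ^ n + 1) → ZMod 2)),
      (∀ v, ∑ i, ψ v i = 0) ∧ (∀ y, ∑ i, y i = 0 → ∃ u ∈ com V E, ψ u = y) ∧
        (∀ v, ψ v = 0 ↔ v ∈ fix V E) ∧ ∀ (g : E) (v : V) i, ψ ((g : P) • v) i = ψ v ((ρ g)⁻¹ i)

variable (V) in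
/-- The elements acting trivially modulo the fixed points of `E`. -/
def modFix (E : Subgroup P) : Subgroup P where
  carrier := {g | ∀ v : V, g • v - v ∈ fix V E}
  one_mem' := fun v => by simp
  mul_mem' := fun {g h} hg hh v => by
    have := (fix V E).add_mem (hg (h • v)) (hh v)
    rwa [sub_add_sub_cancel, ← mul_smul] at this
  inv_mem' := fun {g} hg v => by
    have := (fix V E).neg_mem (hg (g⁻¹ • v))
    rwa [smul_inv_smul, neg_sub] at this

theorem mem_modFix {E : Subgroup P} {g : P} :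
    g ∈ modFix V E ↔ ∀ v : V, g • v - v ∈ fix V E := Iff.rfl

variable (V) in
/-- The elements of `T` normalizing `E` act on the natural quotient as elements of `E`. -/
def Inner (T E : Subgroup P) : Prop :=
  ∀ t ∈ T, cj t E = E → ∃ g ∈ E, g⁻¹ * t ∈ modFix V E

variable (V) in
/-- The block decomposition. -/
structure Blocks (p : ℕ) (T : Sylow p P) (𝓔 : Set (Subgroup P)) : Prop where
  nonempty : 𝓔.Nonempty
  top : sSup 𝓔 ⊔ (T : Subgroup P) = ⊤
  normal : (sSup 𝓔).Normal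
  inv : ∀ E ∈ 𝓔, ∀ t ∈ (T : Subgroup P), cj t E ∈ 𝓔
  trans : ∀ E ∈ 𝓔, ∀ E' ∈ 𝓔, ∃ t ∈ (T : Subgroup P), cj t E = E'
  comm : ∀ E ∈ 𝓔, ∀ E' ∈ 𝓔, E ≠ E' → ∀ x ∈ E, ∀ y ∈ E', x * y = y * x
  sep : ∀ E ∈ 𝓔, ∀ E' ∈ 𝓔, E ≠ E' → com V E ≤ fix V E'
  nat : ∀ E ∈ 𝓔, SLBlock V p E ∨
    (PermBlock V p E ∧ Inner V (T : Subgroup P) E ∧ com V E ⊓ fix V E = ⊥)
  mem_le : ∀ A, Mem V p A → A ≤ sSup 𝓔
  kind : (∀ E ∈ 𝓔, SLBlock V p E) ∨ ∀ A : Subgroup P, Mem V p A → Nat.card A ≤ 2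

namespace Blocks

variable {p : ℕ} {T : Sylow p P} {𝓔 : Set (Subgroup P)} (hb : Blocks V p T 𝓔)

include hb

theorem lift {E : Subgroup P} (hE : E ∈ 𝓔) (v : V) : ∃ u ∈ com V E, v - u ∈ fix V E := by
  rcases hb.nat E hE with
    ⟨F, iF, iFt, n, -, -, ρ, ψ, hs, hk, -⟩ | ⟨⟨-, n, -, ρ, ψ, hz, hs, hk, -⟩, -, -⟩
  · obtain ⟨u, hu, he⟩ := hs (ψ v)
    exact ⟨u, hu, (hk _).1 (by rw [map_sub, he, sub_self])⟩
  · obtain ⟨u, hu, he⟩ := hs (ψ v) (hz v)
    exact ⟨u, hu, (hk _).1 (by rw [map_sub, he, sub_self])⟩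

theorem decomp (v : V) : v ∈ fix V (sSup 𝓔) ⊔ ⨆ E ∈ 𝓔, com V E := by
  classical
  haveI := Fintype.ofFinite (Subgroup P)
  suffices h : ∀ s : Finset (Subgroup P), (∀ E ∈ s, E ∈ 𝓔) →
      ∃ u ∈ ⨆ E ∈ 𝓔, com V E, ∀ E ∈ s, v - u ∈ fix V E by
    obtain ⟨u, hu, hfix⟩ := h (Finset.univ.filter (· ∈ 𝓔)) (by simp)
    have h2 : v - u ∈ fix V (sSup 𝓔) := fun g hg =>
      (sSup_le fun E hE x hx => hfix E (by simp [hE]) x hx :
        sSup 𝓔 ≤ MulAction.stabilizer P (v - u)) hg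
    simpa using add_mem (AddSubgroup.mem_sup_left h2 :
      v - u ∈ fix V (sSup 𝓔) ⊔ ⨆ E ∈ 𝓔, com V E) (AddSubgroup.mem_sup_right hu)
  intro s
  induction s using Finset.induction_on with
  | empty => exact fun _ => ⟨0, zero_mem _, by simp⟩
  | @insert E s hEs ih =>
    intro hs
    obtain ⟨u, hu, hfix⟩ := ih fun E' h' => hs E' (Finset.mem_insert_of_mem h')
    have hE := hs E (Finset.mem_insert_self _ _)
    obtain ⟨w, hw, hwE⟩ := hb.lift hE (v - u)
    refine ⟨u + w, add_mem hu (AddSubgroup.mem_iSup_of_mem E (AddSubgroup.mem_iSup_of_mem hE hw)),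
      fun E' h' => ?_⟩
    rw [← sub_sub]
    rcases Finset.mem_insert.1 h' with rfl | h'
    · exact hwE
    · exact (fix V E').sub_mem (hfix E' h') (hb.sep E hE E'
        (hs E' (Finset.mem_insert_of_mem h')) (fun e => hEs (e ▸ h')) hw)

theorem inf_others (hfaith : ∀ g : P, (∀ w : V, g • w = w) → g = 1) {E : Subgroup P}
    (hE : E ∈ 𝓔) : E ⊓ sSup (𝓔 \ {E}) = ⊥ := by
  rw [eq_bot_iff_forall]
  rintro g ⟨hg, hg'⟩
  refine hfaith g fun v => ?_
  obtain ⟨u, hu, hv⟩ := hb.lift hE v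
  have h1 : g • u = u :=
    (sSup_le fun E' hE' x hx => hb.sep E hE E' hE'.1 (fun e => hE'.2 e.symm) hu x hx :
      sSup (𝓔 \ {E}) ≤ MulAction.stabilizer P u) hg'
  have h2 := hv g hg
  rw [smul_sub, h1, sub_left_inj] at h2
  exact h2

end Blocks

end CfsgLib.PMinFF
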