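import Cfsg.Agent.PMinFF.Structure
import Cfsg.Prelude.Def_BaumannBlocks
import Cfsg.Prelude.Def_Transfer

/-!
A normalized abelian subgroup as a module, and the translation of the block decomposition.
-/

set_option autoImplicit false
set_option linter.style.haveILetI false
set_option linter.unusedSectionVars false

namespace CfsgLib.PMinFF

open Subgroup CfsgLib.OffGen
open scoped commutatorElement

universe u

variable {G : Type u} [Group G]

theorem exists_conj_module [Finite G] (V P : Subgroup G) (hV : IsMulCommutative V)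
    (hPV : P ≤ normalizer (V : Set G)) :
    ∃ (W : Type u) (_ : AddCommGroup W) (_ : Finite W) (_ : DistribMulAction P W) (e : W ≃ V),
      (∀ x y, e (x + y) = e x * e y) ∧
        ∀ (g : P) (x : W), (e (g • x) : G) = (g : G) * (e x : G) * (g : G)⁻¹ := by
  letI : CommGroup ↥V :=
    { (inferInstance : Group ↥V) with mul_comm := fun a b => hV.is_comm.comm a b }
  let cjv : ↥P → ↥V → ↥V := fun g v =>
    ⟨(g : G) * v * (g : G)⁻¹, (mem_normalizer_iff.1 (hPV g.2) v).1 v.2⟩
  letI act : DistribMulAction ↥P (Additive ↥V) :=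
    { smul := fun g v => Additive.ofMul (cjv g (Additive.toMul v))
      one_smul := fun v => by
        apply Additive.toMul.injective; apply Subtype.ext
        show ((1 : ↥P) : G) * _ * _ = _
        simp
      mul_smul := fun g h v => by
        apply Additive.toMul.injective; apply Subtype.ext
        show ((g * h : ↥P) : G) * _ * _ = (g : G) * ((h : G) * _ * (h : G)⁻¹) * (g : G)⁻¹
        simp [mul_assoc]
      smul_zero := fun g => by
        apply Additive.toMul.injective; apply Subtype.ext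
        show (g : G) * ((1 : ↥V) : G) * _ = _
        simp
      smul_add := fun g u v => by
        apply Additive.toMul.injective; apply Subtype.ext
        show (g : G) * (((Additive.toMul u : ↥V) : G) * ((Additive.toMul v : ↥V) : G)) * (g : G)⁻¹ =
          ((g : G) * ((Additive.toMul u : ↥V) : G) * (g : G)⁻¹) *
            ((g : G) * ((Additive.toMul v : ↥V) : G) * (g : G)⁻¹)
        group }
  exact ⟨Additive ↥V, inferInstance, inferInstance, act, Additive.toMul, fun _ _ => rfl,
    fun _ _ => rfl⟩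

section Module

variable [Finite G] {V P : Subgroup G} {W : Type*} [AddCommGroup W] [Finite W] [DistribMulAction P W]

variable (V) in
/-- The data of the translation. -/
structure IsConjModule (e : W ≃ V) : Prop where
  add : ∀ x y, e (x + y) = e x * e y
  smul : ∀ (g : P) (x : W), (e (g • x) : G) = (g : G) * (e x : G) * (g : G)⁻¹

namespace IsConjModule

variable {e : W ≃ V} (he : IsConjModule (P := P) V e)

/-- The image of an additive subgroup. -/
def img (_he : IsConjModule (P := P) V e) (K : AddSubgroup W) : Subgroup G where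
  carrier := {x | ∃ k ∈ K, (e k : G) = x}
  mul_mem' := by
    rintro - - ⟨k, hk, rfl⟩ ⟨l, hl, rfl⟩
    exact ⟨k + l, K.add_mem hk hl, by rw [_he.add, Subgroup.coe_mul]⟩
  one_mem' := ⟨0, K.zero_mem, by
    have h := _he.add 0 0
    rw [add_zero, left_eq_mul] at h
    rw [h, Subgroup.coe_one]⟩
  inv_mem' := by
    rintro - ⟨k, hk, rfl⟩
    refine ⟨-k, K.neg_mem hk, ?_⟩
    have h := _he.add (-k) k
    have h0 := _he.add 0 0
    rw [add_zero, left_eq_mul] at h0
    rw [neg_add_cancel, h0] at h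
    rw [← Subgroup.coe_inv, eq_inv_of_mul_eq_one_left h.symm]

include he

theorem val_zero : (e 0 : G) = 1 := by
  have h := he.add 0 0
  rw [add_zero, left_eq_mul] at h
  rw [h, Subgroup.coe_one]

theorem val_sub (x y : W) : (e (x - y) : G) = (e x : G) * (e y : G)⁻¹ := by
  rw [eq_mul_inv_iff_mul_eq, ← Subgroup.coe_mul, ← he.add, sub_add_cancel]

theorem val_nsmul (n : ℕ) (x : W) : (e (n • x) : G) = (e x : G) ^ n := by
  induction n with
  | zero => rw [zero_nsmul, he.val_zero, pow_zero]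
  | succ n ih => rw [succ_nsmul, he.add, Subgroup.coe_mul, ih, pow_succ]

theorem smul_eq_iff {g : P} {x : W} : g • x = x ↔ (g : G) * (e x : G) = (e x : G) * (g : G) := by
  rw [← e.injective.eq_iff, Subtype.ext_iff, he.smul, mul_inv_eq_iff_eq_mul]

theorem mem_img {K : AddSubgroup W} {x : W} : (e x : G) ∈ he.img K ↔ x ∈ K :=
  ⟨fun ⟨_, hk, h⟩ => e.injective (Subtype.ext h) ▸ hk, fun h => ⟨x, h, rfl⟩⟩

theorem exists_of_mem {v : G} (hv : v ∈ V) : ∃ x, (e x : G) = v :=
  ⟨e.symm ⟨v, hv⟩, by rw [e.apply_symm_apply]⟩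

theorem img_fix (B : Subgroup P) :
    he.img (fix W B) = V ⊓ centralizer ((B.map P.subtype : Subgroup G) : Set G) := by
  ext v
  constructor
  · rintro ⟨x, hx, rfl⟩
    refine ⟨(e x).2, mem_centralizer_iff.2 ?_⟩
    rintro - ⟨b, hb, rfl⟩
    exact he.smul_eq_iff.1 (hx b hb)
  · rintro ⟨hv, hc⟩
    obtain ⟨x, rfl⟩ := he.exists_of_mem hv
    exact ⟨x, fun b hb => he.smul_eq_iff.2 (mem_centralizer_iff.1 hc _ ⟨b, hb, rfl⟩), rfl⟩

theorem card_img (K : AddSubgroup W) : Nat.card (he.img K) = Nat.card K :=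
  (Nat.card_congr (Equiv.ofBijective (fun k : K => (⟨(e k : G), k, k.2, rfl⟩ : he.img K))
    ⟨fun k l h => Subtype.ext (e.injective (Subtype.ext (congrArg (fun z : he.img K => (z : G)) h :))),
      fun z => by obtain ⟨k, hk, h⟩ := z.2; exact ⟨⟨k, hk⟩, Subtype.ext h⟩⟩)).symm

theorem img_com (B : Subgroup P) : he.img (com W B) = ⁅V, B.map P.subtype⁆ := by
  refine le_antisymm ?_ (Subgroup.commutator_le.2 ?_)
  · rintro - ⟨x, hx, rfl⟩
    induction hx using AddSubgroup.closure_induction with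
    | mem y hy =>
      obtain ⟨b, hb, w, rfl⟩ := hy
      rw [he.val_sub, he.smul, Subgroup.commutator_comm]
      exact commutator_mem_commutator (mem_map_of_mem _ hb) (e w).2
    | zero => rw [he.val_zero]; exact one_mem _
    | add y z _ _ hy hz => rw [he.add, Subgroup.coe_mul]; exact mul_mem hy hz
    | neg y _ hy =>
      rw [← zero_sub, he.val_sub, he.val_zero, one_mul]
      exact inv_mem hy
  · rintro v hv - ⟨b, hb, rfl⟩
    obtain ⟨x, rfl⟩ := he.exists_of_mem hv
    refine ⟨x - b • x, ?_, ?_⟩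
    · rw [← neg_sub]; exact neg_mem (mem_com hb x)
    · rw [he.val_sub, he.smul, commutatorElement_def, Subgroup.coe_subtype]
      group

theorem elem_exp {p : ℕ} (hV : ∀ a ∈ V, a ^ p = 1) (x : W) : p • x = 0 :=
  e.injective (Subtype.ext (by rw [he.val_nsmul, hV _ (e x).2, he.val_zero]))

theorem faithful (h : P ⊓ centralizer (V : Set G) = ⊥) (g : P) (hg : ∀ x : W, g • x = x) : g = 1 := by
  have : (g : G) ∈ P ⊓ centralizer (V : Set G) := ⟨g.2, mem_centralizer_iff.2 fun v hv => by
    obtain ⟨x, rfl⟩ := he.exists_of_mem hv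
    exact (he.smul_eq_iff.1 (hg x)).symm⟩
  rw [h, Subgroup.mem_bot] at this
  exact Subtype.ext this

theorem centralizer_trivial {g : P} (h : (g : G) ∈ centralizer (V : Set G)) (x : W) : g • x = x :=
  he.smul_eq_iff.2 (mem_centralizer_iff.1 h _ (e x).2).symm

/-- A best offender as an elementary offender in the module. -/
theorem offender {p : ℕ} (hfaith : P ⊓ centralizer (V : Set G) = ⊥)
    {A : Subgroup G} (hAP : A ≤ P) (hne : ¬ A ≤ centralizer (V : Set G))
    (hA : Cfsg.IsBestOffenderOn p V A) :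
    Elem p (A.subgroupOf P) ∧ A.subgroupOf P ≠ ⊥ ∧
      Nat.card W ≤ meas W (A.subgroupOf P) := by
  have hmap : (A.subgroupOf P).map P.subtype = A := map_subgroupOf_eq_of_le hAP
  have htriv : ∀ x ∈ P, x ∈ centralizer (V : Set G) → x = 1 := fun x hx hc =>
    mem_bot.1 (hfaith ▸ (⟨hx, hc⟩ : x ∈ P ⊓ centralizer (V : Set G)))
  refine ⟨⟨fun a ha b hb => Subtype.ext ?_, fun a ha => Subtype.ext ?_⟩, fun h => hne ?_, ?_⟩
  · have h1 := htriv _ (⁅a, b⁆ : P).2 (hA.2.1 (commutator_mem_commutator ha hb))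
    exact commutatorElement_eq_one_iff_mul_comm.1 h1
  · rw [SubgroupClass.coe_pow]
    exact htriv _ (P.pow_mem a.2 p) (hA.2.2 _ ha)
  · rw [← hmap, h, Subgroup.map_bot]; exact bot_le
  · have h1 := hA.1 ⊥ bot_le
    rw [Subgroup.card_bot, one_mul, show V ⊓ centralizer ((⊥ : Subgroup G) : Set G) = V from
      inf_eq_left.2 fun v _ => mem_centralizer_iff.2 fun b hb => by
        rw [mem_bot.1 hb, one_mul, mul_one]] at h1
    rw [meas, Nat.card_congr (Subgroup.subgroupOfEquivOfLe hAP).toEquiv, ← he.card_img (fix W _),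
      he.img_fix, hmap, Nat.card_congr e]
    exact h1

variable {p : ℕ}

theorem actsAsSL2 {F : Type} [Field F] {E : Subgroup P} (hPV : P ≤ normalizer (V : Set G))
    (ρ : E ≃* Matrix.SpecialLinearGroup (Fin 2) F) (ψ : W →+ (Fin 2 → F))
    (hs : ∀ y, ∃ u ∈ com W E, ψ u = y) (hk : ∀ v, ψ v = 0 ↔ v ∈ fix W E)
    (he' : ∀ (g : E) (v : W),
      ψ ((g : P) • v) = (ρ g : Matrix (Fin 2) (Fin 2) F).mulVec (ψ v)) :
    Cfsg.ActsAsSL2OnSection F ⊤ (E.map P.subtype) ⁅V, E.map P.subtype⁆
      (⁅V, E.map P.subtype⁆ ⊓ centralizer ((E.map P.subtype : Subgroup G) : Set G)) := by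
  have hinv : ∀ g ∈ E, ∀ x ∈ com W E, g • x ∈ com W E := fun g hg x hx =>
    smul_mem_com_self hg hx
  refine ⟨?_, inf_le_left, ?_⟩
  · rintro - ⟨g, hg, rfl⟩
    rw [mem_normalizer_iff, ← he.img_com]
    intro v
    constructor
    · rintro ⟨x, hx, rfl⟩
      exact ⟨g • x, hinv g hg x hx, he.smul g x⟩
    · rintro ⟨x, hx, h⟩
      refine ⟨g⁻¹ • x, hinv g⁻¹ (inv_mem hg) x hx, ?_⟩
      rw [he.smul, h, Subgroup.coe_subtype, Subgroup.coe_inv]
      group
  · let pre : ↥⁅V, E.map P.subtype⁆ → W := fun u => e.symm ⟨(u : G), by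
      have : (u : G) ∈ he.img (com W E) := (he.img_com E).symm ▸ u.2
      obtain ⟨k, -, h⟩ := this
      exact h ▸ (e k).2⟩
    have hpre : ∀ u, (e (pre u) : G) = u := fun u => by simp only [pre, Equiv.apply_symm_apply]
    let ψ' : ↥⁅V, E.map P.subtype⁆ →* Multiplicative (Fin 2 → F) :=
      MonoidHom.mk' (fun u => Multiplicative.ofAdd (ψ (pre u))) fun u v => by
        have : pre (u * v) = pre u + pre v := e.injective (Subtype.ext (by
          rw [hpre, he.add, Subgroup.coe_mul, Subgroup.coe_mul, hpre, hpre]))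
        rw [this, map_add, ofAdd_add]
    let ρ' := ((E.equivMapOfInjective P.subtype P.subtype_injective).symm.trans ρ)
    refine ⟨ρ'.toMonoidHom, ψ', MonoidHom.range_eq_top.2 ρ'.surjective, fun y => ?_, fun u => ?_,
      fun g u => ?_⟩
    · obtain ⟨x, hx, hxy⟩ := hs (Multiplicative.toAdd y)
      refine ⟨⟨(e x : G), he.img_com E ▸ he.mem_img.2 hx⟩, ?_⟩
      show Multiplicative.ofAdd (ψ (pre _)) = y
      rw [show pre _ = x from e.injective (Subtype.ext (hpre _)), hxy, ofAdd_toAdd]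
    · show Multiplicative.ofAdd (ψ (pre u)) = 1 ↔ _
      rw [ofAdd_eq_one, hk, ← he.mem_img, he.img_fix, hpre]
      exact ⟨fun h => ⟨u.2, h.2⟩, fun h => ⟨hpre u ▸ (e (pre u)).2, h.2⟩⟩
    · obtain ⟨g, rfl⟩ := (E.equivMapOfInjective P.subtype P.subtype_injective).surjective g
      have hmem : pre u ∈ com W E := he.mem_img.1 (by rw [hpre, he.img_com]; exact u.2)
      refine ⟨⟨(e ((g : P) • pre u) : G), he.img_com E ▸ he.mem_img.2 (hinv _ g.2 _ hmem)⟩, ?_, ?_⟩
      · show (e ((g : P) • pre u) : G) = _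
        rw [he.smul, hpre]
        rfl
      · show ψ (pre _) = (ρ' _ : Matrix (Fin 2) (Fin 2) F).mulVec (ψ (pre u))
        rw [show pre _ = (g : P) • pre u from e.injective (Subtype.ext (hpre _)), he']
        simp [ρ']

theorem actsAsPerm {n : ℕ} {E : Subgroup P} (hPV : P ≤ normalizer (V : Set G))
    (ρ : E ≃* Equiv.Perm (Fin n)) (ψ : W →+ (Fin n → ZMod 2))
    (hz : ∀ v, ∑ i, ψ v i = 0) (hs : ∀ y, ∑ i, y i = 0 → ∃ u ∈ com W E, ψ u = y)
    (hk : ∀ v, ψ v = 0 ↔ v ∈ fix W E)
    (he' : ∀ (g : E) (v : W) i, ψ ((g : P) • v) i = ψ v ((ρ g)⁻¹ i)) :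
    Cfsg.ActsAsOddPermModuleOnSection n ⊤ (E.map P.subtype) ⁅V, E.map P.subtype⁆
      (⁅V, E.map P.subtype⁆ ⊓ centralizer ((E.map P.subtype : Subgroup G) : Set G)) := by
  have hinv : ∀ g ∈ E, ∀ x ∈ com W E, g • x ∈ com W E := fun g hg x hx =>
    smul_mem_com_self hg hx
  refine ⟨?_, inf_le_left, ?_⟩
  · rintro - ⟨g, hg, rfl⟩
    rw [mem_normalizer_iff, ← he.img_com]
    intro v
    constructor
    · rintro ⟨x, hx, rfl⟩
      exact ⟨g • x, hinv g hg x hx, he.smul g x⟩
    · rintro ⟨x, hx, h⟩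
      refine ⟨g⁻¹ • x, hinv g⁻¹ (inv_mem hg) x hx, ?_⟩
      rw [he.smul, h, Subgroup.coe_subtype, Subgroup.coe_inv]
      group
  · let pre : ↥⁅V, E.map P.subtype⁆ → W := fun u => e.symm ⟨(u : G), by
      have : (u : G) ∈ he.img (com W E) := (he.img_com E).symm ▸ u.2
      obtain ⟨k, -, h⟩ := this
      exact h ▸ (e k).2⟩
    have hpre : ∀ u, (e (pre u) : G) = u := fun u => by simp only [pre, Equiv.apply_symm_apply]
    let ψ' : ↥⁅V, E.map P.subtype⁆ →* Multiplicative (Fin n → ZMod 2) :=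
      MonoidHom.mk' (fun u => Multiplicative.ofAdd (ψ (pre u))) fun u v => by
        have : pre (u * v) = pre u + pre v := e.injective (Subtype.ext (by
          rw [hpre, he.add, Subgroup.coe_mul, Subgroup.coe_mul, hpre, hpre]))
        rw [this, map_add, ofAdd_add]
    let ρ' := ((E.equivMapOfInjective P.subtype P.subtype_injective).symm.trans ρ)
    refine ⟨ρ'.toMonoidHom, ψ', MonoidHom.range_eq_top.2 ρ'.surjective, fun u => hz (pre u),
      fun y hy => ?_, fun u => ?_, fun g u => ?_⟩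
    · obtain ⟨x, hx, hxy⟩ := hs y hy
      refine ⟨⟨(e x : G), he.img_com E ▸ he.mem_img.2 hx⟩, ?_⟩
      show ψ (pre _) = y
      rw [show pre _ = x from e.injective (Subtype.ext (hpre _)), hxy]
    · show Multiplicative.ofAdd (ψ (pre u)) = 1 ↔ _
      rw [ofAdd_eq_one, hk, ← he.mem_img, he.img_fix, hpre]
      exact ⟨fun h => ⟨u.2, h.2⟩, fun h => ⟨hpre u ▸ (e (pre u)).2, h.2⟩⟩
    · obtain ⟨g, rfl⟩ := (E.equivMapOfInjective P.subtype P.subtype_injective).surjective g
      have hmem : pre u ∈ com W E := he.mem_img.1 (by rw [hpre, he.img_com]; exact u.2)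
      refine ⟨⟨(e ((g : P) • pre u) : G), he.img_com E ▸ he.mem_img.2 (hinv _ g.2 _ hmem)⟩, ?_, ?_⟩
      · show (e ((g : P) • pre u) : G) = _
        rw [he.smul, hpre]
        rfl
      · intro i
        show ψ (pre _) i = ψ (pre u) ((ρ' _)⁻¹ i)
        rw [show pre _ = (g : P) • pre u from e.injective (Subtype.ext (hpre _)), he']
        simp [ρ']

end IsConjModule

end Module

end CfsgLib.PMinFF
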