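import Cfsg.Agent.PMinFF.LemmaD

/-!
Two minimal quadratic offenders generating a `p`-group commute.
-/

set_option autoImplicit false
set_option linter.style.haveILetI false
set_option linter.unusedSectionVars false

namespace CfsgLib.PMinFF

open Subgroup Matrix CfsgLib.OffGen CfsgLib.SL2Pair

variable {P : Type*} [Group P] [Finite P]
variable {V : Type*} [AddCommGroup V] [Finite V] [DistribMulAction P V]

theorem Mem.one_lt_card {p : ℕ} {A : Subgroup P} (h : Mem V p A) : 1 < Nat.card A := by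
  haveI : Nontrivial A := (Subgroup.nontrivial_iff_ne_bot A).2 h.ne
  exact Finite.one_lt_card

/-- In a subgroup of order two all nontrivial elements coincide. -/
theorem eq_of_card_two {A : Subgroup P} (h : Nat.card A ≤ 2) {x y : P} (hx : x ∈ A) (hy : y ∈ A)
    (hx1 : x ≠ 1) (hy1 : y ≠ 1) : x = y := by
  classical
  haveI := Fintype.ofFinite A
  by_contra hne
  have : ({(1 : A), ⟨x, hx⟩, ⟨y, hy⟩} : Finset A).card ≤ 2 :=
    (Finset.card_le_univ _).trans (by rwa [← Nat.card_eq_fintype_card])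
  rw [Finset.card_insert_of_notMem, Finset.card_insert_of_notMem, Finset.card_singleton] at this
  · omega
  · simpa [Subtype.ext_iff] using hne
  · simp [Subtype.ext_iff, hx1.symm, hy1.symm]

/-- The nonzero values of a transvection coincide. -/
theorem value_unique {p : ℕ} {B : Subgroup P} (hB : Mem V p B) (h2 : Nat.card B ≤ 2) {c : P}
    (hc : c ∈ B) {v w : V} (hv : c • v ≠ v) (hw : c • w ≠ w) : c • v - v = c • w - w := by
  have hi : (fix V B).index = 2 := by
    have h1 := (fix V B).card_mul_index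
    have h3 : Nat.card V ≤ Nat.card (fix V B) * 2 :=
      hB.bound.trans (by rw [meas, mul_comm]; exact Nat.mul_le_mul_left _ h2)
    rw [← h1] at h3
    have h4 : (fix V B).index ≤ 2 := Nat.le_of_mul_le_mul_left h3 Nat.card_pos
    have h5 : (fix V B).index ≠ 1 := fun h => hv ((AddSubgroup.index_eq_one.1 h ▸
      AddSubgroup.mem_top v : v ∈ fix V B) c hc)
    have h6 : (fix V B).index ≠ 0 := AddSubgroup.index_ne_zero_of_finite
    omega
  have hsub : v - w ∈ fix V B := by
    rw [sub_eq_add_neg, AddSubgroup.add_mem_iff_of_index_two hi, neg_mem_iff]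
    exact ⟨fun h => absurd (h c hc) hv, fun h => absurd (h c hc) hw⟩
  have := hsub c hc
  rw [smul_sub] at this
  exact sub_eq_sub_iff_sub_eq_sub.2 this

namespace Hyp

variable {p : ℕ} [Fact p.Prime] {T : Sylow p P} {M : Subgroup P} (H : Hyp V p T M)

include H

theorem smul_fix_of_commute {B : Subgroup P} (hB : Mem V p B) {a c : P} (hc : c ∈ B) (hc1 : c ≠ 1)
    (hac : a * c = c * a) : a ∈ normalizer (B : Set P) :=
  H.mem_normalizer_of_fix hB fun v hv => H.key hB hc hc1 (by
    rw [← mul_smul, ← hac, mul_smul, hv c hc])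

/-- Elements normalizing a member with a field of at least three elements, as coefficient equations. -/
theorem coeff_eq {F : Type} [Field F] [Finite F] {A L : Subgroup P} (b : Block V F A L) {n : P}
    (hn : cj n A = A) {v : V} (hv : n • v - v ∈ fix V A) (hv1 : b.ψ v 1 ≠ 0)
    (hval : ∀ a ∈ A, b.ψ (n • (a • v - v)) = b.ψ (a • v - v)) : ∀ a ∈ A, a * n = n * a := by
  intro a ha
  obtain ⟨α, rfl⟩ := b.exists_a ha
  have hmem : n * b.a α * n⁻¹ ∈ A := by
    have := conj_mem_cj (g := n) (b.a_mem α)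
    rwa [hn] at this
  obtain ⟨β, hβ⟩ := b.exists_a hmem
  have hfix : n • v - v ∈ fix V A := hv
  have h1 : n • (b.a α • v - v) = b.a β • v - v := by
    have e1 : b.a β • (n • v) = n • (b.a α • v) := by
      rw [← hβ, mul_smul, mul_smul, inv_smul_smul]
    have e2 := hfix _ (b.a_mem β)
    rw [smul_sub, e1, sub_eq_sub_iff_sub_eq_sub, ← smul_sub] at e2
    exact e2
  have h2 := hval _ (b.a_mem α)
  rw [h1] at h2
  have h3 := congrFun h2 0
  simp [Block.psi_a] at h3
  rcases h3 with h3 | h3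
  · rw [h3, mul_inv_eq_iff_eq_mul] at hβ
    exact hβ.symm
  · exact absurd h3 hv1

theorem normalizes_of_conj_commute {A B : Subgroup P} (hA : Mem V p A) (hB : Mem V p B)
    (hAb : ∀ c ∈ B, ∀ a ∈ A, ∀ x ∈ cj c A, a * x = x * a) (hq : 2 < Nat.card A) :
    B ≤ normalizer (A : Set P) := by
  classical
  obtain ⟨F, iF, iFt, L, ⟨b⟩⟩ := H.exists_block hA
  have hqF : 2 < Nat.card F := b.card_A ▸ hq
  by_contra hBN
  obtain ⟨b₀, hb₀, hb₀N⟩ := SetLike.not_le_iff_exists.1 hBN
  set u := b.E hqF 1 with hu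
  have hcu : ∀ c ∈ B, c ∉ normalizer (A : Set P) → ∀ w ∈ com V A, c • w ∈ fix V L :=
    fun c hc hcN w hw => H.com_le_fix_block b hA (hA.cj c) (hAb c hc)
      (fun e => hcN (mem_normalizer_iff_cj.2 e.symm)) hqF (smul_mem_com_cj hw)
  have huL : u ∉ fix V L := fun h => by
    have := congrFun ((b.ker _).2 h) 0
    simp [hu, b.psi_E hqF] at this
  have hprod : ∀ c ∈ B, ∀ d ∈ B, c ∉ normalizer (A : Set P) → d ∉ normalizer (A : Set P) →
      c * d ∈ normalizer (A : Set P) := by
    intro c hc d hd hcN hdN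
    by_contra hcd
    have h1 := hB.quad d hd c hc u
    rw [smul_sub, ← mul_smul, sub_eq_sub_iff_add_eq_add] at h1
    refine huL ?_
    have h2 : u = d • u + c • u - (c * d) • u := eq_sub_of_add_eq' h1
    rw [h2]
    exact (fix V L).sub_mem ((fix V L).add_mem (hcu d hd hdN _ (b.E_mem_com hqF 1))
      (hcu c hc hcN _ (b.E_mem_com hqF 1))) (hcu _ (mul_mem hc hd) hcd _ (b.E_mem_com hqF 1))
  have hp : p = 2 := by
    by_contra hp
    obtain ⟨k, hk⟩ := (Fact.out : p.Prime).odd_of_ne_two hp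
    refine hb₀N ?_
    have h1 : (b₀ * b₀) ^ (k + 1) = b₀ := by
      rw [← pow_two, ← pow_mul, show 2 * (k + 1) = p + 1 by omega, pow_succ, hB.elem.pow _ hb₀,
        one_mul]
    rw [← h1]
    exact pow_mem (hprod _ hb₀ _ hb₀ hb₀N hb₀N) _
  subst hp
  have hsq : ∀ c ∈ B, c⁻¹ = c := fun c hc =>
    inv_eq_of_mul_eq_one_right (by rw [← pow_two]; exact hB.elem.pow c hc)
  have hcent : ∀ n ∈ B, n ∈ normalizer (A : Set P) → ∀ a ∈ A, a * n = n * a := by
    intro n hn hnN
    have hnA := mem_normalizer_iff_cj.1 hnN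
    obtain ⟨v₁, hv₁⟩ := b.surj ![0, 1]
    have hpres : ∀ x ∈ fix V A, n • x ∈ fix V A := fun x hx => by
      rw [← hnA, mem_fix_cj, inv_smul_smul]; exact hx
    obtain ⟨v, hv, hv1⟩ : ∃ v, n • v - v ∈ fix V A ∧ b.ψ v 1 ≠ 0 := by
      by_cases h : n • v₁ - v₁ ∈ fix V A
      · exact ⟨v₁, h, by simp [hv₁]⟩
      · refine ⟨n • v₁ - v₁, ?_, fun e => h ((b.fix_eq _).2 e)⟩
        have h2 := H.exp (n • v₁ - v₁)
        rw [two_nsmul] at h2
        have h3 : n • (n • v₁ - v₁) = -(n • v₁ - v₁) := by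
          rw [smul_sub, ← mul_smul, ← pow_two, hB.elem.pow n hn, one_smul, neg_sub]
        rw [h3, neg_eq_of_add_eq_zero_left h2, sub_self]
        exact zero_mem _
    refine H.coeff_eq b hnA hv hv1 fun a ha => ?_
    set x := a • v - v
    have hx : x ∈ com V A := mem_com ha v
    have h1 : n • x - x ∈ com V A := by
      have := smul_mem_com_cj (g := n) hx
      rw [hnA] at this
      exact sub_mem this hx
    have h2 := hcu b₀ hb₀ hb₀N _ h1
    rw [hB.quad n hn b₀ hb₀ x] at h2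
    rw [← sub_eq_zero, ← map_sub]
    exact (b.ker _).2 h2
  by_cases hS : ∃ c ∈ B, c ∈ normalizer (A : Set P) ∧ c ≠ 1
  · obtain ⟨c, hc, hcN, hc1⟩ := hS
    have hAB : ∀ a ∈ A, a ∈ normalizer (B : Set P) := fun a ha =>
      H.smul_fix_of_commute hB hc hc1 (hcent c hc hcN a ha)
    obtain ⟨a, ha, hne⟩ : ∃ a ∈ A, a * b₀ ≠ b₀ * a := by
      by_contra hcon
      push Not at hcon
      exact hb₀N (mem_normalizer_of_le (by
        rintro - ⟨a, ha, rfl⟩; simpa [← hcon a ha, mul_assoc] using ha))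
    set d := b₀ * (a * b₀⁻¹ * a⁻¹) with hd
    have hdB : d ∈ B := mul_mem hb₀ (((mem_normalizer_iff.1 (hAB a ha)) _).1 (inv_mem hb₀))
    have hd1 : d ≠ 1 := fun e => hne (by
      have h1 : Commute a b₀⁻¹ :=
        calc a * b₀⁻¹ = b₀⁻¹ * (b₀ * (a * b₀⁻¹ * a⁻¹)) * a := by group
          _ = b₀⁻¹ * a := by rw [← hd, e, mul_one]
      exact Commute.inv_right_iff.1 h1)
    have hdu : d • u = u := by
      have hne' : A ≠ cj b₀ A := fun e => hb₀N (mem_normalizer_iff_cj.2 e.symm)
      have h1 := H.com_le_fix_pair hA (hA.cj b₀) (hAb b₀ hb₀) hne' (b.E_mem_com hqF 1) _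
        (conj_mem_cj (g := b₀) ha)
      have h2 := b.E_mem_fix hqF 1 _ (inv_mem ha)
      rw [hd, ← mul_assoc, ← mul_assoc, mul_smul, h2, h1]
    refine huL ?_
    have h3 := H.key hB hdB hd1 hdu b₀ hb₀
    rw [← h3]
    exact hcu b₀ hb₀ hb₀N _ (b.E_mem_com hqF 1)
  · push Not at hS
    have hB2 : Nat.card B ≤ 2 := by
      refine (Nat.card_le_card_of_injective (fun c : B => decide ((c : P) = 1)) ?_).trans (by simp)
      intro c d h
      simp only [decide_eq_decide] at h
      refine Subtype.ext ?_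
      by_cases hc : (c : P) = 1
      · rw [hc, h.1 hc]
      · have hd : (d : P) ≠ 1 := fun e => hc (h.2 e)
        have hcN : (c : P) ∉ normalizer (A : Set P) := fun e => hc (hS c c.2 e)
        have hdN : (d : P) ∉ normalizer (A : Set P) := fun e => hd (hS d d.2 e)
        have := hS _ (mul_mem c.2 d.2) (hprod c c.2 d d.2 hcN hdN)
        rw [mul_eq_one_iff_eq_inv, hsq d d.2] at this
        exact this
    have hne' : A ≠ cj b₀ A := fun e => hb₀N (mem_normalizer_iff_cj.2 e.symm)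
    obtain ⟨y, hy, hyA⟩ : ∃ y ∈ fix V (cj b₀ A), y ∉ fix V A := by
      by_contra hcon
      push Not at hcon
      exact hne' (H.eq_of_fix_eq (hA.cj b₀) hA
        (AddSubgroup.eq_of_le_of_card_ge hcon (card_fix_cj b₀ A).ge)).symm
    have hby : b₀ • y ∈ fix V A := by
      rw [mem_fix_cj, hsq b₀ hb₀] at hy
      exact hy
    have h1 : b₀ • u ∈ fix V L := hcu b₀ hb₀ hb₀N _ (b.E_mem_com hqF 1)
    have h2 : b₀ • u ≠ u := fun e => huL (e ▸ h1)
    have h3 : b₀ • y ≠ y := fun e => hyA (e ▸ hby)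
    have h4 := value_unique hB hB2 hb₀ h3 h2
    refine hyA ?_
    have h5 : b₀ • u - u ∈ fix V A := (fix V A).sub_mem (b.fix_le h1) (b.E_mem_fix hqF 1)
    rw [← h4] at h5
    simpa using (fix V A).sub_mem hby h5

theorem commute_two {A B : Subgroup P} (hA : Mem V p A) (hB : Mem V p B)
    (hq : 2 < Nat.card A) (h2 : Nat.card B ≤ 2) (hN : B ≤ normalizer (A : Set P)) :
    ∀ a ∈ A, ∀ c ∈ B, a * c = c * a := by
  obtain ⟨F, iF, iFt, L, ⟨b⟩⟩ := H.exists_block hA
  have hqF : 2 < Nat.card F := b.card_A ▸ hq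
  intro a ha c hc
  by_cases hc1 : c = 1
  · rw [hc1, mul_one, one_mul]
  have hcc : c * c = 1 := by
    by_contra h
    exact hc1 (mul_left_cancel (a := c)
      ((eq_of_card_two h2 (mul_mem hc hc) hc h hc1).trans (mul_one c).symm))
  have hcA := mem_normalizer_iff_cj.1 (hN hc)
  have hpres : ∀ x ∈ fix V A, c • x ∈ fix V A := fun x hx => by
    rw [← hcA, mem_fix_cj, inv_smul_smul]; exact hx
  obtain ⟨v₁, hv₁⟩ := b.surj ![0, 1]
  by_cases hcase : ∃ y : V, c • y - y ∉ fix V A
  · obtain ⟨y, hy⟩ := hcase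
    have hfix : ∀ x ∈ fix V A, c • x = x := by
      intro x hx
      by_contra hne
      exact hy (value_unique hB h2 hc (fun e => hy (by rw [e, sub_self]; exact zero_mem _)) hne ▸
        (fix V A).sub_mem (hpres x hx) hx)
    obtain ⟨v, hv, hv1⟩ : ∃ v, c • v - v ∈ fix V A ∧ b.ψ v 1 ≠ 0 := by
      by_cases h : c • v₁ - v₁ ∈ fix V A
      · exact ⟨v₁, h, by simp [hv₁]⟩
      · refine ⟨c • v₁ - v₁, ?_, fun e => h ((b.fix_eq _).2 e)⟩
        rw [hB.quad c hc c hc v₁, sub_self]
        exact zero_mem _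
    exact H.coeff_eq b hcA hv hv1
      (fun a ha => by rw [hfix _ (hA.com_le_fix (mem_com ha v))]) a ha
  · push Not at hcase
    obtain ⟨α, rfl⟩ := b.exists_a ha
    have hmem : c * b.a α * c⁻¹ ∈ A := by
      have := conj_mem_cj (g := c) (b.a_mem α)
      rwa [hcA] at this
    obtain ⟨β, hβ⟩ := b.exists_a hmem
    by_cases hab : β = α
    · rw [hab, mul_inv_eq_iff_eq_mul] at hβ
      exact hβ.symm
    exfalso
    have hval : ∀ v : V, c • (b.a α • v - v) - (b.a α • v - v) =
        (b.a β • v - v) - (b.a α • v - v) := by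
      intro v
      congr 1
      have e1 : b.a β • (c • v) = c • (b.a α • v) := by
        rw [← hβ, mul_smul, mul_smul, inv_smul_smul]
      have e2 := hcase v _ (b.a_mem β)
      rw [smul_sub, e1, sub_eq_sub_iff_sub_eq_sub, ← smul_sub] at e2
      exact e2
    have hpsi : ∀ y, b.ψ (c • (b.a α • b.f hqF y - b.f hqF y) -
        (b.a α • b.f hqF y - b.f hqF y)) 0 = (β - α) * y := fun y => by
      rw [hval]
      simp [Block.psi_a, b.psi_f hqF]
      ring
    obtain ⟨u, hu⟩ := b.exists_unit hqF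
    have hne : ∀ y, y ≠ 0 → c • (b.a α • b.f hqF y - b.f hqF y) ≠
        b.a α • b.f hqF y - b.f hqF y := by
      intro y hy e
      have := hpsi y
      rw [e, sub_self, map_zero, Pi.zero_apply] at this
      exact mul_ne_zero (sub_ne_zero.2 hab) hy this.symm
    have h1 := congrArg (fun z => b.ψ z 0)
      (value_unique hB h2 hc (hne 1 one_ne_zero) (hne u (Units.ne_zero u)))
    simp only [hpsi] at h1
    exact hu (mul_left_cancel₀ (sub_ne_zero.2 hab) h1).symm

theorem commute_two_two {A B : Subgroup P} (hA : Mem V p A) (hB : Mem V p B)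
    (hAb : ∀ c ∈ B, ∀ a ∈ A, ∀ x ∈ cj c A, a * x = x * a)
    (h1 : Nat.card A ≤ 2) (h2 : Nat.card B ≤ 2) : ∀ a ∈ A, ∀ c ∈ B, a * c = c * a := by
  intro a ha c hc
  by_cases ha1 : a = 1
  · rw [ha1, mul_one, one_mul]
  by_cases hc1 : c = 1
  · rw [hc1, mul_one, one_mul]
  by_contra hne
  have hcnorm : c ∉ normalizer (A : Set P) := fun h => hne (by
    have hm : c * a * c⁻¹ ∈ A := (mem_normalizer_iff.1 h a).1 ha
    have := eq_of_card_two h1 hm ha (by simpa using ha1) ha1
    exact (mul_inv_eq_iff_eq_mul.1 this).symm)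
  have hanorm : a ∉ normalizer (B : Set P) := fun h => hne (by
    have hm : a * c * a⁻¹ ∈ B := (mem_normalizer_iff.1 h c).1 hc
    have := eq_of_card_two h2 hm hc (by simpa using hc1) hc1
    exact mul_inv_eq_iff_eq_mul.1 this)
  obtain ⟨v, hv, hcv⟩ : ∃ v ∈ fix V A, c • v ∉ fix V A := by
    by_contra hcon
    push Not at hcon
    exact hcnorm (H.mem_normalizer_of_fix hA hcon)
  obtain ⟨w, hw, haw⟩ : ∃ w ∈ fix V B, a • w ∉ fix V B := by
    by_contra hcon
    push Not at hcon
    exact hanorm (H.mem_normalizer_of_fix hB hcon)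
  have hne' : cj c A ≠ A := fun e => hcnorm (mem_normalizer_iff_cj.2 e)
  set e := a • w - w with he
  have h3 : c • e ∈ fix V A := H.com_le_fix_pair (hA.cj c) hA
    (fun x hx y hy => (hAb c hc y hy x hx).symm) hne' (smul_mem_com_cj (mem_com ha w))
  have he1 : c • e ≠ e := by
    intro h
    refine haw ?_
    have h5 : e ∈ fix V B := H.key hB hc hc1 h
    simpa [he] using (fix V B).add_mem h5 hw
  have h4 := value_unique hB h2 hc he1 (fun h => hcv (h.symm ▸ hv : c • v ∈ fix V A))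
  refine hcv ?_
  have h6 : c • v - v ∈ fix V A := h4 ▸ (fix V A).sub_mem h3 (hA.com_le_fix (mem_com ha w))
  simpa using (fix V A).add_mem h6 hv

theorem commute_of_pGroup {A B : Subgroup P} (hA : Mem V p A) (hB : Mem V p B)
    (hp : IsPGroup p ↥(A ⊔ B)) : ∀ a ∈ A, ∀ c ∈ B, a * c = c * a := by
  induction h : Nat.card ↥(A ⊔ B) using Nat.strong_induction_on generalizing A B with
  | _ n ih =>
    subst h
    by_cases hBA : B ≤ A
    · exact fun a ha c hc => hA.elem.comm a ha c (hBA hc)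
    by_cases hAB : A ≤ B
    · exact fun a ha c hc => hB.elem.comm a (hAB ha) c hc
    have hlt : ∀ {C D : Subgroup P}, C < D → Nat.card C < Nat.card D := fun {C D} hCD =>
      lt_of_le_of_ne (Subgroup.card_le_of_le hCD.le)
        fun e => hCD.ne (Subgroup.eq_of_le_of_card_ge hCD.le e.ge)
    have hAb : ∀ c ∈ B, ∀ a ∈ A, ∀ x ∈ cj c A, a * x = x * a := fun c hc =>
      ih _ (hlt (conj_sup_lt hp hBA (mem_sup_right hc))) hA (hA.cj c)
        (hp.to_le (conj_sup_lt hp hBA (mem_sup_right hc)).le) rfl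
    have hp' : IsPGroup p ↥(B ⊔ A) := by rwa [sup_comm]
    have hBa : ∀ c ∈ A, ∀ a ∈ B, ∀ x ∈ cj c B, a * x = x * a := fun c hc =>
      ih _ ((hlt (conj_sup_lt hp' hAB (mem_sup_right hc))).trans_eq (by rw [sup_comm])) hB (hB.cj c)
        (hp'.to_le (conj_sup_lt hp' hAB (mem_sup_right hc)).le) rfl
    by_cases hqA : 2 < Nat.card A
    · have hNA := H.normalizes_of_conj_commute hA hB hAb hqA
      by_cases hqB : 2 < Nat.card B
      · have hNB := H.normalizes_of_conj_commute hB hA hBa hqB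
        intro a ha c hc
        have h1 : a * c * a⁻¹ * c⁻¹ ∈ A ⊓ B := by
          refine ⟨?_, B.mul_mem ((mem_normalizer_iff.1 (hNB ha) c).1 hc) (B.inv_mem hc)⟩
          rw [mul_assoc, mul_assoc, ← mul_assoc c a⁻¹]
          exact A.mul_mem ha ((mem_normalizer_iff.1 (hNA hc) _).1 (A.inv_mem ha))
        rw [H.inf_eq_bot_of_ne hA hB (fun e => hBA e.ge), mem_bot, mul_inv_eq_one,
          mul_inv_eq_iff_eq_mul] at h1
        exact h1
      · exact H.commute_two hA hB hqA (not_lt.1 hqB) hNA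
    · by_cases hqB : 2 < Nat.card B
      · have hNB := H.normalizes_of_conj_commute hB hA hBa hqB
        intro a ha c hc
        exact (H.commute_two hB hA hqB (not_lt.1 hqA) hNB c hc a ha).symm
      · exact H.commute_two_two hA hB hAb (not_lt.1 hqA) (not_lt.1 hqB)

end Hyp

end CfsgLib.PMinFF
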