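import Cfsg.Agent.PMinFF.Count

/-!
Coordinates on the commutator space of a block with more than three elements in the field or two.
-/

set_option autoImplicit false
set_option linter.style.haveILetI false
set_option linter.unusedSectionVars false

namespace CfsgLib.PMinFF

open Subgroup Matrix CfsgLib.OffGen CfsgLib.SL2Pair

variable {P : Type*} [Group P] [Finite P]
variable {V : Type*} [AddCommGroup V] [Finite V] [DistribMulAction P V]

theorem eq_zero_of_add_self {p : ℕ} [Fact p.Prime] (hp : p ≠ 2) (hexp : ∀ w : V, p • w = 0)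
    {x : V} (h : x + x = 0) : x = 0 := by
  obtain ⟨k, hk⟩ := (Fact.out : p.Prime).odd_of_ne_two hp
  have := hexp x
  rw [hk, add_nsmul, mul_nsmul, two_nsmul, h, nsmul_zero, zero_add, one_nsmul] at this
  exact this

theorem com_sup (A B : Subgroup P) : com V (A ⊔ B) = com V A ⊔ com V B := by
  refine le_antisymm (com_le.2 fun g hg => ?_) (sup_le (com_mono le_sup_left) (com_mono le_sup_right))
  rw [Subgroup.sup_eq_closure] at hg
  induction hg using Subgroup.closure_induction with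
  | mem y hy =>
    intro v
    rcases hy with hy | hy
    · exact AddSubgroup.mem_sup_left (mem_com hy v)
    · exact AddSubgroup.mem_sup_right (mem_com hy v)
  | one => intro v; simp
  | mul y z _ _ hy hz =>
    intro v
    have := add_mem (hy (z • v)) (hz v)
    rwa [sub_add_sub_cancel, ← mul_smul] at this
  | inv y _ hy =>
    intro v
    have := neg_mem (hy (y⁻¹ • v))
    rwa [smul_inv_smul, neg_sub] at this

theorem smul_mem_com_self {A : Subgroup P} {g : P} (hg : g ∈ A) {v : V} (hv : v ∈ com V A) :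
    g • v ∈ com V A := by
  simpa [cj_self hg] using smul_mem_com_cj (g := g) hv

namespace Block

variable {F : Type} [Field F] [Finite F] {A L : Subgroup P} (b : Block V F A L)

/-- `[V, A]` and the fixed points of `L`. -/
def R₀ (_b : Block V F A L) : AddSubgroup V := fix V L ⊓ com V A

include b

theorem h_mul (c d : Fˣ) : b.h c * b.h d = b.h (c * d) := by
  rw [h, h, h, ← el_mul]
  congr 1
  ext i j; fin_cases i <;> fin_cases j <;> simp [dS_coe, Matrix.mul_apply, Fin.sum_univ_two, mul_comm]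

theorem h_comm (c d : Fˣ) : b.h c * b.h d = b.h d * b.h c := by rw [h_mul, h_mul, mul_comm]

theorem h_one : b.h 1 = 1 := by
  rw [h, show dS (1 : Fˣ) = 1 by ext i j; fin_cases i <;> fin_cases j <;> simp [dS_coe], el_one]

theorem h_inv (c : Fˣ) : (b.h c)⁻¹ = b.h c⁻¹ :=
  inv_eq_of_mul_eq_one_right (by rw [h_mul, mul_inv_cancel, h_one])

theorem h_a (c : Fˣ) (α : F) : b.h c * b.a α = b.a ((c : F) * c * α) * b.h c := by
  rw [h, a, a, ← el_mul, ← el_mul, dS_up]

theorem h_w (c : Fˣ) : b.h c * b.w = b.w * b.h c⁻¹ := by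
  rw [h, h, w, ← el_mul, ← el_mul, dS_wS]

theorem w_w : b.w * b.w = b.h (-1) := by rw [h, w, ← el_mul, wS_sq]

theorem h_mem (c : Fˣ) : b.h c ∈ L := b.el_mem _

theorem w_mem : b.w ∈ L := b.el_mem _

theorem cj_h (c : Fˣ) : PMinFF.cj (b.h c) A = A := by
  refine cj_eq_of_le ?_
  rintro - ⟨g, hg, rfl⟩
  obtain ⟨α, rfl⟩ := b.exists_a hg
  show b.h c * b.a α * (b.h c)⁻¹ ∈ A
  rw [b.h_a, mul_inv_cancel_right]
  exact b.a_mem _

theorem R₀_le_fix : b.R₀ ≤ fix V L := inf_le_left

theorem smul_R₀ {g : P} (hg : g ∈ L) {r : V} (hr : r ∈ b.R₀) : g • r = r := hr.1 g hg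

variable (hq : 2 < Nat.card F)

include hq

theorem exists_unit : ∃ c : Fˣ, (c : F) ≠ 1 := by
  by_contra hcon
  push Not at hcon
  have hsub : ∀ x : F, x = 0 ∨ x = 1 := fun x => by
    by_cases hx : x = 0
    · exact Or.inl hx
    · exact Or.inr (hcon (Units.mk0 x hx))
  have : Nat.card F ≤ Nat.card Bool := Nat.card_le_card_of_surjective
    (fun t : Bool => if t then (1 : F) else 0) fun x => by
      rcases hsub x with rfl | rfl
      · exact ⟨false, rfl⟩
      · exact ⟨true, rfl⟩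
  simp at this
  omega

/-- A torus parameter different from one. -/
noncomputable def c₀ : Fˣ := (b.exists_unit hq).choose

theorem c₀_sub : ((b.c₀ hq : Fˣ) : F) - 1 ≠ 0 := sub_ne_zero.2 (b.exists_unit hq).choose_spec

/-- The lift of `(s, 0)` in `[V, h]`. -/
noncomputable def E (s : F) : V :=
  b.h (b.c₀ hq) • Function.surjInv b.surj ![s / ((b.c₀ hq : F) - 1), 0] -
    Function.surjInv b.surj ![s / ((b.c₀ hq : F) - 1), 0]

theorem E_eq {s : F} {u : V} (hu : b.ψ u = ![s / ((b.c₀ hq : F) - 1), 0]) :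
    b.E hq s = b.h (b.c₀ hq) • u - u := by
  set u' := Function.surjInv b.surj ![s / ((b.c₀ hq : F) - 1), 0] with hu'
  have hz : u' - u ∈ fix V L := (b.ker _).1 (by
    rw [map_sub, hu, hu', Function.surjInv_eq b.surj, sub_self])
  have h1 := hz _ (b.h_mem (b.c₀ hq))
  rw [smul_sub] at h1
  show b.h (b.c₀ hq) • u' - u' = b.h (b.c₀ hq) • u - u
  rw [eq_comm, sub_eq_sub_iff_sub_eq_sub, ← neg_sub (b.h (b.c₀ hq) • u') (b.h (b.c₀ hq) • u),
    h1, neg_sub]

theorem psi_E (s : F) : b.ψ (b.E hq s) = ![s, 0] := by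
  have hc := b.c₀_sub hq
  rw [E, map_sub, psi_h, Function.surjInv_eq b.surj]
  ext i; fin_cases i <;> simp
  field_simp

theorem E_add (s t : F) : b.E hq (s + t) = b.E hq s + b.E hq t := by
  obtain ⟨u, hu⟩ := b.surj ![s / ((b.c₀ hq : F) - 1), 0]
  obtain ⟨v, hv⟩ := b.surj ![t / ((b.c₀ hq : F) - 1), 0]
  rw [b.E_eq hq hu, b.E_eq hq hv, b.E_eq hq (u := u + v) (by
    rw [map_add, hu, hv]; ext i; fin_cases i <;> simp [add_div]), smul_add]
  abel

/-- `E` as an additive map. -/
noncomputable def EHom : F →+ V := AddMonoidHom.mk' (b.E hq) (b.E_add hq)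

theorem EHom_apply (s : F) : b.EHom hq s = b.E hq s := rfl

theorem E_zero : b.E hq 0 = 0 := (b.EHom hq).map_zero

theorem E_mem_fix (s : F) : b.E hq s ∈ fix V A := (b.fix_eq _).2 (by rw [b.psi_E hq]; simp)

theorem E_mem_com (s : F) : b.E hq s ∈ com V A := by
  obtain ⟨v, hv⟩ := b.surj ![0, 1]
  set α := s / ((b.c₀ hq : F) - 1)
  have hu : b.ψ (b.a α • v - v) = ![α, 0] := by
    rw [map_sub, psi_a, hv]; ext i; fin_cases i <;> simp
  rw [b.E_eq hq hu]
  exact sub_mem (by
    simpa [b.cj_h] using smul_mem_com_cj (g := b.h (b.c₀ hq)) (mem_com (b.a_mem α) v))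
    (mem_com (b.a_mem α) v)

theorem E_inj : Function.Injective (b.E hq) := fun s t h => by
  simpa [b.psi_E hq] using congrArg (fun u => b.ψ u 0) h

theorem h_E (c : Fˣ) (s : F) : b.h c • b.E hq s = b.E hq ((c : F) * s) := by
  obtain ⟨u, hu⟩ := b.surj ![s / ((b.c₀ hq : F) - 1), 0]
  rw [b.E_eq hq hu, b.E_eq hq (u := b.h c • u) (by
    rw [psi_h, hu]; ext i; fin_cases i <;> simp [mul_div_assoc]), smul_sub, ← mul_smul, h_comm,
    mul_smul]

/-- The opposite coordinate. -/
noncomputable def f (y : F) : V := b.w • b.E hq y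

theorem f_add (y z : F) : b.f hq (y + z) = b.f hq y + b.f hq z := by
  rw [f, f, f, b.E_add hq, smul_add]

theorem f_zero : b.f hq 0 = 0 := by rw [f, b.E_zero hq, smul_zero]

theorem psi_f (y : F) : b.ψ (b.f hq y) = ![0, y] := by
  rw [f, psi_w, b.psi_E hq]
  simp

theorem h_f (c : Fˣ) (y : F) : b.h c • b.f hq y = b.f hq (((c⁻¹ : Fˣ) : F) * y) := by
  rw [f, ← mul_smul, h_w, mul_smul, b.h_E hq, f]

/-- The part of the commutator fixed by `L`. -/
noncomputable def G (α y : F) : V := b.a α • b.f hq y - b.f hq y - b.E hq (α * y)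

theorem value (α y : F) : b.a α • b.f hq y - b.f hq y = b.E hq (α * y) + b.G hq α y := by
  rw [G]; abel

theorem G_mem (α y : F) : b.G hq α y ∈ b.R₀ := by
  refine ⟨(b.ker _).1 ?_, (com V A).sub_mem (mem_com (b.a_mem α) _) (b.E_mem_com hq _)⟩
  rw [G, map_sub, map_sub, psi_a, b.psi_f hq, b.psi_E hq]
  ext i; fin_cases i <;> simp

theorem G_fix (α y : F) : ∀ g ∈ L, g • b.G hq α y = b.G hq α y := fun _ hg =>
  b.smul_R₀ hg (b.G_mem hq α y)

theorem decompose (v : V) : v - b.f hq (b.ψ v 1) ∈ fix V A := by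
  refine (b.fix_eq _).2 ?_
  rw [map_sub, b.psi_f hq]
  simp

theorem value_any (α : F) (v : V) :
    b.a α • v - v = b.E hq (α * b.ψ v 1) + b.G hq α (b.ψ v 1) := by
  rw [← b.value hq]
  have h1 := b.decompose hq v _ (b.a_mem α)
  rw [smul_sub] at h1
  rw [sub_eq_sub_iff_sub_eq_sub, h1]

theorem G_add_right (α y z : F) : b.G hq α (y + z) = b.G hq α y + b.G hq α z := by
  rw [G, G, G, b.f_add hq, mul_add, b.E_add hq, smul_add]; abel

theorem G_add_left (α β y : F) : b.G hq (α + β) y = b.G hq α y + b.G hq β y := by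
  have h1 : b.a β • b.f hq y = b.f hq y + (b.E hq (β * y) + b.G hq β y) := by
    rw [← b.value hq]; abel
  have h2 : b.a α • b.f hq y = b.f hq y + (b.E hq (α * y) + b.G hq α y) := by
    rw [← b.value hq]; abel
  have h3 : b.a α • (b.E hq (β * y) + b.G hq β y) = b.E hq (β * y) + b.G hq β y := by
    rw [smul_add, b.E_mem_fix hq _ _ (b.a_mem α), b.G_fix hq β y _ (b.le (b.a_mem α))]
  have h4 : b.G hq (α + β) y =
      b.a (α + β) • b.f hq y - b.f hq y - b.E hq ((α + β) * y) := rfl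
  rw [h4, a_add, mul_smul, h1, smul_add, h3, h2, add_mul, b.E_add hq]
  abel

theorem G_zero_left (y : F) : b.G hq 0 y = 0 := by
  have := b.G_add_left hq 0 0 y
  rw [add_zero] at this
  exact left_eq_add.1 this

theorem G_zero_right (α : F) : b.G hq α 0 = 0 := by
  have := b.G_add_right hq α 0 0
  rw [add_zero] at this
  exact left_eq_add.1 this

theorem G_conj (c : Fˣ) (α y : F) :
    b.G hq ((c : F) * c * α) (((c⁻¹ : Fˣ) : F) * y) = b.G hq α y := by
  have h1 : b.a ((c : F) * c * α) • b.h c • b.f hq y - b.h c • b.f hq y =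
      b.h c • (b.a α • b.f hq y - b.f hq y) := by
    rw [smul_sub, ← mul_smul, ← mul_smul, h_a]
  rw [b.value hq, smul_add, b.h_E hq, b.G_fix hq α y _ (b.h_mem c), b.h_f hq, b.value hq] at h1
  have h2 : (c : F) * c * α * (((c⁻¹ : Fˣ) : F) * y) = (c : F) * (α * y) := by
    rw [Units.val_inv_eq_inv_val]; field_simp
  rw [h2] at h1
  exact add_left_cancel h1

theorem cast_prime {p : ℕ} (hexp : ∀ w : V, p • w = 0) : (p : F) = 0 := by
  obtain ⟨u, hu⟩ := b.surj ![1, 0]
  have := congrArg (fun z => z 0) (congrArg b.ψ (hexp u))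
  simpa [hu] using this

theorem G_odd {p : ℕ} [Fact p.Prime] (hp : p ≠ 2) (hexp : ∀ w : V, p • w = 0) (α y : F) :
    b.G hq α y = 0 := by
  refine eq_zero_of_add_self hp hexp ?_
  have h1 := b.G_conj hq (-1) α y
  simp at h1
  have h2 := b.G_add_right hq α (-y) y
  rw [neg_add_cancel, b.G_zero_right hq, h1] at h2
  exact h2.symm

theorem G_square (γ y : F) : b.G hq (γ * γ) y = b.G hq 1 (γ * y) := by
  by_cases hγ : γ = 0
  · rw [hγ, mul_zero, zero_mul, b.G_zero_left hq, b.G_zero_right hq]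
  · have := b.G_conj hq (Units.mk0 γ hγ) 1 (γ * y)
    simpa [← mul_assoc, inv_mul_cancel₀ hγ] using this

theorem exists_sqrt (hexp : ∀ w : V, 2 • w = 0) (α : F) : ∃ γ : F, γ * γ = α := by
  have h2 : ringChar F = 2 := by
    refine ((Nat.prime_dvd_prime_iff_eq (CharP.char_is_prime F (ringChar F)) Nat.prime_two).1
      ((CharP.cast_eq_zero_iff F (ringChar F) 2).1 (b.cast_prime hq (p := 2) hexp)))
  obtain ⟨γ, hγ⟩ := FiniteField.isSquare_of_char_two h2 α
  exact ⟨γ, hγ.symm⟩

/-- Elements of `[V, A]` split along `E` and the fixed points of `L`. -/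
theorem com_split {u : V} (hu : u ∈ com V A) : u - b.E hq (b.ψ u 0) ∈ b.R₀ := by
  refine ⟨(b.ker _).1 ?_, (com V A).sub_mem hu (b.E_mem_com hq _)⟩
  have h1 : b.ψ u 1 = 0 := by
    have hmem : com V A ≤ ((Pi.evalAddMonoidHom (fun _ : Fin 2 => F) 1).comp b.ψ).ker := by
      refine com_le.2 fun g hg v => ?_
      obtain ⟨α, rfl⟩ := b.exists_a hg
      show b.ψ (b.a α • v - v) 1 = 0
      simp [psi_a]
    exact hmem hu
  rw [map_sub, b.psi_E hq]
  ext i; fin_cases i <;> simp [h1]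

theorem com_le_of (K : AddSubgroup V) (hE : ∀ s, b.E hq s ∈ K) (hG : ∀ α y, b.G hq α y ∈ K) :
    com V A ≤ K := by
  refine com_le.2 fun g hg v => ?_
  obtain ⟨α, rfl⟩ := b.exists_a hg
  rw [b.value_any hq]
  exact add_mem (hE _) (hG _ _)

theorem com_L_le (K : AddSubgroup V) (hE : ∀ s, b.E hq s ∈ K) (hf : ∀ s, b.f hq s ∈ K)
    (hG : ∀ α y, b.G hq α y ∈ K) : com V L ≤ K := by
  rw [← b.gen, com_sup]
  refine sup_le (b.com_le_of hq K hE hG) ?_
  have hle : com V A ≤ K.comap (DistribSMul.toAddMonoidHom V b.w) := b.com_le_of hq _ hf fun α y => by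
    show b.w • b.G hq α y ∈ K
    rw [b.G_fix hq α y _ b.w_mem]
    exact hG α y
  refine com_le.2 fun g hg v => ?_
  obtain ⟨a, ha, rfl⟩ := hg
  have := hle (mem_com ha (b.w⁻¹ • v))
  simpa [mul_smul, smul_sub] using this

end Block

end CfsgLib.PMinFF
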