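import Cfsg.Agent.PMinFF.Found

/-!
No elementary subgroup exceeds the bound of an offender; consequences for minimal offenders.
-/

set_option autoImplicit false
set_option linter.style.haveILetI false
set_option linter.unusedSectionVars false

namespace CfsgLib.PMinFF

open Subgroup CfsgLib.OffGen

variable {P : Type*} [Group P] [Finite P]
variable {V : Type*} [AddCommGroup V] [Finite V] [DistribMulAction P V]

variable (P) in
/-- The elements fixing `K` pointwise and moving every vector by an element of `K`. -/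
def fixer (K : AddSubgroup V) : Subgroup P where
  carrier := {g | (∀ k ∈ K, g • k = k) ∧ ∀ v : V, g • v - v ∈ K}
  one_mem' := ⟨fun k _ => one_smul P k, fun v => by simp⟩
  mul_mem' := fun {g h} hg hh => ⟨fun k hk => by rw [mul_smul, hh.1 k hk, hg.1 k hk], fun v => by
    have := K.add_mem (hg.2 (h • v)) (hh.2 v)
    rwa [sub_add_sub_cancel, ← mul_smul] at this⟩
  inv_mem' := fun {g} hg => ⟨fun k hk => by rw [inv_smul_eq_iff, hg.1 k hk], fun v => by
    have := K.neg_mem (hg.2 (g⁻¹ • v))
    rwa [smul_inv_smul, neg_sub] at this⟩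

theorem mem_fixer {K : AddSubgroup V} {g : P} :
    g ∈ fixer P K ↔ (∀ k ∈ K, g • k = k) ∧ ∀ v : V, g • v - v ∈ K := Iff.rfl

theorem fixer_elem {p : ℕ} (hexp : ∀ w : V, p • w = 0)
    (hfaith : ∀ g : P, (∀ w : V, g • w = w) → g = 1) (K : AddSubgroup V) :
    Elem p (fixer P K) := by
  have hadd : ∀ g ∈ fixer P K, ∀ h ∈ fixer P K, ∀ v : V,
      (g * h) • v = (g • v - v) + (h • v - v) + v := by
    intro g hg h hh v
    have := hg.1 _ (hh.2 v)
    rw [smul_sub] at this
    rw [mul_smul, eq_add_of_sub_eq this]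
    abel
  refine ⟨fun g hg h hh => ?_, fun g hg => ?_⟩
  · refine inv_mul_eq_one.1 (hfaith _ fun v => ?_)
    rw [mul_smul, inv_smul_eq_iff, hadd g hg h hh, hadd h hh g hg]
    abel
  · refine hfaith _ fun v => ?_
    have hpow : ∀ n : ℕ, g ^ n • v = v + n • (g • v - v) := by
      intro n
      induction n with
      | zero => simp
      | succ n ih =>
        rw [pow_succ', mul_smul, ih, smul_add, succ_nsmul, hg.1 _ (K.nsmul_mem (hg.2 v) n)]
        abel
    rw [hpow, hexp, add_zero]

namespace Hyp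

variable {p : ℕ} [Fact p.Prime] {T : Sylow p P} {M : Subgroup P} (H : Hyp V p T M)

include H

theorem meas_le {B : Subgroup P} (hB : Elem p B) : meas V B ≤ Nat.card V := by
  by_contra hcon
  push Not at hcon
  have hne : B ≠ ⊥ := fun e => by rw [e, meas_bot] at hcon; exact lt_irrefl _ hcon
  obtain ⟨A, -, hA, hBA⟩ := exists_mem_le H.exp H.faithful hB hne hcon.le
  obtain ⟨F, iF, iFt, L, ⟨b⟩⟩ := H.exists_block hA
  rw [b.card_eq] at hBA
  exact hcon.not_ge hBA

theorem card_fixer_le (K : AddSubgroup V) :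
    Nat.card (fixer P K) * Nat.card K ≤ Nat.card V :=
  (Nat.mul_le_mul_left _ (AddSubgroup.card_le_of_le fun k hk g hg => hg.1 k hk)).trans
    (H.meas_le (fixer_elem H.exp H.faithful K))

theorem fixer_eq {K : AddSubgroup V} {D : Subgroup P} (hD : D ≤ fixer P K)
    (hcard : Nat.card V ≤ Nat.card D * Nat.card K) : fixer P K = D :=
  (Subgroup.eq_of_le_of_card_ge hD
    (Nat.le_of_mul_le_mul_right ((H.card_fixer_le K).trans hcard) Nat.card_pos)).symm

theorem card_eq {A : Subgroup P} (hA : Mem V p A) : meas V A = Nat.card V :=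
  le_antisymm (H.meas_le hA.elem) hA.bound

theorem key {A : Subgroup P} (hA : Mem V p A) {g : P} (hg : g ∈ A) (hg1 : g ≠ 1) {v : V}
    (hv : g • v = v) : v ∈ fix V A := by
  obtain ⟨F, iF, iFt, L, ⟨b⟩⟩ := H.exists_block hA
  exact b.key hg hg1 hv

theorem fixer_fix {A : Subgroup P} (hA : Mem V p A) : fixer P (fix V A) = A :=
  H.fixer_eq (fun a ha => ⟨fun k hk => hk a ha, fun v => hA.com_le_fix (mem_com ha v)⟩) hA.bound

theorem eq_of_fix_eq {A B : Subgroup P} (hA : Mem V p A) (hB : Mem V p B)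
    (h : fix V A = fix V B) : A = B := by
  rw [← H.fixer_fix hA, ← H.fixer_fix hB, h]

theorem mem_normalizer_of_fix {A : Subgroup P} (hA : Mem V p A) {g : P}
    (hg : ∀ v ∈ fix V A, g • v ∈ fix V A) : g ∈ normalizer (A : Set P) := by
  refine mem_normalizer_iff_cj.2 (H.eq_of_fix_eq (hA.cj g) hA ?_)
  have hle : fix V A ≤ fix V (PMinFF.cj g A) := by
    intro v hv
    rw [mem_fix_cj]
    have hmaps : Set.MapsTo (g • · : V → V) (fix V A : Set V) (fix V A) := hg
    obtain ⟨w, hw, rfl⟩ := ((Set.toFinite (fix V A : Set V)).injOn_iff_bijOn_of_mapsTo hmaps).1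
      (MulAction.injective g).injOn |>.surjOn hv
    simpa using hw
  exact (AddSubgroup.eq_of_le_of_card_ge hle (card_fix_cj g A).le).symm

theorem eq_of_common {A B : Subgroup P} (hA : Mem V p A) (hB : Mem V p B) {g : P} (hgA : g ∈ A)
    (hgB : g ∈ B) (hg : g ≠ 1) : A = B := by
  refine H.eq_of_fix_eq hA hB (le_antisymm (fun v hv => ?_) fun v hv => ?_)
  · exact H.key hB hgB hg (hv g hgA)
  · exact H.key hA hgA hg (hv g hgB)

theorem inf_eq_bot_of_ne {A B : Subgroup P} (hA : Mem V p A) (hB : Mem V p B) (h : A ≠ B) :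
    A ⊓ B = ⊥ := by
  rw [eq_bot_iff_forall]
  intro g hg
  by_contra hg1
  exact h (H.eq_of_common hA hB hg.1 hg.2 hg1)

section Commuting

variable {A B : Subgroup P} (hA : Mem V p A) (hB : Mem V p B)
  (hc : ∀ a ∈ A, ∀ c ∈ B, a * c = c * a) (hne : A ≠ B)

include hA hB hc hne

/-- Two commuting members: the fixed spaces span the module and the bound is attained. -/
theorem pair_card : (∀ v : V, ∃ x ∈ fix V A, ∃ y ∈ fix V B, v = x + y) ∧
    Nat.card V ≤ Nat.card A * Nat.card B * Nat.card ↥(fix V A ⊓ fix V B) := by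
  have hD : fix V (A ⊔ B) = fix V A ⊓ fix V B := by ext v; exact mem_fix_sup
  have hle := H.meas_le (hA.elem.sup hB.elem hc)
  have hinf := CfsgLib.Offender.card_inf_mul_card_sup A B
  rw [H.inf_eq_bot_of_ne hA hB hne, Subgroup.card_bot, one_mul] at hinf
  rw [meas, hD] at hle
  set K := fix V A ⊓ fix V B with hK
  let f : fix V A × fix V B →+ V :=
    (fix V A).subtype.comp (AddMonoidHom.fst _ _) + (fix V B).subtype.comp (AddMonoidHom.snd _ _)
  have hfapp : ∀ z, f z = (z.1 : V) + z.2 := fun z => rfl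
  have hker : Nat.card f.ker ≤ Nat.card K := by
    refine Nat.card_le_card_of_injective (fun z : f.ker => (⟨((z : fix V A × fix V B).1 : V),
      (z : fix V A × fix V B).1.2, ?_⟩ : K)) fun z z' h => ?_
    · have h0 : ((z : fix V A × fix V B).1 : V) + (z : fix V A × fix V B).2 = 0 := z.2
      rw [eq_neg_of_add_eq_zero_left h0]
      exact (fix V B).neg_mem (z : fix V A × fix V B).2.2
    · have h0 : ((z : fix V A × fix V B).1 : V) + (z : fix V A × fix V B).2 = 0 := z.2
      have h1 : ((z' : fix V A × fix V B).1 : V) + (z' : fix V A × fix V B).2 = 0 := z'.2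
      have h2 : ((z : fix V A × fix V B).1 : V) = (z' : fix V A × fix V B).1 :=
        (congrArg (fun t : K => (t : V)) h :)
      rw [h2, ← h1] at h0
      exact Subtype.ext (Prod.ext (Subtype.ext h2) (Subtype.ext (add_left_cancel h0)))
  have hsplit : Nat.card (fix V A) * Nat.card (fix V B) = Nat.card f.range * Nat.card f.ker := by
    rw [← Nat.card_prod, AddSubgroup.card_eq_card_quotient_mul_card_addSubgroup f.ker,
      Nat.card_congr (QuotientAddGroup.quotientKerEquivRange f).toEquiv]
  have hV : Nat.card V * Nat.card V ≤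
      Nat.card f.range * (Nat.card ↥(A ⊔ B) * Nat.card K) :=
    calc Nat.card V * Nat.card V ≤ meas V A * meas V B := Nat.mul_le_mul hA.bound hB.bound
      _ = (Nat.card A * Nat.card B) * (Nat.card f.range * Nat.card f.ker) := by
        rw [← hsplit, meas, meas]; ring
      _ ≤ Nat.card ↥(A ⊔ B) * (Nat.card f.range * Nat.card K) :=
        Nat.mul_le_mul hinf (Nat.mul_le_mul_left _ hker)
      _ = _ := by ring
  have htop : f.range = ⊤ := by
    refine AddSubgroup.eq_top_of_card_eq _ (le_antisymm ?_ ?_)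
    · exact Nat.card_le_card_of_injective _ Subtype.coe_injective
    · exact Nat.le_of_mul_le_mul_right (hV.trans (Nat.mul_le_mul_left _ hle)) Nat.card_pos
  refine ⟨fun v => ?_, ?_⟩
  · obtain ⟨z, hz⟩ : v ∈ f.range := htop ▸ AddSubgroup.mem_top v
    exact ⟨z.1, z.1.2, z.2, z.2.2, hz.symm⟩
  · have h1 : Nat.card V * Nat.card V ≤
        Nat.card V * (Nat.card A * Nat.card B * Nat.card K) :=
      calc Nat.card V * Nat.card V ≤ meas V A * meas V B := Nat.mul_le_mul hA.bound hB.bound
        _ = (Nat.card A * Nat.card B) * (Nat.card f.range * Nat.card f.ker) := by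
          rw [← hsplit, meas, meas]; ring
        _ ≤ (Nat.card A * Nat.card B) * (Nat.card f.range * Nat.card K) :=
          Nat.mul_le_mul_left _ (Nat.mul_le_mul_left _ hker)
        _ = _ := by rw [htop, AddSubgroup.card_top]; ring
    exact Nat.le_of_mul_le_mul_left h1 Nat.card_pos

theorem com_le_fix_pair : com V A ≤ fix V B := by
  refine com_le.2 fun a ha v c hcB => ?_
  obtain ⟨x, hx, y, hy, rfl⟩ := (H.pair_card hA hB hc hne).1 v
  rw [show a • (x + y) - (x + y) = a • y - y by rw [smul_add, hx a ha]; abel, smul_sub,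
    ← mul_smul, ← hc a ha c hcB, mul_smul, hy c hcB]

theorem fixer_pair : fixer P (fix V A ⊓ fix V B) = A ⊔ B := by
  refine H.fixer_eq ?_ ((H.pair_card hA hB hc hne).2.trans (Nat.mul_le_mul_right _ ?_))
  · refine sup_le (fun a ha => ?_) (fun c hcB => ?_)
    · exact ⟨fun k hk => hk.1 a ha, fun v =>
        ⟨hA.com_le_fix (mem_com ha v), H.com_le_fix_pair hA hB hc hne (mem_com ha v)⟩⟩
    · exact ⟨fun k hk => hk.2 c hcB, fun v =>
        ⟨H.com_le_fix_pair hB hA (fun x hx y hy => (hc y hy x hx).symm) hne.symm (mem_com hcB v),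
          hB.com_le_fix (mem_com hcB v)⟩⟩
  · have hinf := CfsgLib.Offender.card_inf_mul_card_sup A B
    rwa [H.inf_eq_bot_of_ne hA hB hne, Subgroup.card_bot, one_mul] at hinf

end Commuting

end Hyp

end CfsgLib.PMinFF
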