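import Cfsg.Agent.PMinFF.Block

/-!
Every minimal quadratic offender lies in some subgroup acting as `SL₂(q)` on its natural module, and
some conjugate in the Sylow subgroup does so with that subgroup outside the maximal subgroup.
-/

set_option autoImplicit false
set_option linter.style.haveILetI false
set_option linter.unusedSectionVars false

namespace CfsgLib.PMinFF

open Subgroup Matrix CfsgLib.OffGen CfsgLib.SL2Pair

variable {P : Type*} [Group P] [Finite P]
variable {V : Type*} [AddCommGroup V] [Finite V] [DistribMulAction P V]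

/-- The conjugates of `A` in `R`. -/
def om (A R : Subgroup P) : Set (Subgroup P) := {B | (∃ g, B = cj g A) ∧ B ≤ R}

theorem om_image (g : P) (A R : Subgroup P) : cj g '' om A R ⊆ om A (cj g R) := by
  rintro - ⟨B, ⟨⟨h, rfl⟩, hB⟩, rfl⟩
  exact ⟨⟨g * h, (cj_mul g h A).symm⟩, cj_mono g hB⟩

theorem ncard_om (g : P) (A R : Subgroup P) : (om A (cj g R)).ncard = (om A R).ncard := by
  have key : ∀ (g : P) (R : Subgroup P), (om A R).ncard ≤ (om A (cj g R)).ncard := fun g R => by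
    rw [← Set.ncard_image_of_injective _ (cj_injective g)]
    exact Set.ncard_le_ncard (om_image g A R) (Set.toFinite _)
  refine le_antisymm ?_ (key g R)
  simpa [cj_inv_cj] using key g⁻¹ (cj g R)

theorem exists_growing {p : ℕ} [Fact p.Prime] {A R : Subgroup P} (hR : IsPGroup p R)
    {K : Set (Subgroup P)} (hK : K ⊆ om A R)
    (hclosed : ∀ B, (∃ g, B = cj g A) → B ≤ sSup K → B ∈ K) (hne : K ≠ om A R) :
    ∃ B ∈ om A R, ¬ B ≤ sSup K ∧ B ≤ normalizer ((sSup K : Subgroup P) : Set P) := by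
  by_contra hcon
  push Not at hcon
  set N := R ⊓ normalizer ((sSup K : Subgroup P) : Set P) with hN
  have hKN : sSup K ≤ N := le_inf (sSup_le fun B hB => (hK hB).2) le_normalizer
  rcases (inf_le_left : N ≤ R).lt_or_eq with hlt | heq
  · obtain ⟨n, hnR, hnN, hn⟩ := exists_mem_normalizer hR hlt
    refine hnN ⟨hnR, mem_normalizer_of_le ?_⟩
    rw [cj_le_iff, sSup_le_iff]
    intro B hB
    rw [← cj_le_iff]
    have hBN : cj n B ≤ N := (cj_mono n ((le_sSup hB).trans hKN)).trans_eq hn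
    obtain ⟨g, rfl⟩ := (hK hB).1
    have hmem : cj n (cj g A) ∈ om A R := ⟨⟨n * g, (cj_mul n g A).symm⟩, hBN.trans inf_le_left⟩
    by_contra hout
    exact hcon _ hmem hout (hBN.trans inf_le_right)
  · refine hne (hK.antisymm fun B hB => ?_)
    by_contra hout
    exact hcon B hB (fun h => hout (hclosed B hB.1 h)) ((hB.2.trans heq.ge).trans inf_le_right)

theorem fix_map_subtype {Y : Subgroup P} (B : Subgroup Y) :
    fix V (B.map Y.subtype) = fix V B := by
  ext v
  exact ⟨fun h b hb => h (b : P) ⟨b, hb, rfl⟩, by rintro h - ⟨b, hb, rfl⟩; exact h b hb⟩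

theorem card_map_subtype {Y : Subgroup P} (B : Subgroup Y) :
    Nat.card (B.map Y.subtype) = Nat.card B :=
  (Nat.card_congr (B.equivMapOfInjective _ Y.subtype_injective).toEquiv).symm

theorem mulVec_mul {F : Type*} [Field F] (g h : SpecialLinearGroup (Fin 2) F) (v : Fin 2 → F) :
    ((g * h : SpecialLinearGroup (Fin 2) F) : Matrix (Fin 2) (Fin 2) F).mulVec v =
      (g : Matrix (Fin 2) (Fin 2) F).mulVec ((h : Matrix (Fin 2) (Fin 2) F).mulVec v) := by
  exact (Matrix.mulVec_mulVec _ _ _).symm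

/-- A natural quotient in which `A` is a Sylow subgroup gives a block. -/
theorem block_of_natural {F : Type} [Field F] [Finite F] {A L : Subgroup P} (hAL : A ≤ L)
    (hbound : Nat.card V ≤ meas V A) (hF : Nat.card F = Nat.card A) (hne : A ≠ ⊥)
    (ρ : L ≃* SpecialLinearGroup (Fin 2) F) (ψ : V →+ (Fin 2 → F)) (hsurj : Function.Surjective ψ)
    (hker : ∀ w, ψ w = 0 ↔ w ∈ fix V L)
    (hequi : ∀ (g : L) (w : V), ψ ((g : P) • w) = (ρ g : Matrix (Fin 2) (Fin 2) F).mulVec (ψ w)) :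
    Nonempty (Block V F A L) := by
  classical
  obtain ⟨v, hvA, hv⟩ : ∃ v ∈ fix V A, ψ v ≠ 0 := by
    by_contra hcon
    push Not at hcon
    have h1 : Nat.card (fix V A) ≤ Nat.card (fix V L) :=
      Nat.card_le_card_of_injective (fun u : fix V A => (⟨u, (hker _).1 (hcon u u.2)⟩ : fix V L))
        fun _ _ h => Subtype.ext (congrArg (fun t : fix V L => (t : V)) h :)
    have h2 : Nat.card V = Nat.card F * Nat.card F * Nat.card (fix V L) := by
      have hk : ψ.ker = fix V L := by ext u; exact hker u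
      rw [AddSubgroup.card_eq_card_quotient_mul_card_addSubgroup ψ.ker,
        Nat.card_congr (QuotientAddGroup.quotientKerEquivOfSurjective ψ hsurj).toEquiv, hk,
        Nat.card_congr (piFinTwoEquiv fun _ : Fin 2 => F), Nat.card_prod]
    have h3 := hbound.trans (Nat.mul_le_mul_left _ h1)
    rw [h2, ← hF, mul_assoc] at h3
    have h4 := Nat.le_of_mul_le_mul_left h3 Nat.card_pos
    have h5 : 1 < Nat.card F := Finite.one_lt_card
    have h6 : 0 < Nat.card (fix V L) := Nat.card_pos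
    nlinarith
  obtain ⟨h, hh⟩ := exists_to_axis hv
  let ρ' : L ≃* SpecialLinearGroup (Fin 2) F := ρ.trans (MulAut.conj h)
  have hρ' : ∀ g, ρ' g = h * ρ g * h⁻¹ := fun _ => rfl
  let ψ' : V →+ (Fin 2 → F) :=
    ((h : Matrix (Fin 2) (Fin 2) F).mulVecLin.toAddMonoidHom).comp ψ
  have hψ' : ∀ u, ψ' u = (h : Matrix (Fin 2) (Fin 2) F).mulVec (ψ u) := fun _ => rfl
  have hequi' : ∀ (g : L) (u : V),
      ψ' ((g : P) • u) = (ρ' g : Matrix (Fin 2) (Fin 2) F).mulVec (ψ' u) := by
    intro g u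
    rw [hψ', hψ', hequi, ← mulVec_mul, ← mulVec_mul, hρ', inv_mul_cancel_right]
  have hup : ∀ g : L, (g : P) ∈ A → ∃ c, ρ' g = up c := by
    intro g hg
    have h1 := hequi' g v
    rw [hvA _ hg, hψ', hh] at h1
    have e0 := congrFun h1 0
    have e1 := congrFun h1 1
    simp [Matrix.mulVec, dotProduct, Fin.sum_univ_two] at e0 e1
    have hd := (ρ' g).2
    rw [Matrix.det_fin_two] at hd
    rw [← e1, mul_zero, sub_zero, ← e0, one_mul] at hd
    refine ⟨(ρ' g : Matrix (Fin 2) (Fin 2) F) 0 1, ?_⟩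
    ext i j
    fin_cases i <;> fin_cases j <;> simp [up_coe, ← e0, ← e1, hd]
  choose c hc using fun a : A => hup ⟨a, hAL a.2⟩ a.2
  have hcinj : Function.Injective c := by
    intro a a' he
    have := ρ'.injective ((hc a).trans (he ▸ (hc a').symm))
    exact Subtype.ext (congrArg Subtype.val this :)
  have hcsurj := ((Nat.bijective_iff_injective_and_card c).2 ⟨hcinj, hF.symm⟩).2
  refine ⟨⟨ρ', ψ', ?_, fun u => ?_, hequi', hAL, fun g => ?_, hbound⟩⟩
  · intro y
    obtain ⟨u, hu⟩ :=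
      hsurj (((h⁻¹ : SpecialLinearGroup (Fin 2) F) : Matrix (Fin 2) (Fin 2) F).mulVec y)
    refine ⟨u, ?_⟩
    rw [hψ', hu, ← mulVec_mul, mul_inv_cancel]
    exact one_mulVec _
  · rw [← hker, hψ']
    refine ⟨fun e => ?_, fun e => by rw [e, Matrix.mulVec_zero]⟩
    have h1 := congrArg (fun y => ((h⁻¹ : SpecialLinearGroup (Fin 2) F) : Matrix (Fin 2) (Fin 2) F).mulVec y) e
    simp only [← mulVec_mul, inv_mul_cancel, Matrix.mulVec_zero] at h1
    exact (one_mulVec _).symm.trans h1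
  · constructor
    · intro hg
      exact mem_upper.2 (hup g hg)
    · intro hg
      obtain ⟨d, hd⟩ := mem_upper.1 hg
      obtain ⟨a, ha⟩ := hcsurj d
      have : g = ⟨a, hAL a.2⟩ := ρ'.injective (by rw [hd, ← ha, hc a])
      rw [this]
      exact a.2

namespace Hyp

variable {p : ℕ} [Fact p.Prime] {T : Sylow p P} {M : Subgroup P} (H : Hyp V p T M)

include H

theorem max_unique {R : Sylow p P} {N N' : Subgroup P} (h : Hyp V p R N) (h' : Hyp V p R N') :
    N = N' := over_unique h.hover h'.hover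

theorem exists_distinct : ∃ R R' : Sylow p P, ∀ N, Hyp V p R N → ¬ Hyp V p R' N := by
  obtain ⟨g, hg⟩ : ∃ g, g ∉ M := by
    by_contra hcon
    push Not at hcon
    exact H.hover.2.1 ((eq_top_iff' M).2 hcon)
  exact ⟨T, g • T, fun N h1 h2 => hg (H.self_normalizing
    ((H.max_unique (H.conj g) h2).trans (H.max_unique h1 H)))⟩

/-- Some conjugate in the Sylow subgroup has a block outside the maximal subgroup. -/
theorem exists_block_moved {A : Subgroup P} (hA : Mem V p A) :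
    ∃ g : P, cj g A ≤ (T : Subgroup P) ∧ ∃ (F : Type) (_ : Field F) (_ : Finite F) (L : Subgroup P),
      Nonempty (Block V F (cj g A) L) ∧ ¬ L ≤ M := by
  classical
  obtain ⟨R₀, R₀', hd₀⟩ := H.exists_distinct
  obtain ⟨⟨S, S'⟩, hd, hmax⟩ := Set.exists_max_image
    {q : Sylow p P × Sylow p P | ∀ N, Hyp V p q.1 N → ¬ Hyp V p q.2 N}
    (fun q => (om A (q.1 : Subgroup P) ∩ om A (q.2 : Subgroup P)).ncard) (Set.toFinite _)
    ⟨(R₀, R₀'), hd₀⟩
  replace hd : ∀ N, Hyp V p S N → ¬ Hyp V p S' N := hd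
  set K := om A (S : Subgroup P) ∩ om A (S' : Subgroup P) with hK
  set U := sSup K with hU
  have hclosed : ∀ B, (∃ g, B = cj g A) → B ≤ U → B ∈ K := fun B hB hle =>
    ⟨⟨hB, hle.trans (sSup_le fun C hC => hC.1.2)⟩, hB, hle.trans (sSup_le fun C hC => hC.2.2)⟩
  have hUp : IsPGroup p U := S.2.to_le (sSup_le fun C hC => hC.1.2)
  have hlt : K ≠ om A (S : Subgroup P) ∧ K ≠ om A (S' : Subgroup P) := by
    obtain ⟨g, hg⟩ := MulAction.exists_smul_eq P S S'
    have hc : (om A (S' : Subgroup P)).ncard = (om A (S : Subgroup P)).ncard := by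
      rw [← hg, smul_coe, ncard_om]
    have key : om A (S : Subgroup P) ≠ om A (S' : Subgroup P) := by
      intro e
      obtain ⟨N, hN⟩ := H.exists_max S
      obtain ⟨N', hN'⟩ := H.exists_max S'
      have hKS : K = om A (S : Subgroup P) := by rw [hK, e, Set.inter_self]
      have hne : U ≠ ⊥ := by
        obtain ⟨R, hR⟩ := hA.elem.isPGroup.exists_le_sylow
        obtain ⟨k, hk⟩ := MulAction.exists_smul_eq P R S
        intro hb
        refine cj_ne_bot (g := k) hA.ne (le_bot_iff.1 (hb ▸ le_sSup ?_))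
        rw [hKS]
        exact ⟨⟨k, rfl⟩, hk ▸ (smul_coe k R).symm ▸ cj_mono k hR⟩
      have hnorm : ∀ R : Sylow p P, K = om A (R : Subgroup P) →
          (R : Subgroup P) ≤ normalizer (U : Set P) := by
        intro R hKR r hr
        refine mem_normalizer_of_le ?_
        rw [cj_le_iff, hU, sSup_le_iff]
        intro B hB
        rw [← cj_le_iff]
        refine le_sSup ?_
        rw [hKR] at hB ⊢
        exact cj_self hr ▸ om_image r A _ ⟨B, hB, rfl⟩
      have h1 := hN.hover.2.2 _ (hnorm S hKS)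
      rcases h1 with h1 | h1
      · exact hne (H.normal_bot (normalizer_eq_top_iff.1 h1) hUp)
      · exact hd N hN (hN.of_le ((hnorm S' (hKS.trans e)).trans h1))
    refine ⟨fun e => key ?_, fun e => key ?_⟩
    · exact Set.eq_of_subset_of_ncard_le (e ▸ Set.inter_subset_right) hc.le (Set.toFinite _)
    · exact (Set.eq_of_subset_of_ncard_le (e ▸ Set.inter_subset_left) hc.ge (Set.toFinite _)).symm
  let Good : Subgroup P → Prop := fun B =>
    (∃ g, B = cj g A) ∧ ¬ B ≤ U ∧ B ≤ normalizer (U : Set P)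
  let Mx : Subgroup P → Subgroup P → Prop := fun B N =>
    Good B ∧ ∃ R : Sylow p P, U ⊔ B ≤ R ∧ Hyp V p R N
  have huniq : ∀ B N N', Mx B N → Mx B N' → N = N' := by
    rintro B N N' ⟨hB, R, hR, hN⟩ ⟨-, R', hR', hN'⟩
    by_contra hne
    have hsub : insert B K ⊆ om A (R : Subgroup P) ∩ om A (R' : Subgroup P) := by
      rintro C (rfl | hC)
      · exact ⟨⟨hB.1, le_sup_right.trans hR⟩, hB.1, le_sup_right.trans hR'⟩
      · have hCU : C ≤ U := le_sSup hC
        exact ⟨⟨hC.1.1, hCU.trans (le_sup_left.trans hR)⟩, hC.1.1,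
          hCU.trans (le_sup_left.trans hR')⟩
    have h1 := Set.ncard_le_ncard hsub (Set.toFinite _)
    rw [Set.ncard_insert_of_notMem (fun h => hB.2.1 (le_sSup h)) (Set.toFinite _)] at h1
    have h2 := hmax (R, R') (fun N'' h3 h4 =>
      hne ((H.max_unique hN h3).trans (H.max_unique h4 hN')))
    exact absurd (h1.trans h2) (Nat.not_succ_le_self _)
  obtain ⟨B₁, hB₁, hB₁U, hB₁N⟩ := exists_growing S.2 Set.inter_subset_left hclosed hlt.1
  obtain ⟨B₂, hB₂, hB₂U, hB₂N⟩ := exists_growing S'.2 Set.inter_subset_right hclosed hlt.2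
  obtain ⟨N₁, hN₁⟩ := H.exists_max S
  obtain ⟨N₂, hN₂⟩ := H.exists_max S'
  have hm₁ : Mx B₁ N₁ := ⟨⟨hB₁.1, hB₁U, hB₁N⟩, S,
    sup_le (sSup_le fun C hC => hC.1.2) hB₁.2, hN₁⟩
  have hm₂ : Mx B₂ N₂ := ⟨⟨hB₂.1, hB₂U, hB₂N⟩, S',
    sup_le (sSup_le fun C hC => hC.2.2) hB₂.2, hN₂⟩
  obtain ⟨⟨B, B'⟩, ⟨N, N', hBN, hB'N', hNN'⟩, hmin⟩ := Set.exists_min_image
    {q : Subgroup P × Subgroup P | ∃ N N', Mx q.1 N ∧ Mx q.2 N' ∧ N ≠ N'}
    (fun q => Nat.card ↥(q.1 ⊔ q.2)) (Set.toFinite _)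
    ⟨(B₁, B₂), N₁, N₂, hm₁, hm₂, fun e => hd N₁ hN₁ (e ▸ hN₂)⟩
  replace hBN : Mx B N := hBN
  replace hB'N' : Mx B' N' := hB'N'
  set Y := B ⊔ B' with hY
  have hYN : Y ≤ normalizer (U : Set P) := sup_le hBN.1.2.2 hB'N'.1.2.2
  obtain ⟨hBg, RB, hRB, hHN⟩ := hBN
  have hBN : Mx B N := ⟨hBg, RB, hRB, hHN⟩
  have hconj : ∀ y ∈ normalizer (U : Set P), Mx (cj y B) (cj y N) := by
    intro y hy
    have hyU : cj y U = U := mem_normalizer_iff_cj.1 hy
    obtain ⟨⟨g, hg⟩, hnU, hN'⟩ := hBg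
    refine ⟨⟨⟨y * g, by rw [hg, cj_mul]⟩, fun h => hnU ?_, ?_⟩, y • RB, ?_, hHN.conj y⟩
    · rw [← cj_inv_cj y B, ← cj_inv_cj y U, hyU]
      exact cj_mono _ h
    · rintro - ⟨b, hb, rfl⟩
      exact mul_mem (mul_mem hy (hN' hb)) (inv_mem hy)
    · rw [smul_coe, ← hyU, ← cj_sup]
      exact cj_mono y hRB
  have hgenY : ∀ y ∈ Y, y ∉ N → B ⊔ cj y B = Y := by
    intro y hy hyN
    refine Subgroup.eq_of_le_of_card_ge (sup_le le_sup_left ?_) (hmin (B, cj y B)
      ⟨N, cj y N, hBN, hconj y (hYN hy), fun e => hyN (hHN.self_normalizing e.symm)⟩)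
    rintro - ⟨b, hb, rfl⟩
    exact mul_mem (mul_mem hy (mem_sup_left hb)) (inv_mem hy)
  have hBleN : B ≤ N := le_sup_right.trans (hRB.trans hHN.hover.1)
  have hYnot : ¬ Y ≤ N := by
    intro hle
    have hUB' : U ⊔ B' ≤ N := sup_le (le_sup_left.trans (hRB.trans hHN.hover.1))
      (le_sup_right.trans hle)
    obtain ⟨m, hm, hmle⟩ := hHN.exists_conj_le
      (isPGroup_sup hUp (hA.elem.isPGroup.to_le le_rfl |> fun _ => by
        obtain ⟨⟨g, hg⟩, -, -⟩ := hB'N'.1
        rw [hg]; exact (hA.elem.cj g).isPGroup) hB'N'.1.2.2) hUB'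
    refine hNN' (huniq B' N N' ⟨hB'N'.1, m • RB, by rwa [smul_coe], ?_⟩ hB'N')
    have := hHN.conj m
    rwa [cj_self hm] at this
  -- a Sylow subgroup of `Y` inside `N`
  have hBp : IsPGroup p B := by
    obtain ⟨g, hg⟩ := hBg.1
    rw [hg]; exact (hA.elem.cj g).isPGroup
  obtain ⟨Q, ⟨hBQ, hQC, hQp⟩, hQmax⟩ := Set.exists_max_image
    {Q : Subgroup P | B ≤ Q ∧ Q ≤ Y ⊓ N ∧ IsPGroup p Q} (fun Q => Nat.card Q) (Set.toFinite _)
    ⟨B, le_rfl, le_inf le_sup_left hBleN, hBp⟩
  obtain ⟨R₂, hR₂⟩ := (isPGroup_sup hUp hQp ((hQC.trans inf_le_left).trans hYN)).exists_le_sylow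
  obtain ⟨N₀, hN₀⟩ := H.exists_max R₂
  have hN₀N : N₀ = N := huniq B N₀ N
    ⟨hBg, R₂, sup_le (le_sup_left.trans hR₂) (hBQ.trans (le_sup_right.trans hR₂)), hN₀⟩ hBN
  subst hN₀N
  have hQmax' : ∀ R : Subgroup P, R ≤ Y → IsPGroup p R → Q ≤ R → R = Q := by
    intro R hRY hRp hQR
    by_contra hne
    obtain ⟨n, hnR, hnQ, hn⟩ := exists_mem_normalizer hRp (lt_of_le_of_ne hQR (Ne.symm hne))
    have hm := hconj n (hYN (hRY hnR))
    have hnB : cj n B ≤ Q := (cj_mono n hBQ).trans_eq hn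
    have hnN : n ∈ N₀ := hHN.self_normalizing (huniq _ _ _ hm ⟨hm.1, R₂,
      sup_le (le_sup_left.trans hR₂) (hnB.trans (le_sup_right.trans hR₂)), hN₀⟩)
    have hle : Q ⊔ zpowers n ≤ R := sup_le hQR (zpowers_le.2 hnR)
    have h1 := hQmax (Q ⊔ zpowers n) ⟨hBQ.trans le_sup_left,
      sup_le hQC (zpowers_le.2 ⟨hRY hnR, hnN⟩), hRp.to_le hle⟩
    exact hnQ ((Subgroup.eq_of_le_of_card_ge le_sup_left h1).ge
      (mem_sup_right (mem_zpowers n)))
  have hQY : Q ≤ Y := hQC.trans inf_le_left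
  let TY : Sylow p Y :=
    { toSubgroup := Q.subgroupOf Y
      isPGroup' := hQp.comap_subtype
      is_maximal' := fun {R} hR hle => by
        have := hQmax' (R.map Y.subtype) (map_subtype_le R) (hR.map _)
          (fun x hx => ⟨⟨x, hQY hx⟩, hle (show x ∈ Q from hx), rfl⟩)
        rw [subgroupOf, ← this, comap_map_eq_self_of_injective Y.subtype_injective] }
  have hBY : B ≤ Y := le_sup_left
  have hmapB : (B.subgroupOf Y).map Y.subtype = B := map_subgroupOf_eq_of_le hBY
  obtain ⟨g, hg⟩ := hBg.1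
  have hBmem : Mem V p B := hg ▸ hA.cj g
  have hoff : OffGen.Offender V p TY ((Y ⊓ N₀).subgroupOf Y) (B.subgroupOf Y) :=
    { exp := H.exp
      faithful := fun y hy => Subtype.ext (H.faithful y hy)
      hover := ⟨fun x hx => hQC (show (x : P) ∈ Q from hx),
        fun e => hYnot fun x hx => (show (x : P) ∈ Y ⊓ N₀ from
          (e ▸ mem_top (⟨x, hx⟩ : Y) : (⟨x, hx⟩ : Y) ∈ (Y ⊓ N₀).subgroupOf Y)).2,
        fun R hR => by
          by_cases hRC : R ≤ (Y ⊓ N₀).subgroupOf Y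
          · exact Or.inr hRC
          · left
            obtain ⟨r, hr, hrC⟩ := SetLike.not_le_iff_exists.1 hRC
            have hrN : (r : P) ∉ N₀ := fun h => hrC ⟨r.2, h⟩
            rw [eq_top_iff, ← Subgroup.map_le_map_iff_of_injective Y.subtype_injective,
              ← MonoidHom.range_eq_map, range_subtype]
            refine (hgenY r r.2 hrN).ge.trans (sup_le ?_ ?_)
            · exact fun x hx => ⟨⟨x, hBY hx⟩, hR (show x ∈ Q from hBQ hx), rfl⟩
            · rintro - ⟨x, hx, rfl⟩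
              exact ⟨r * ⟨x, hBY hx⟩ * r⁻¹,
                mul_mem (mul_mem hr (hR (show x ∈ Q from hBQ hx))) (inv_mem hr), rfl⟩⟩
      le := fun x hx => hBQ (show (x : P) ∈ B from hx)
      gen := fun y hy => by
        have hyN : (y : P) ∉ N₀ := fun h => hy ⟨y.2, h⟩
        refine Subgroup.map_injective Y.subtype_injective ?_
        rw [← MonoidHom.range_eq_map, range_subtype, Subgroup.map_sup, hmapB,
          Subgroup.map_map]
        refine Eq.trans ?_ (hgenY y y.2 hyN)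
        congr 1
        conv_rhs => rw [← hmapB]
        rw [cj, Subgroup.map_map]
        rfl
      quad := fun a ha b hb v => hBmem.quad a ha b hb v
      bound := by
        rw [← card_map_subtype, ← fix_map_subtype, hmapB]
        exact hBmem.bound
      strict := fun C hC hCne hCB => by
        rw [← card_map_subtype, ← fix_map_subtype, ← card_map_subtype (B.subgroupOf Y),
          ← fix_map_subtype (B.subgroupOf Y), hmapB]
        refine hBmem.strict _ ((Subgroup.map_mono hC).trans_eq hmapB) ?_ fun e => hCB ?_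
        · simpa [Subgroup.map_eq_bot_iff_of_injective _ Y.subtype_injective] using hCne
        · exact Subgroup.map_injective Y.subtype_injective (e.trans hmapB.symm)
      moved := by
        by_contra hcon
        push Not at hcon
        refine hYnot fun y hy => hN₀.cent y fun v hv => hcon v ?_ ⟨y, hy⟩
        exact fun t ht => hv t (hR₂ (mem_sup_right (show (t : P) ∈ Q from ht))) }
  obtain ⟨F, iF, iFt, hcF, ρ, ψ, hsurj, hker, hequi, -⟩ := hoff.exists_natural
  have hFB : Nat.card F = Nat.card B := by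
    rw [Nat.card_eq_fintype_card, hcF, ← card_map_subtype, hmapB]
  have hkerY : ∀ w, ψ w = 0 ↔ w ∈ fix V Y := fun w => by
    rw [hker, ← fix_map_subtype, ← MonoidHom.range_eq_map, range_subtype]
  haveI : Finite F := @Finite.of_fintype F iFt
  obtain ⟨b⟩ := block_of_natural hBY hBmem.bound hFB hBmem.ne ρ ψ hsurj hkerY hequi
  obtain ⟨k, hk⟩ := MulAction.exists_smul_eq P R₂ T
  have hNk : cj k N₀ = M := H.max_unique (hk ▸ hN₀.conj k) H
  refine ⟨k * g, ?_, F, iF, inferInstance, cj k Y, ?_, fun hle => hYnot ?_⟩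
  · rw [cj_mul, ← hg, ← hk, smul_coe]
    exact cj_mono k (hBQ.trans (le_sup_right.trans hR₂))
  · rw [cj_mul, ← hg]
    exact ⟨b.cj k⟩
  · rw [← cj_inv_cj k Y, ← cj_inv_cj k N₀, hNk]
    exact cj_mono _ hle

/-- Every minimal quadratic offender has a block. -/
theorem exists_block {A : Subgroup P} (hA : Mem V p A) :
    ∃ (F : Type) (_ : Field F) (_ : Finite F) (L : Subgroup P), Nonempty (Block V F A L) := by
  obtain ⟨g, -, F, iF, iFt, L, ⟨b⟩, -⟩ := H.exists_block_moved hA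
  have b' := b.cj g⁻¹
  rw [cj_inv_cj] at b'
  exact ⟨F, iF, iFt, _, ⟨b'⟩⟩

end Hyp

end CfsgLib.PMinFF
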