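import Cfsg.Agent.PMinFF.Coord

/-!
A minimal offender commuting with a block member for a field of more than two elements centralizes the
block.
-/

set_option autoImplicit false
set_option linter.style.haveILetI false
set_option linter.unusedSectionVars false

namespace CfsgLib.PMinFF

open Subgroup Matrix CfsgLib.OffGen CfsgLib.SL2Pair

variable {P : Type*} [Group P] [Finite P]
variable {V : Type*} [AddCommGroup V] [Finite V] [DistribMulAction P V]

namespace Block

variable {F : Type} [Field F] [Finite F] {A L : Subgroup P} (b : Block V F A L) (hq : 2 < Nat.card F)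

include b hq

theorem x_E (hG : ∀ α y, b.G hq α y = 0) (c s : F) :
    b.x c • b.E hq s = b.E hq s + b.f hq (c * s) := by
  have hx : b.x c = b.w * b.a (-c) * b.w⁻¹ := by
    rw [x, a, w, ← el_inv, ← el_mul, ← el_mul, wS_up, neg_neg]
  have hw : b.w⁻¹ = b.w * b.h (-1) := inv_eq_of_mul_eq_one_right (by
    rw [← mul_assoc, w_w, h_mul, neg_one_mul, neg_neg, h_one])
  have h1 : b.w⁻¹ • b.E hq s = b.f hq (-s) := by
    rw [hw, mul_smul, b.h_E hq]; simp [f]
  have h2 : b.a (-c) • b.f hq (-s) = b.f hq (-s) + b.E hq (c * s) := by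
    have := b.value hq (-c) (-s)
    rw [hG, add_zero, neg_mul_neg] at this
    rw [← this]; abel
  have h3 : b.w • b.f hq (-s) = b.E hq s := by
    rw [f, ← mul_smul, w_w, b.h_E hq]; simp
  rw [hx, mul_smul, mul_smul, h1, h2, smul_add, h3]
  rfl

theorem x_f (c y : F) : b.x c • b.f hq y = b.f hq y := by
  have hx : b.x c = b.w * b.a (-c) * b.w⁻¹ := by
    rw [x, a, w, ← el_inv, ← el_mul, ← el_mul, wS_up, neg_neg]
  rw [hx, f, mul_smul, mul_smul, inv_smul_smul, b.E_mem_fix hq y _ (b.a_mem _)]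

end Block

namespace Hyp

variable {p : ℕ} [Fact p.Prime] {T : Sylow p P} {M : Subgroup P} (H : Hyp V p T M)
variable {F : Type} [Field F] [Finite F] {A L B : Subgroup P} (b : Block V F A L)
variable (hA : Mem V p A) (hB : Mem V p B) (hc : ∀ a ∈ A, ∀ d ∈ B, a * d = d * a) (hne : A ≠ B)
variable (hq : 2 < Nat.card F)

include H b hA hB hc hne hq

theorem block_centralizes : ∀ g ∈ L, ∀ d ∈ B, g * d = d * g := by
  classical
  set K := fix V A ⊓ fix V B with hK
  have hcomB : com V A ≤ fix V B := H.com_le_fix_pair hA hB hc hne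
  have hEK : ∀ s, b.E hq s ∈ K := fun s => ⟨b.E_mem_fix hq s, hcomB (b.E_mem_com hq s)⟩
  have hGK : ∀ α y, b.G hq α y ∈ K := fun α y =>
    ⟨b.fix_le (b.G_mem hq α y).1, hcomB (b.G_mem hq α y).2⟩
  have hzeta : ∀ y, ∃ ζ ∈ fix V L, b.f hq y + ζ ∈ fix V B := by
    intro y
    obtain ⟨u, hu, w', hw', e⟩ := (H.pair_card hA hB hc hne).1 (b.f hq y)
    refine ⟨b.E hq (b.ψ u 0) - u, (b.ker _).1 ?_, ?_⟩
    · rw [map_sub, b.psi_E hq]
      ext i; fin_cases i <;> simp [b.psi_fix hu]
    · rw [e, show u + w' + (b.E hq (b.ψ u 0) - u) = w' + b.E hq (b.ψ u 0) by abel]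
      exact (fix V B).add_mem hw' (hEK _).2
  choose ζ hζ hζB using hzeta
  have hD : fixer P K = A ⊔ B := H.fixer_pair hA hB hc hne
  have hBA : B ≤ normalizer (A : Set P) := fun d hd => mem_normalizer_of_le (by
    rintro - ⟨a, ha, rfl⟩
    simpa [← hc a ha d hd, mul_assoc] using ha)
  have hDmem : ∀ g ∈ A ⊔ B, ∃ α, ∃ d ∈ B, g = b.a α * d := by
    intro g hg
    rw [← SetLike.mem_coe, coe_mul_of_right_le_normalizer_left A B hBA] at hg
    obtain ⟨a, ha, d, hd, rfl⟩ := Set.mem_mul.1 hg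
    obtain ⟨α, rfl⟩ := b.exists_a ha
    exact ⟨α, d, hd, rfl⟩
  have hval : ∀ g ∈ A ⊔ B, ∀ v : V, g • v - v ∈ K := fun g hg => (hD.ge hg).2
  -- the value of `d` on the opposite line
  let φ : P → F → V := fun d y => d • b.f hq y - b.f hq y
  have hφadd : ∀ d y z, φ d (y + z) = φ d y + φ d z := fun d y z => by
    simp only [φ, b.f_add hq, smul_add]; abel
  have hφζ : ∀ d ∈ B, ∀ y, φ d y = -(d • ζ y - ζ y) := fun d hd y => by
    have := hζB y d hd
    rw [smul_add] at this
    simp only [φ]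
    rw [← sub_eq_zero, sub_neg_eq_add, ← sub_eq_zero.2 this]
    abel
  have hstep : ∀ d ∈ B, ∀ c : Fˣ, ∃ α, ∀ y,
      φ d (((c : F) - 1) * y) = b.E hq (α * y) + b.G hq α y := by
    intro d hd c
    have hpres : ∀ e : Fˣ, ∀ k ∈ K, b.h e • k ∈ K := by
      intro e k hk
      have hz : k - b.E hq (b.ψ k 0) ∈ fix V L := (b.ker _).1 (by
        rw [map_sub, b.psi_E hq]
        ext i; fin_cases i <;> simp [b.psi_fix hk.1])
      have h1 := hz _ (b.h_mem e)
      rw [smul_sub, b.h_E hq, sub_eq_iff_eq_add] at h1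
      rw [h1]
      exact K.add_mem (K.sub_mem hk (hEK _)) (hEK _)
    have hin : (b.h c)⁻¹ * d * b.h c ∈ A ⊔ B := by
      rw [← hD]
      refine ⟨fun k hk => ?_, fun v => ?_⟩
      · rw [mul_smul, mul_smul, inv_smul_eq_iff]
        exact (hD.ge (mem_sup_right hd)).1 _ (hpres c k hk)
      · have := hpres c⁻¹ _ (hval d (mem_sup_right hd) (b.h c • v))
        rw [← b.h_inv, smul_sub, inv_smul_smul] at this
        rwa [mul_smul, mul_smul]
    obtain ⟨β, d', hd', e⟩ := hDmem _ hin
    set α := -((c : F) * c * β) with hαdef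
    have e' : b.a α * d = b.h c * d' * (b.h c)⁻¹ := by
      have h2 : d = b.h c * (b.a β * d') * (b.h c)⁻¹ := by rw [← e]; group
      rw [h2, hαdef, ← mul_assoc (b.h c) (b.a β) d', b.h_a]
      simp only [← mul_assoc, ← b.a_add, neg_add_cancel, b.a_zero, one_mul]
    refine ⟨α, fun y => ?_⟩
    have hf : (b.h c)⁻¹ • b.f hq y = b.f hq ((c : F) * y) := by
      rw [b.h_inv, b.h_f hq, inv_inv]
    have hleft : b.h c • φ d' ((c : F) * y) = φ d ((c : F) * y) := by
      have h2 : (b.a α * d) • ζ ((c : F) * y) - ζ ((c : F) * y) =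
          d • ζ ((c : F) * y) - ζ ((c : F) * y) := by
        have h3 := (hval d (mem_sup_right hd) (ζ ((c : F) * y))).1 _ (b.a_mem α)
        rw [smul_sub, b.fix_le (hζ _) _ (b.a_mem α)] at h3
        rw [mul_smul, sub_left_injective h3]
      rw [hφζ d' hd', hφζ d hd, smul_neg, ← h2, e', smul_sub, mul_smul, mul_smul,
        inv_smul_eq_iff.2 (hζ _ _ (b.h_mem c)).symm, hζ _ _ (b.h_mem c)]
    have hright : (b.a α * d) • b.f hq y - b.f hq y = b.E hq (α * y) + b.G hq α y + φ d y := by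
      have h3 := (hval d (mem_sup_right hd) (b.f hq y)).1 _ (b.a_mem α)
      rw [smul_sub] at h3
      rw [mul_smul, ← b.value hq α y]
      simp only [φ]
      rw [← h3]
      abel
    have hmid : (b.a α * d) • b.f hq y - b.f hq y = b.h c • φ d' ((c : F) * y) := by
      simp only [φ]
      rw [← hf, smul_sub, e', mul_smul, mul_smul, smul_inv_smul]
    rw [hmid, hleft] at hright
    have h4 := hφadd d (((c : F) - 1) * y) y
    rw [show ((c : F) - 1) * y + y = (c : F) * y by ring, hright] at h4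
    exact (add_right_cancel h4).symm
  -- the slope of `d`
  have hslope : ∀ d ∈ B, ∃ α, ∀ k : F, k ≠ 0 → k + 1 ≠ 0 → ∀ y,
      φ d (k * y) = b.E hq (α * k * y) + b.G hq (α * k) y := by
    intro d hd
    obtain ⟨α₀, hα₀⟩ := hstep d hd (b.c₀ hq)
    refine ⟨α₀ / ((b.c₀ hq : F) - 1), fun k hk hk1 y => ?_⟩
    obtain ⟨α, hα⟩ := hstep d hd (Units.mk0 (k + 1) hk1)
    simp only [Units.val_mk0, add_sub_cancel_right] at hα
    suffices α = α₀ / ((b.c₀ hq : F) - 1) * k by rw [← this, hα]
    have h1 := hα 1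
    have h2 := hα₀ (k / ((b.c₀ hq : F) - 1))
    rw [mul_div_cancel₀ _ (b.c₀_sub hq)] at h2
    rw [mul_one, h2] at h1
    have h3 := congrArg (fun u => b.ψ u 0) h1
    simp [(b.ker _).2 (b.G_mem hq _ _).1, b.psi_E hq] at h3
    rw [← h3]
    ring
  by_cases hall : ∀ d ∈ B, ∀ y, φ d y = 0
  · -- `B` fixes `[V, L]`
    have hU : com V L ≤ fix V B := b.com_L_le hq _ (fun s => (hEK s).2)
      (fun y d hd => sub_eq_zero.1 (hall d hd y)) fun α y => (hGK α y).2
    intro g hg d hd
    have hnorm : ∀ l ∈ L, l ∈ normalizer (B : Set P) := fun l hl =>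
      H.mem_normalizer_of_fix hB fun v hv => by
        rw [show l • v = (l • v - v) + v by abel]
        exact (fix V B).add_mem (hU (mem_com hl v)) hv
    have hle : L ≤ Subgroup.centralizer (B : Set P) := by
      refine b.le_of_le (fun a ha => mem_centralizer_iff.2 fun d hd => (hc a ha d hd).symm) ?_
      rintro - ⟨a, ha, rfl⟩
      refine mem_centralizer_iff.2 fun d hd => ?_
      have h1 : b.w⁻¹ * d * b.w ∈ B := by
        simpa using ((mem_normalizer_iff.1 (hnorm _ (L.inv_mem b.w_mem))) d).1 hd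
      have h2 := congrArg (fun z => b.w * z * b.w⁻¹) (hc a ha _ h1)
      simpa [mul_assoc] using h2.symm
    exact (mem_centralizer_iff.1 (hle hg) d hd).symm
  · exfalso
    push Not at hall
    obtain ⟨d₁, hd₁, y₁, hy₁⟩ := hall
    choose! al hal using hslope
    have hk0 : ∃ k : F, k ≠ 0 ∧ k + 1 ≠ 0 := ⟨(b.c₀ hq : F) - 1, b.c₀_sub hq, by simp⟩
    obtain ⟨k₀, hk₀, hk₀1⟩ := hk0
    have hα₁ : al d₁ ≠ 0 := fun h => hy₁ (by
      have := hal d₁ hd₁ k₀ hk₀ hk₀1 (y₁ / k₀)
      rwa [mul_div_cancel₀ _ hk₀, h, zero_mul, zero_mul, b.E_zero hq, b.G_zero_left hq,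
        add_zero] at this)
    have hG : ∀ α y, b.G hq α y = 0 := by
      by_cases hp : p = 2
      · subst hp
        have h2 : (2 : F) = 0 := by simpa using b.cast_prime hq (p := 2) H.exp
        set α := al d₁
        obtain ⟨γ, hγ⟩ := b.exists_sqrt hq H.exp α
        set κ := (b.c₀ hq : F) with hκdef
        have hκ : κ ≠ 0 := Units.ne_zero _
        have hκ1 : κ + 1 ≠ 0 := fun h => b.c₀_sub hq (by linear_combination h - h2)
        have hk2 : κ * κ + 1 ≠ 0 := fun h => mul_ne_zero hκ1 hκ1 (by linear_combination h + κ * h2)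
        have hone : ∀ y, φ d₁ y = b.E hq (α * y) + b.G hq α y := by
          intro y
          have e1 := hal d₁ hd₁ κ hκ hκ1 y
          have e2 := hal d₁ hd₁ (κ + 1) hκ1
            (fun h => hκ (by linear_combination h - h2)) y
          have e3 : φ d₁ y = φ d₁ (κ * y) + φ d₁ ((κ + 1) * y) := by
            rw [← hφadd]; congr 1; linear_combination -κ * y * h2
          rw [e3, e1, e2, add_add_add_comm, ← b.E_add hq, ← b.G_add_left hq]
          have e4 : α * κ * y + α * (κ + 1) * y = α * y := by linear_combination α * κ * y * h2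
          have e5 : α * κ + α * (κ + 1) = α := by linear_combination α * κ * h2
          rw [e4, e5]
        have h1 : ∀ y, b.G hq 1 y = 0 := by
          intro y
          have hγ0 : γ ≠ 0 := fun h => hα₁ (by rw [← hγ, h, mul_zero])
          have hne0 : γ * (κ + κ * κ) ≠ 0 := mul_ne_zero hγ0 (by
            rw [show κ + κ * κ = κ * (κ + 1) by ring]; exact mul_ne_zero hκ hκ1)
          obtain ⟨z, rfl⟩ : ∃ z, γ * (κ + κ * κ) * z = y :=
            ⟨_, mul_div_cancel₀ y hne0⟩
          have e1 := hal d₁ hd₁ (κ * κ) (mul_ne_zero hκ hκ) hk2 z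
          rw [hone, mul_assoc α] at e1
          have e2 : b.G hq α (κ * κ * z) = b.G hq (α * (κ * κ)) z := add_left_cancel e1
          rw [← hγ, show γ * γ * (κ * κ) = (γ * κ) * (γ * κ) by ring, b.G_square hq,
            b.G_square hq] at e2
          rw [show γ * (κ + κ * κ) * z = γ * κ * z + γ * (κ * κ * z) by ring,
            b.G_add_right hq, e2, ← b.G_add_right hq,
            show γ * κ * z + γ * κ * z = 0 by linear_combination γ * κ * z * h2,
            b.G_zero_right hq]
        intro α' y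
        obtain ⟨γ', rfl⟩ := b.exists_sqrt hq H.exp α'
        rw [b.G_square hq, h1]
      · exact b.G_odd hq hp H.exp
    have hφ : ∀ d ∈ B, ∀ y, φ d y = b.E hq (al d * y) := by
      intro d hd y
      have := hal d hd k₀ hk₀ hk₀1 (y / k₀)
      rwa [mul_div_cancel₀ _ hk₀, hG, add_zero, mul_assoc, mul_div_cancel₀ _ hk₀] at this
    set fr : AddSubgroup V := (AddMonoidHom.mk' (b.f hq) (b.f_add hq)).range with hfr
    set H' : AddSubgroup V := K ⊔ fr with hH'
    have hKH : K ≤ H' := le_sup_left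
    have hfH : ∀ y, b.f hq y ∈ H' := fun y => AddSubgroup.mem_sup_right ⟨y, rfl⟩
    have hH'mem : ∀ u ∈ H', ∃ k ∈ K, ∃ y, u = k + b.f hq y := fun u hu => by
      obtain ⟨k, hk, t, ⟨y, rfl⟩, rfl⟩ := AddSubgroup.mem_sup.1 hu
      exact ⟨k, hk, y, rfl⟩
    have hfix : ∀ d ∈ B, b.a (-al d) * d ∈ fixer P H' := by
      intro d hd
      have hmem : b.a (-al d) * d ∈ A ⊔ B := mul_mem (mem_sup_left (b.a_mem _)) (mem_sup_right hd)
      refine ⟨fun u hu => ?_, fun v => hKH (hval _ hmem v)⟩
      obtain ⟨k, hk, y, rfl⟩ := hH'mem u hu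
      have h1 : d • b.f hq y = b.f hq y + b.E hq (al d * y) := by
        rw [← hφ d hd]; simp only [φ]; abel
      have h2 := b.value hq (-al d) y
      rw [hG, add_zero] at h2
      rw [smul_add, (hD.ge hmem).1 k hk, mul_smul, h1, smul_add,
        b.E_mem_fix hq _ _ (b.a_mem _), sub_eq_iff_eq_add.1 h2, neg_mul,
        ← b.EHom_apply hq, ← b.EHom_apply hq, map_neg]
      abel
    have hfle : fixer P H' ≤ A ⊔ B := by
      let j : B → fixer P H' := fun d => ⟨_, hfix d d.2⟩
      have hj : Function.Injective j := by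
        intro d e he
        have he' : b.a (-al d) * (d : P) = b.a (-al e) * e :=
          congrArg (fun t : fixer P H' => (t : P)) he
        have h1 : (d : P) * (e : P)⁻¹ = (b.a (-al d))⁻¹ * b.a (-al e) := by
          rw [eq_inv_mul_iff_mul_eq, ← mul_assoc, he', mul_inv_cancel_right]
        have h2 : (d : P) * (e : P)⁻¹ ∈ A ⊓ B :=
          ⟨h1 ▸ A.mul_mem (A.inv_mem (b.a_mem _)) (b.a_mem _), B.mul_mem d.2 (B.inv_mem e.2)⟩
        rw [H.inf_eq_bot_of_ne hA hB hne, mem_bot, mul_inv_eq_one] at h2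
        exact Subtype.ext h2
      have hcard : Nat.card F * Nat.card K ≤ Nat.card H' := by
        rw [← Nat.card_prod]
        refine Nat.card_le_card_of_injective
          (fun z : F × K => (⟨(z.2 : V) + b.f hq z.1, H'.add_mem (hKH z.2.2) (hfH _)⟩ : H'))
          fun z z' h => ?_
        have h' : (z.2 : V) + b.f hq z.1 = (z'.2 : V) + b.f hq z'.1 :=
          congrArg (fun t : H' => (t : V)) h
        have h1 := congrArg (fun u => b.ψ u 1) h'
        simp [b.psi_fix z.2.2.1, b.psi_fix z'.2.2.1, b.psi_f hq] at h1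
        rw [h1, add_left_inj] at h'
        exact Prod.ext h1 (Subtype.ext h')
      have hle : Nat.card (fixer P H') ≤ Nat.card B := by
        have h1 := (Nat.mul_le_mul_left (Nat.card (fixer P H')) hcard).trans
          ((H.card_fixer_le H').trans (H.pair_card hA hB hc hne).2)
        rw [b.card_A, ← hK] at h1
        refine Nat.le_of_mul_le_mul_right (c := Nat.card F * Nat.card K) ?_
          (Nat.mul_pos Nat.card_pos Nat.card_pos)
        exact h1.trans_eq (by ring)
      have hsurj := ((Nat.bijective_iff_injective_and_card j).2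
        ⟨hj, le_antisymm (Nat.card_le_card_of_injective j hj) hle⟩).2
      intro g hg
      obtain ⟨d, hd⟩ := hsurj ⟨g, hg⟩
      have e : b.a (-al d) * (d : P) = g := congrArg (fun t : fixer P H' => (t : P)) hd
      rw [← e]
      exact mul_mem (mem_sup_left (b.a_mem _)) (mem_sup_right d.2)
    have hxH : ∀ c, ∀ u ∈ H', b.x c • u ∈ H' := by
      intro c u hu
      obtain ⟨k, hk, y, rfl⟩ := hH'mem u hu
      have hz : k - b.E hq (b.ψ k 0) ∈ fix V L := (b.ker _).1 (by
        rw [map_sub, b.psi_E hq]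
        ext i; fin_cases i <;> simp [b.psi_fix hk.1])
      have h1 := hz _ (b.el_mem (low c))
      rw [show b.el (low c) = b.x c from rfl, smul_sub, sub_eq_iff_eq_add] at h1
      rw [smul_add, h1, b.x_E hq hG, b.x_f hq]
      exact H'.add_mem (H'.add_mem (hKH (K.sub_mem hk (hEK _))) (H'.add_mem (hKH (hEK _)) (hfH _)))
        (hfH _)
    set α := al d₁ with hαdef
    set g₀ := b.a (-α) * d₁ with hg₀
    have hxx : (b.x 1)⁻¹ = b.x (-1) := by rw [Block.x, Block.x, ← b.el_inv, low_inv]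
    have hg : b.x 1 * g₀ * (b.x 1)⁻¹ ∈ fixer P H' := by
      refine ⟨fun u hu => ?_, fun v => ?_⟩
      · rw [mul_smul, mul_smul, (hfix d₁ hd₁).1 _ (hxx ▸ hxH (-1) u hu), smul_inv_smul]
      · have := hxH 1 _ ((hfix d₁ hd₁).2 ((b.x 1)⁻¹ • v))
        rwa [smul_sub, smul_inv_smul, ← mul_smul, ← mul_smul] at this
    have h1 : g₀ • ζ 1 - ζ 1 = -b.E hq α := by
      have h2 := hφζ d₁ hd₁ 1
      rw [hφ d₁ hd₁, mul_one] at h2
      have h3 : d₁ • ζ 1 = ζ 1 - b.E hq α := by
        rw [hαdef, h2]; abel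
      rw [hg₀, mul_smul, h3, smul_sub, b.fix_le (hζ 1) _ (b.a_mem _),
        b.E_mem_fix hq _ _ (b.a_mem _)]
      abel
    have h4 : (b.x 1 * g₀ * (b.x 1)⁻¹) • ζ 1 - ζ 1 = -(b.E hq α + b.f hq α) := by
      have hfix1 : b.x 1 • ζ 1 = ζ 1 := hζ 1 _ (b.el_mem _)
      have h2 := congrArg (b.x 1 • ·) h1
      simp only [smul_sub, smul_neg, hfix1, b.x_E hq hG, one_mul] at h2
      rw [mul_smul, mul_smul, inv_smul_eq_iff.2 hfix1.symm, h2]
    have h5 := b.psi_fix (hval _ (hfle hg) (ζ 1)).1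
    rw [h4] at h5
    simp [b.psi_E hq, b.psi_f hq] at h5
    exact hα₁ h5

theorem com_le_fix_block : com V B ≤ fix V L := by
  refine com_le.2 fun d hd v g hg => ?_
  have hcomm := H.block_centralizes b hA hB hc hne hq
  have hfixA : ∀ u : V, d • u - u ∈ fix V A := fun u =>
    H.com_le_fix_pair hB hA (fun x hx y hy => (hc y hy x hx).symm) hne.symm (mem_com hd u)
  have key : ∀ l ∈ L, ∀ u : V, l • (d • u - u) = d • (l • u) - l • u := fun l hl u => by
    rw [smul_sub, ← mul_smul, hcomm l hl d hd, mul_smul]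
  refine (b.mem_fix_L.2 ⟨hfixA v, ?_⟩) g hg
  rw [Block.X, mem_fix_cj, key _ (L.inv_mem b.w_mem)]
  exact hfixA _

end Hyp

end CfsgLib.PMinFF
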