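import Cfsg.Agent.PMinFF.Blocks

/-!
The linear case: a member over a field with more than two elements.
-/

set_option autoImplicit false
set_option linter.style.haveILetI false
set_option linter.unusedSectionVars false

namespace CfsgLib.PMinFF

open Subgroup Matrix CfsgLib.OffGen CfsgLib.SL2Pair

variable {P : Type*} [Group P] [Finite P]
variable {V : Type*} [AddCommGroup V] [Finite V] [DistribMulAction P V]

theorem card_le_index_mul_inf (U C : AddSubgroup V) :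
    Nat.card U ≤ C.index * Nat.card ↥(U ⊓ C) := by
  let f : U →+ V ⧸ C := (QuotientAddGroup.mk' C).comp U.subtype
  rw [AddSubgroup.card_eq_card_quotient_mul_card_addSubgroup f.ker]
  refine Nat.mul_le_mul (Nat.card_le_card_of_injective _ (QuotientAddGroup.kerLift_injective f))
    (Nat.card_le_card_of_injective (fun z : f.ker => (⟨((z : U) : V), (z : U).2,
      (QuotientAddGroup.eq_zero_iff _).1 z.2⟩ : ↥(U ⊓ C))) fun z z' h =>
        Subtype.ext (Subtype.ext (congrArg (fun t : ↥(U ⊓ C) => (t : V)) h :)))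

theorem commute_of_conj {G : Type*} [Group G] {t a y : G}
    (h : t * a * t⁻¹ * (t * y * t⁻¹) = t * y * t⁻¹ * (t * a * t⁻¹)) : a * y = y * a :=
  calc a * y = t⁻¹ * (t * a * t⁻¹ * (t * y * t⁻¹)) * t := by group
    _ = t⁻¹ * (t * y * t⁻¹ * (t * a * t⁻¹)) * t := by rw [h]
    _ = y * a := by group

namespace Block

variable {F : Type} [Field F] [Finite F] {A L : Subgroup P} (b : Block V F A L)

include b

theorem index_fix : (fix V A).index = Nat.card F := by
  have h1 := (fix V A).card_mul_index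
  rw [b.card_V, b.card_fix, show Nat.card F * Nat.card F * Nat.card (fix V L) =
    Nat.card F * Nat.card (fix V L) * Nat.card F by ring] at h1
  exact Nat.eq_of_mul_eq_mul_left (Nat.mul_pos Nat.card_pos Nat.card_pos) h1

theorem not_commute_X : ¬ ∀ g ∈ A, ∀ y ∈ b.X, g * y = y * g := by
  intro h
  have h1 := h _ (b.a_mem 1) (b.x 1) (b.mem_X.2 ⟨1, rfl⟩)
  obtain ⟨v, hv⟩ := b.surj ![1, 0]
  have h2 := congrArg (fun g : P => b.ψ (g • v) 0) h1
  simp [mul_smul, psi_a, psi_x, hv] at h2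

variable (hq : 2 < Nat.card F)

include hq

theorem com_L_split {u : V} (hu : u ∈ com V L) :
    u - b.E hq (b.ψ u 0) - b.f hq (b.ψ u 1) ∈ b.R₀ := by
  set Kf := (AddMonoidHom.mk' (b.f hq) (b.f_add hq)).range
  set KE := (b.EHom hq).range
  have h := b.com_L_le hq (KE ⊔ Kf ⊔ b.R₀)
    (fun s => AddSubgroup.mem_sup_left (AddSubgroup.mem_sup_left ⟨s, rfl⟩))
    (fun s => AddSubgroup.mem_sup_left (AddSubgroup.mem_sup_right ⟨s, rfl⟩))
    (fun α y => AddSubgroup.mem_sup_right (b.G_mem hq α y)) hu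
  obtain ⟨z, hz, r, hr, rfl⟩ := AddSubgroup.mem_sup.1 h
  obtain ⟨e, ⟨s, rfl⟩, f', ⟨y, rfl⟩, rfl⟩ := AddSubgroup.mem_sup.1 hz
  have hψ : b.ψ (b.EHom hq s + AddMonoidHom.mk' (b.f hq) (b.f_add hq) y + r) = ![s, y] := by
    rw [map_add, map_add, (b.ker r).2 hr.1, add_zero, AddMonoidHom.mk'_apply, b.EHom_apply hq,
      b.psi_E hq, b.psi_f hq]
    ext i; fin_cases i <;> simp
  rw [hψ]
  simp only [cons_val_zero, cons_val_one, AddMonoidHom.mk'_apply, b.EHom_apply hq]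
  rwa [show b.E hq s + b.f hq y + r - b.E hq s - b.f hq y = r by abel]

theorem f_mem_com (y : F) : b.f hq y ∈ com V L :=
  smul_mem_com_self b.w_mem (com_mono b.le (b.E_mem_com hq y))

theorem card_com_ge : Nat.card F * (Nat.card F * Nat.card b.R₀) ≤ Nat.card (com V L) := by
  rw [← Nat.card_prod, ← Nat.card_prod]
  refine Nat.card_le_card_of_injective (fun z : F × F × b.R₀ =>
    (⟨b.E hq z.1 + b.f hq z.2.1 + (z.2.2 : V), (com V L).add_mem ((com V L).add_mem
      (com_mono b.le (b.E_mem_com hq _)) (b.f_mem_com hq _))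
      (com_mono b.le (AddSubgroup.mem_inf.1 z.2.2.2).2)⟩ : com V L)) fun z z' h => ?_
  have h' : b.E hq z.1 + b.f hq z.2.1 + (z.2.2 : V) = b.E hq z'.1 + b.f hq z'.2.1 + (z'.2.2 : V) :=
    congrArg (fun t : com V L => (t : V)) h
  have h1 := congrArg b.ψ h'
  rw [map_add, map_add, map_add, map_add, (b.ker _).2 z.2.2.2.1, (b.ker _).2 z'.2.2.2.1,
    b.psi_E hq, b.psi_f hq, b.psi_E hq, b.psi_f hq] at h1
  have e0 := congrFun h1 0
  have e1 := congrFun h1 1
  simp at e0 e1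
  rw [e0, e1, add_right_inj] at h'
  exact Prod.ext e0 (Prod.ext e1 (Subtype.ext h'))

theorem E_orbit {g : P} (hg : g ∈ L) {s : F} (hs : s ≠ 0)
    (h : b.ψ (g • b.E hq s) 1 = 0) : g • b.E hq s = b.E hq (b.ψ (g • b.E hq s) 0) := by
  have hψ := b.equi ⟨g, hg⟩ (b.E hq s)
  rw [b.psi_E hq] at hψ
  change b.ψ (g • b.E hq s) = _ at hψ
  set m := b.ρ ⟨g, hg⟩ with hm
  have h10 : (m : Matrix (Fin 2) (Fin 2) F) 1 0 = 0 := by
    rw [hψ] at h
    simp [Matrix.mulVec, dotProduct, Fin.sum_univ_two, hs] at h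
    exact h
  have hd : (m : Matrix (Fin 2) (Fin 2) F) 0 0 * (m : Matrix (Fin 2) (Fin 2) F) 1 1 = 1 := by
    have := m.2
    rw [Matrix.det_fin_two, h10, mul_zero, sub_zero] at this
    exact this
  set c : Fˣ := Units.mk0 _ (left_ne_zero_of_mul_eq_one hd)
  have h11 : (m : Matrix (Fin 2) (Fin 2) F) 1 1 = ((c : F))⁻¹ :=
    (inv_eq_of_mul_eq_one_right hd).symm
  have he : m = up ((m : Matrix (Fin 2) (Fin 2) F) 0 1 * c) * dS c := by
    ext i j
    fin_cases i <;> fin_cases j <;>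
      simp [up_coe, dS_coe, Matrix.mul_apply, Fin.sum_univ_two, h10, h11, c]
    rw [mul_assoc, mul_inv_cancel₀ (left_ne_zero_of_mul_eq_one hd), mul_one]
  have hgeq : g = b.a ((m : Matrix (Fin 2) (Fin 2) F) 0 1 * c) * b.h c := by
    rw [a, Block.h, ← el_mul, ← he, hm, el_rho]
  rw [hψ]
  conv_lhs => rw [hgeq]
  rw [mul_smul, b.h_E hq, b.E_mem_fix hq _ _ (b.a_mem _)]
  simp [Matrix.mulVec, dotProduct, Fin.sum_univ_two, c]

end Block

namespace Hyp

variable {p : ℕ} [Fact p.Prime] {T : Sylow p P} {M : Subgroup P} (H : Hyp V p T M)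
variable {F : Type} [Field F] [Finite F] {A L : Subgroup P} (b : Block V F A L)
variable (hA : Mem V p A) (hAT : A ≤ (T : Subgroup P)) (hL : ¬ L ≤ M) (hq : 2 < Nat.card F)

include H b hA hAT hL hq

theorem X_not_le : ¬ b.X ≤ M := fun h => hL (b.le_of_le (hAT.trans H.hover.1) h)

theorem exists_x : ∃ x ∈ b.X, x ∉ M := SetLike.not_le_iff_exists.1 (H.X_not_le b hA hAT hL hq)

theorem centralizes {B : Subgroup P} (hB : Mem V p B) (hc : ∀ a ∈ A, ∀ d ∈ B, a * d = d * a)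
    (hne : A ≠ B) : ∀ g ∈ L, ∀ d ∈ B, g * d = d * g :=
  H.block_centralizes b hA hB hc hne hq

theorem h_mem_M (c : Fˣ) : b.h c ∈ M := by
  refine H.normalizer_mems_le hA (mem_normalizer_of_le ?_)
  rw [cj_le_iff, sSup_le_iff]
  intro B hB
  rw [← cj_le_iff]
  refine le_trans ?_ (le_sSup hB)
  by_cases hBA : A = B
  · rw [← hBA, b.cj_h]
  · have hc := H.centralizes b hA hAT hL hq hB.1 (H.commute_mems ⟨hA, hAT⟩ hB) hBA _ (b.h_mem c)
    rintro - ⟨d, hd, rfl⟩
    simpa [hc d hd] using hd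

theorem mems_eq {B : Subgroup P} (hB : B ∈ mems V p (T : Subgroup P)) :
    ∃ t ∈ (T : Subgroup P), B = cj t A := by
  by_contra hcon
  push Not at hcon
  obtain ⟨x, hx, hxM⟩ := H.exists_x b hA hAT hL hq
  have hmem : ∀ t ∈ (T : Subgroup P), cj t B ∈ mems V p (T : Subgroup P) := fun t ht =>
    ⟨hB.1.cj t, (cj_mono t hB.2).trans_eq (cj_self ht)⟩
  refine H.false_of_centralized (𝒮 := {C | ∃ t ∈ (T : Subgroup P), C = cj t B}) (B := B)
    ⟨1, one_mem _, (cj_one B).symm⟩ hB.1 ?_ ?_ hxM ?_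
  · rintro C ⟨t, ht, rfl⟩
    exact (hmem t ht).2.trans H.hover.1
  · rintro C ⟨t, ht, rfl⟩ u hu
    exact ⟨u * t, mul_mem hu ht, (cj_mul u t B).symm⟩
  · rintro C ⟨t, ht, rfl⟩
    refine H.centralizes b hA hAT hL hq (hmem t ht).1 (H.commute_mems ⟨hA, hAT⟩ (hmem t ht))
      (fun e => hcon t⁻¹ (inv_mem ht) ?_) x (b.X_le hx)
    rw [e, cj_inv_cj]

omit hq in
/-- The normal closure of the opposite root group. -/
theorem closure_normal : (⨆ t ∈ (T : Subgroup P), cj t b.X).Normal := by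
  obtain ⟨x, hx, hxM⟩ := SetLike.not_le_iff_exists.1
    (show ¬ b.X ≤ M from fun h => hL (b.le_of_le (hAT.trans H.hover.1) h))
  refine normalizer_eq_top_iff.1 (H.top_of_not_mem (normalizer_iSup_cj _ _) ?_ hxM)
  have hle : b.X ≤ ⨆ t ∈ (T : Subgroup P), cj t b.X :=
    le_iSup₂_of_le 1 (T : Subgroup P).one_mem (cj_one _).ge
  exact le_normalizer (hle hx)

theorem mem_le_closure {B : Subgroup P} (hB : Mem V p B) :
    B ≤ ⨆ t ∈ (T : Subgroup P), cj t b.X := by
  haveI hn := H.closure_normal b hA hAT hL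
  have hcj : ∀ g : P, ∀ C : Subgroup P, C ≤ (⨆ t ∈ (T : Subgroup P), cj t b.X) →
      cj g C ≤ ⨆ t ∈ (T : Subgroup P), cj t b.X := by
    rintro g C hC - ⟨c, hc, rfl⟩
    exact hn.conj_mem c (hC hc) g
  obtain ⟨g, hg⟩ := H.exists_conj_mems hB
  obtain ⟨t, ht, e⟩ := H.mems_eq b hA hAT hL hq hg
  have hX : b.X ≤ ⨆ t ∈ (T : Subgroup P), cj t b.X :=
    le_iSup₂_of_le 1 (one_mem _) (cj_one _).ge
  have hA' : A ≤ ⨆ t ∈ (T : Subgroup P), cj t b.X := by
    have := hcj b.w⁻¹ _ hX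
    rwa [Block.X, cj_inv_cj] at this
  have := hcj g⁻¹ _ (hcj t _ hA')
  rwa [← e, cj_inv_cj] at this

theorem member_in_M {B : Subgroup P} (hB : Mem V p B) (hBM : B ≤ M) : ∃ m ∈ M, B = cj m A := by
  obtain ⟨m, hm, hmem⟩ := H.exists_mems_of_le hB hBM
  obtain ⟨t, ht, e⟩ := H.mems_eq b hA hAT hL hq hmem
  exact ⟨m * t, mul_mem hm (H.hover.1 ht), by rw [cj_mul, ← e, cj_cj_inv]⟩

theorem exists_v₀ : ∃ v₀ ∈ fix V (T : Subgroup P), b.ψ v₀ 0 ≠ 0 := by
  by_contra hcon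
  push Not at hcon
  exact H.X_not_le b hA hAT hL hq fun x hx =>
    H.cent x fun v hv => (b.mem_fix_X.2 (hcon v hv)) x hx

section Orbit

variable {v₀ : V} (hv₀ : v₀ ∈ fix V (T : Subgroup P)) (hs₀ : b.ψ v₀ 0 ≠ 0)

include hv₀ hs₀

theorem stab_le {g : P} {m : P} (hm : m ∈ M) (hg : g • m • v₀ = m • v₀) : g ∈ M := by
  have key : ∀ y : P, y • v₀ = v₀ → y ∈ M := by
    intro y hy
    by_contra hyM
    have htop : MulAction.stabilizer P v₀ = ⊤ :=
      H.top_of_not_mem (fun t ht => hv₀ t ht) hy hyM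
    refine hs₀ (b.mem_fix_X.1 fun x hx => ?_)
    exact MulAction.mem_stabilizer_iff.1 (htop ▸ mem_top x)
  have h2 := key (m⁻¹ * g * m) (by rw [mul_smul, mul_smul, hg, inv_smul_smul])
  simpa [mul_assoc] using mul_mem (mul_mem hm h2) (inv_mem hm)

theorem orbit_le_fix {m : P} (hm : m ∈ M) : m • v₀ ∈ fix V A := by
  by_contra hcon
  have h1 : b.ψ (m • v₀) 1 ≠ 0 := fun h => hcon ((b.fix_eq _).2 h)
  set c := -(b.ψ (m • v₀) 0 / b.ψ (m • v₀) 1) with hc
  have hfix : b.a c • m • v₀ ∈ fix V b.X := by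
    rw [b.mem_fix_X, Block.psi_a]
    simp only [cons_val_zero, hc, neg_mul, div_mul_cancel₀ _ h1, add_neg_cancel]
  refine H.X_not_le b hA hAT hL hq fun x hx => ?_
  exact H.stab_le b hA hAT hL hq hv₀ hs₀ (mul_mem (hAT.trans H.hover.1 (b.a_mem c)) hm)
    (by rw [mul_smul (b.a c) m]; exact hfix x hx)

theorem member_fix_orbit {B : Subgroup P} (hB : Mem V p B) (hBM : B ≤ M) {m : P} (hm : m ∈ M) :
    m • v₀ ∈ fix V B := by
  obtain ⟨k, hk, rfl⟩ := H.member_in_M b hA hAT hL hq hB hBM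
  rw [mem_fix_cj, ← mul_smul]
  exact H.orbit_le_fix b hA hAT hL hq hv₀ hs₀ (mul_mem (inv_mem hk) hm)

theorem z₀_fix : v₀ - b.E hq (b.ψ v₀ 0) ∈ fix V L := by
  refine (b.ker _).1 ?_
  rw [map_sub, b.psi_E hq]
  have h := b.psi_fix (fix_anti hAT hv₀ : v₀ ∈ fix V A)
  ext i; fin_cases i <;> simp [h]

theorem orbit_E {s : F} (hs : s ≠ 0) :
    ∃ m ∈ M, b.E hq s + (v₀ - b.E hq (b.ψ v₀ 0)) = m • v₀ := by
  set c : Fˣ := Units.mk0 (s / b.ψ v₀ 0) (div_ne_zero hs hs₀)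
  refine ⟨b.h c, H.h_mem_M b hA hAT hL hq c, ?_⟩
  have h2 := H.z₀_fix b hA hAT hL hq hv₀ hs₀ _ (b.h_mem c)
  rw [smul_sub, b.h_E hq, show (c : F) * b.ψ v₀ 0 = s from div_mul_cancel₀ _ hs₀,
    sub_eq_iff_eq_add] at h2
  rw [h2]
  abel

theorem member_fix_E {B : Subgroup P} (hB : Mem V p B) (hBM : B ≤ M) (t : F) :
    b.E hq t ∈ fix V B := by
  by_cases ht : t = 0
  · rw [ht, b.E_zero hq]; exact zero_mem _
  obtain ⟨u, hu⟩ := b.exists_unit hq
  have hs : t / ((u : F) - 1) ≠ 0 := div_ne_zero ht (sub_ne_zero.2 hu)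
  obtain ⟨m, hm, e⟩ := H.orbit_E b hA hAT hL hq hv₀ hs₀ hs
  obtain ⟨m', hm', e'⟩ := H.orbit_E b hA hAT hL hq hv₀ hs₀ (mul_ne_zero (Units.ne_zero u) hs)
  have h2 := (fix V B).sub_mem (H.member_fix_orbit b hA hAT hL hq hv₀ hs₀ hB hBM hm')
    (H.member_fix_orbit b hA hAT hL hq hv₀ hs₀ hB hBM hm)
  rw [← e, ← e', add_sub_add_right_eq_sub, ← b.EHom_apply hq, ← b.EHom_apply hq, ← map_sub,
    b.EHom_apply hq] at h2
  rwa [show (u : F) * (t / ((u : F) - 1)) - t / ((u : F) - 1) = t by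
    field_simp [sub_ne_zero.2 hu]] at h2

omit hv₀ hs₀ in
/-- A conjugate of the opposite root group fixing `[V, A]` is `A`. -/
theorem eq_of_fixes_com {t g : P} (ht : t ∈ (T : Subgroup P)) (htA : cj t A = A) (hg : g ∈ L)
    (hfix : com V A ≤ fix V (cj g (cj t b.X))) : cj g (cj t b.X) = A := by
  set B := cj g (cj t b.X) with hBdef
  have hB : Mem V p B := ((hA.cj b.w).cj t).cj g
  by_contra hne
  have hAN : A ≤ normalizer (B : Set P) := fun a ha => H.mem_normalizer_of_fix hB fun v hv => by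
    rw [show a • v = (a • v - v) + v by abel]
    exact (fix V B).add_mem (hfix (mem_com ha v)) hv
  have hc : ∀ a ∈ A, ∀ d ∈ B, a * d = d * a := H.commute_of_pGroup hA hB (by
    rw [sup_comm]
    exact isPGroup_sup hB.elem.isPGroup hA.elem.isPGroup hAN)
  have hcent := H.centralizes b hA hAT hL hq hB hc (Ne.symm hne)
  have hX : cj t b.X = B := by
    rw [← cj_inv_cj g (cj t b.X)]
    refine cj_eq_of_le ?_
    rintro - ⟨d, hd, rfl⟩
    simpa [hcent _ (inv_mem hg) d hd] using hd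
  refine b.not_commute_X fun a ha y hy => ?_
  have h1 : t * a * t⁻¹ ∈ A := htA ▸ conj_mem_cj ha
  exact commute_of_conj (hc _ h1 _ (hX ▸ conj_mem_cj hy : t * y * t⁻¹ ∈ B))

omit hv₀ hs₀ in
theorem index_fix_X' (t : P) : (fix V (cj t b.X)).index = Nat.card F := by
  rw [← b.index_fix]
  have h1 := (fix V (cj t b.X)).card_mul_index
  rw [← (fix V A).card_mul_index, Block.X, card_fix_cj, card_fix_cj] at h1
  exact Nat.eq_of_mul_eq_mul_left Nat.card_pos h1

/-- The stabilizer of the member in the Sylow subgroup fixes the fixed part of its commutator space. -/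
theorem R₀_invariant {t : P} (ht : t ∈ (T : Subgroup P)) (htA : cj t A = A) {r : V}
    (hr : r ∈ b.R₀) : t • r ∈ b.R₀ := by
  classical
  by_contra hout
  have htc : ∀ {u : V}, u ∈ com V A → t • u ∈ com V A := fun {u} hu =>
    htA ▸ smul_mem_com_cj (g := t) hu
  have hp : p = 2 := by
    by_contra hp
    have hG := b.G_odd hq hp H.exp
    have h1 : com V A ≤ (b.EHom hq).range :=
      b.com_le_of hq _ (fun s => ⟨s, rfl⟩) fun α y => by rw [hG]; exact zero_mem _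
    obtain ⟨s, hs⟩ := h1 (AddSubgroup.mem_inf.1 hr).2
    refine hout ?_
    have h2 : b.ψ (b.EHom hq s) = 0 := by rw [hs]; exact (b.ker r).2 hr.1
    rw [b.EHom_apply hq, b.psi_E hq] at h2
    have h3 := congrFun h2 0
    simp at h3
    rw [← hs, b.EHom_apply hq, h3, b.E_zero hq, smul_zero]
    exact zero_mem _
  subst hp
  have h2F : (2 : F) = 0 := by simpa using b.cast_prime hq (p := 2) H.exp
  let G0 : F →+ V := AddMonoidHom.mk' (b.G hq 1) fun y z => b.G_add_right hq 1 y z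
  have hG0 : ∀ y, G0 y = b.G hq 1 y := fun _ => rfl
  have hG0R : ∀ y, G0 y ∈ b.R₀ := fun y => b.G_mem hq 1 y
  have hsplit : ∀ u ∈ com V A, ∃ s y, u = b.E hq s + G0 y := by
    intro u hu
    have h1 : com V A ≤ (b.EHom hq).range ⊔ G0.range :=
      b.com_le_of hq _ (fun s => AddSubgroup.mem_sup_left ⟨s, rfl⟩) fun α y => by
        obtain ⟨γ, rfl⟩ := b.exists_sqrt hq H.exp α
        rw [b.G_square hq]
        exact AddSubgroup.mem_sup_right ⟨γ * y, rfl⟩
    obtain ⟨-, ⟨s, rfl⟩, -, ⟨y, rfl⟩, rfl⟩ := AddSubgroup.mem_sup.1 (h1 hu)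
    exact ⟨s, y, rfl⟩
  have hpsi : ∀ s y, b.ψ (b.E hq s + G0 y) = ![s, 0] := fun s y => by
    rw [map_add, b.psi_E hq, (b.ker _).2 (hG0R y).1, add_zero]
  have hR0 : ∀ u ∈ b.R₀, ∃ y, u = G0 y := by
    intro u hu
    obtain ⟨s, y, rfl⟩ := hsplit u (AddSubgroup.mem_inf.1 hu).2
    have := congrFun (((b.ker _).2 hu.1).symm.trans (hpsi s y)) 0
    simp at this
    exact ⟨y, by rw [← this, b.E_zero hq, zero_add]⟩
  let Val : V → Prop := fun u => ∃ a ∈ A, ∃ v : V, a • v - v = u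
  have hValt : ∀ u, Val (t • u) → Val u := by
    rintro u ⟨a, ha, v, e⟩
    refine ⟨t⁻¹ * a * t, ?_, t⁻¹ • v, ?_⟩
    · rw [← htA, mem_cj] at ha; exact ha
    · rw [mul_smul, mul_smul, smul_inv_smul, ← smul_sub, e, inv_smul_smul]
  have hVal1 : ∀ s y, s ≠ 0 → y ≠ 0 → Val (b.E hq s + G0 y) := by
    intro s y hs hy
    refine ⟨b.a (s / y * (s / y)), b.a_mem _, b.f hq (y / (s / y)), ?_⟩
    rw [b.value hq, b.G_square hq, hG0]
    congr 2 <;> field_simp
  have hVal2 : ∀ u, Val u → u = 0 ∨ ∃ s y, s ≠ 0 ∧ y ≠ 0 ∧ u = b.E hq s + G0 y := by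
    rintro u ⟨a, ha, v, rfl⟩
    obtain ⟨α, rfl⟩ := b.exists_a ha
    rw [b.value_any hq]
    obtain ⟨γ, rfl⟩ := b.exists_sqrt hq H.exp α
    rw [b.G_square hq]
    set y := b.ψ v 1
    by_cases hy : γ * y = 0
    · left
      rw [hy, mul_assoc, hy, mul_zero, b.E_zero hq, b.G_zero_right hq, add_zero]
    · exact Or.inr ⟨_, _, by
        rw [mul_assoc]; exact mul_ne_zero (left_ne_zero_of_mul hy) hy, hy, rfl⟩
  have hnotVal : ∀ u ∈ b.R₀, u ≠ 0 → ¬ Val u := by
    intro u hu hu0 hv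
    rcases hVal2 u hv with h | ⟨s, y, hs, -, rfl⟩
    · exact hu0 h
    · have := congrFun (((b.ker _).2 hu.1).symm.trans (hpsi s y)) 0
      simp at this
      exact hs (by simpa using this.symm)
  have hr0 : r ≠ 0 := fun h => hout (by rw [h, smul_zero]; exact zero_mem _)
  have hinj : Function.Injective G0 := by
    rw [injective_iff_map_eq_zero]
    intro k hk
    by_contra hk0
    obtain ⟨s, y, e⟩ := hsplit _ (htc (AddSubgroup.mem_inf.1 hr).2)
    have hs : s ≠ 0 := fun h => hout (by rw [e, h, b.E_zero hq, zero_add]; exact hG0R y)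
    have e' : ∃ y', y' ≠ 0 ∧ t • r = b.E hq s + G0 y' := by
      by_cases hy : y = 0
      · exact ⟨k, hk0, by rw [e, hk, hy, map_zero]⟩
      · exact ⟨y, hy, e⟩
    obtain ⟨y', hy', e'⟩ := e'
    exact hnotVal r hr hr0 (hValt r (e' ▸ hVal1 s y' hs hy'))
  have hnon : ∀ u ∈ com V A, ¬ Val u → (∃ s, u = b.E hq s) ∨ u ∈ b.R₀ := by
    intro u hu hv
    obtain ⟨s, y, rfl⟩ := hsplit u hu
    by_cases hs : s = 0
    · exact Or.inr (by rw [hs, b.E_zero hq, zero_add]; exact hG0R y)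
    by_cases hy : y = 0
    · exact Or.inl ⟨s, by rw [hy, map_zero, add_zero]⟩
    · exact absurd (hVal1 s y hs hy) hv
  have htR : ∀ r' ∈ b.R₀, ∃ s, t • r' = b.E hq s := by
    have key : ∀ r' ∈ b.R₀, (∃ s, t • r' = b.E hq s) ∨ t • r' ∈ b.R₀ := by
      intro r' hr'
      by_cases h0 : r' = 0
      · exact Or.inl ⟨0, by rw [h0, smul_zero, b.E_zero hq]⟩
      · exact hnon _ (htc (AddSubgroup.mem_inf.1 hr').2)
          fun hv => hnotVal r' hr' h0 (hValt r' hv)
    intro r' hr'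
    rcases key r' hr' with h | h
    · exact h
    · obtain ⟨s, hs⟩ := (key r hr).resolve_right hout
      rcases key _ (add_mem hr hr') with ⟨s', hs'⟩ | h'
      · rw [smul_add, hs] at hs'
        exact ⟨s' - s, by
          rw [← b.EHom_apply hq, map_sub, b.EHom_apply hq, b.EHom_apply hq, ← hs',
            add_sub_cancel_left]⟩
      · rw [smul_add] at h'
        exact absurd (by simpa using b.R₀.sub_mem h' h) hout
  choose σ hσ using fun y : F => htR _ (hG0R y)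
  have hσinj : Function.Injective σ := fun y y' h => hinj (MulAction.injective t (by
    show t • G0 y = t • G0 y'
    rw [hσ, hσ, h]))
  have hER : ∀ s, ∃ y, t • G0 y = b.E hq s := fun s => by
    obtain ⟨y, rfl⟩ := (Finite.injective_iff_surjective.1 hσinj) s
    exact ⟨y, hσ y⟩
  have htE : ∀ s, t • b.E hq s ∈ b.R₀ := by
    intro s
    by_cases hs : s = 0
    · rw [hs, b.E_zero hq, smul_zero]; exact zero_mem _
    have hv : ¬ Val (t • b.E hq s) := fun hv => by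
      rcases hVal2 _ (hValt _ hv) with h | ⟨s', y', -, hy', e⟩
      · exact hs (b.E_inj hq (h.trans (b.E_zero hq).symm))
      · have := congrFun ((b.psi_E hq s).symm.trans ((congrArg b.ψ e).trans (hpsi s' y'))) 0
        simp at this
        rw [← this, left_eq_add] at e
        exact hy' (hinj (e.trans (map_zero G0).symm))
    rcases hnon _ (htc (b.E_mem_com hq s)) hv with ⟨s', e⟩ | h
    · obtain ⟨y, hy⟩ := hER s'
      have h1 := congrArg (b.ψ · 0) (MulAction.injective t (e.trans hy.symm) : b.E hq s = G0 y)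
      simp [b.psi_E hq, (b.ker _).2 (hG0R y).1] at h1
      exact absurd h1 hs
    · exact h
  set s₀ := b.ψ v₀ 0
  set X' := cj t b.X with hX'
  set C := fix V X' with hC
  set r₁ := t • b.E hq s₀ with hr₁
  set z₁ := v₀ - b.E hq s₀ - r₁ with hz₁
  have hz₀ := H.z₀_fix b hA hAT hL hq hv₀ hs₀
  have hz₁L : z₁ ∈ fix V L := (fix V L).sub_mem hz₀ (htE s₀).1
  have hXfix : ∀ u ∈ fix V L, t • u ∈ C := fun u hu => by
    rw [hC, hX', mem_fix_cj, inv_smul_smul]
    exact fix_anti b.X_le hu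
  have hEC : ∀ s, b.E hq s ∈ C := fun s => by
    obtain ⟨y, hy⟩ := hER s
    exact hy ▸ hXfix _ (hG0R y).1
  have htz : t • (v₀ - b.E hq s₀) = v₀ - r₁ := by rw [smul_sub, hv₀ t ht]
  have hz₁C : z₁ ∈ C := by
    rw [show z₁ = t • (v₀ - b.E hq s₀) - b.E hq s₀ by rw [htz, hz₁]; abel]
    exact C.sub_mem (hXfix _ hz₀) (hEC _)
  have horb : ∀ s, s ≠ 0 → ∀ r' ∈ b.R₀, r' ≠ 0 →
      ∃ m ∈ M, b.E hq s + r' + z₁ = m • v₀ := by
    intro s hs r' hr' hr'0
    have hy : ∃ c : F, c ≠ 0 ∧ r' = t • b.E hq c := by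
      have hinj' : Function.Injective fun c : F => (⟨t • b.E hq c, htE c⟩ : b.R₀) := fun c c' h =>
        b.E_inj hq (MulAction.injective t (congrArg (fun z : b.R₀ => (z : V)) h))
      have hcard : Nat.card b.R₀ ≤ Nat.card F :=
        Nat.card_le_card_of_surjective (fun y => (⟨G0 y, hG0R y⟩ : b.R₀)) fun u => by
          obtain ⟨y, hy⟩ := hR0 u u.2
          exact ⟨y, Subtype.ext hy.symm⟩
      obtain ⟨c, hc⟩ := ((Nat.bijective_iff_injective_and_card _).2
        ⟨hinj', le_antisymm (Nat.card_le_card_of_injective _ hinj') hcard⟩).2 ⟨r', hr'⟩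
      have hc' : t • b.E hq c = r' := congrArg (fun z : b.R₀ => (z : V)) hc
      exact ⟨c, fun h => hr'0 (by rw [← hc', h, b.E_zero hq, smul_zero]), hc'.symm⟩
    obtain ⟨c, hc, rfl⟩ := hy
    set u : Fˣ := Units.mk0 (c / s₀) (div_ne_zero hc hs₀)
    obtain ⟨m, hm, e⟩ := H.orbit_E b hA hAT hL hq hv₀ hs₀ hs
    set k := t * b.h u * t⁻¹ with hk
    refine ⟨k * m, mul_mem (mul_mem (mul_mem (H.hover.1 ht) (H.h_mem_M b hA hAT hL hq u))
      (inv_mem (H.hover.1 ht))) hm, ?_⟩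
    have hfixR : ∀ w ∈ b.R₀, k • (t • w) = t • w := fun w hw => by
      rw [hk, mul_smul, mul_smul, inv_smul_smul, b.smul_R₀ (b.h_mem u) hw]
    have hkE : ∀ s', k • b.E hq s' = b.E hq s' := fun s' => by
      obtain ⟨y, hy⟩ := hER s'
      rw [← hy]; exact hfixR _ (hG0R y)
    have hkr : k • r₁ = t • b.E hq c := by
      rw [hk, hr₁, mul_smul, mul_smul, inv_smul_smul, b.h_E hq,
        show (u : F) * s₀ = c from div_mul_cancel₀ _ hs₀]
    have hkz : k • z₁ = z₁ := by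
      have h1 : k • (t • (v₀ - b.E hq s₀)) = t • (v₀ - b.E hq s₀) := by
        rw [hk, mul_smul, mul_smul, inv_smul_smul, hz₀ _ (b.h_mem u)]
      rw [show z₁ = t • (v₀ - b.E hq s₀) - b.E hq s₀ by rw [htz, hz₁]; abel, smul_sub, h1, hkE]
    rw [mul_smul, ← e, show v₀ - b.E hq s₀ = r₁ + z₁ by rw [hz₁]; abel, smul_add, smul_add,
      hkE, hkr, hkz, add_assoc]
  have hkey : ∀ w ∈ com V L ⊓ C, ∀ g ∈ L, ∀ s, s ≠ 0 → ∀ r' ∈ b.R₀,
      g • w = b.E hq s + r' → r' = 0 := by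
    intro w hw g hg s hs r' hr' e
    by_contra hr'0
    obtain ⟨m, hm, em⟩ := horb s hs r' hr' hr'0
    set B := cj g X' with hBdef
    have hB : Mem V 2 B := ((hA.cj b.w).cj t).cj g
    have hBM : B ≤ M := fun d hd => H.stab_le b hA hAT hL hq hv₀ hs₀ hm (by
      have h1 : w + z₁ ∈ C := C.add_mem hw.2 hz₁C
      have h2 : g • (w + z₁) = m • v₀ := by rw [smul_add, e, hz₁L g hg, ← em]
      rw [← h2]
      exact (show g • (w + z₁) ∈ fix V B by rw [mem_fix_cj, inv_smul_smul]; exact h1) d hd)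
    have hfE := H.member_fix_E b hA hAT hL hq hv₀ hs₀ hB hBM
    have hfR : ∀ r'' ∈ b.R₀, r'' ∈ fix V B := by
      intro r'' hr''
      by_cases h : r'' = 0
      · rw [h]; exact zero_mem _
      obtain ⟨y, hy⟩ := hR0 r'' hr''
      have hy0 : y ≠ 0 := fun e0 => h (by rw [hy, e0, map_zero])
      obtain ⟨u, hu⟩ := b.exists_unit hq
      have hy1 : y / ((u : F) - 1) ≠ 0 := div_ne_zero hy0 (sub_ne_zero.2 hu)
      have hne : ∀ y', y' ≠ 0 → G0 y' ≠ 0 := fun y' hy' e0 =>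
        hy' (hinj (e0.trans (map_zero G0).symm))
      obtain ⟨m₁, hm₁, e₁⟩ := horb 1 one_ne_zero _ (hG0R _) (hne _ hy1)
      obtain ⟨m₂, hm₂, e₂⟩ := horb 1 one_ne_zero _ (hG0R _)
        (hne _ (mul_ne_zero (Units.ne_zero u) hy1))
      have h3 := (fix V B).sub_mem (H.member_fix_orbit b hA hAT hL hq hv₀ hs₀ hB hBM hm₂)
        (H.member_fix_orbit b hA hAT hL hq hv₀ hs₀ hB hBM hm₁)
      rw [← e₁, ← e₂, add_sub_add_right_eq_sub, add_sub_add_left_eq_sub, ← map_sub,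
        show (u : F) * (y / ((u : F) - 1)) - y / ((u : F) - 1) = y by
          field_simp [sub_ne_zero.2 hu]] at h3
      rwa [hy]
    have hfix : com V A ≤ fix V B := b.com_le_of hq _ hfE fun α y => hfR _ (b.G_mem hq α y)
    have hBA : B = A := H.eq_of_fixes_com b hA hAT hL hq ht htA hg hfix
    have hX'L : X' ≤ L := fun d hd => by
      have h1 := b.le (hBA ▸ conj_mem_cj (g := g) hd : g * d * g⁻¹ ∈ A)
      simpa [mul_assoc] using mul_mem (mul_mem (inv_mem hg) h1) hg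
    have hXA : X' = A := by
      refine H.eq_of_fix_eq ((hA.cj b.w).cj t) hA (AddSubgroup.eq_of_le_of_card_ge ?_ ?_).symm
      · intro v hv
        have h1 : v - b.E hq (b.ψ v 0) ∈ fix V L := (b.ker _).1 (by
          rw [map_sub, b.psi_E hq]
          ext i; fin_cases i <;> simp [b.psi_fix hv])
        rw [← sub_add_cancel v (b.E hq (b.ψ v 0))]
        exact C.add_mem (fun d hd => h1 d (hX'L hd)) (hEC _)
      · rw [hX', Block.X, card_fix_cj, card_fix_cj]
    have hX : b.X = A := cj_injective t (hXA.trans htA.symm)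
    exact b.not_commute_X fun a ha y hy => hA.elem.comm a ha y (hX ▸ hy)
  set S := com V L ⊓ C with hS
  have hES : ∀ s, b.E hq s ∈ S := fun s => ⟨com_mono b.le (b.E_mem_com hq s), hEC s⟩
  have hrest : ∀ g ∈ L, ∀ w ∈ com V L, b.ψ (g • w) 1 = 0 →
      g • w - b.E hq (b.ψ (g • w) 0) ∈ b.R₀ := by
    intro g hg w hw h1
    have := b.com_L_split hq (smul_mem_com_self hg hw)
    rwa [h1, b.f_zero hq, sub_zero] at this
  have hker : ∀ w ∈ S, b.ψ w = 0 → w = 0 := by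
    intro w hw h0
    have hwR : w ∈ b.R₀ := by
      have := b.com_L_split hq hw.1
      simpa [h0, b.E_zero hq, b.f_zero hq] using this
    exact hkey (b.E hq 1 + w) (S.add_mem (hES 1) hw) 1 (one_mem L) 1 one_ne_zero w hwR
      (one_smul _ _)
  have hSurj : ∀ y, ∃ w ∈ S, b.ψ w = y := by
    have hinj' : Function.Injective fun w : S => b.ψ (w : V) := fun w w' h =>
      Subtype.ext (sub_eq_zero.1 (hker _ (S.sub_mem w.2 w'.2) (by rw [map_sub, sub_eq_zero]; exact h)))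
    have hcard : Nat.card (Fin 2 → F) ≤ Nat.card S := by
      rw [Nat.card_congr (piFinTwoEquiv fun _ : Fin 2 => F), Nat.card_prod]
      refine Nat.le_of_mul_le_mul_left ?_ (Nat.card_pos (α := F))
      calc Nat.card F * (Nat.card F * Nat.card F)
          ≤ Nat.card F * (Nat.card F * Nat.card b.R₀) := by
            gcongr
            exact Nat.card_le_card_of_injective (fun y => (⟨G0 y, hG0R y⟩ : b.R₀))
              fun y y' h => hinj (congrArg (fun z : b.R₀ => (z : V)) h)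
        _ ≤ Nat.card (com V L) := b.card_com_ge hq
        _ ≤ C.index * Nat.card ↥(com V L ⊓ C) := card_le_index_mul_inf _ _
        _ = _ := by rw [hC, hX', H.index_fix_X' b hA hAT hL hq]
    intro y
    obtain ⟨w, hw⟩ := ((Nat.bijective_iff_injective_and_card _).2
      ⟨hinj', le_antisymm (Nat.card_le_card_of_injective _ hinj') hcard⟩).2 y
    exact ⟨w, w.2, hw⟩
  have horbit : ∀ g ∈ L, ∀ w ∈ S, b.ψ (g • w) = ![1, 0] → g • w = b.E hq 1 := by
    intro g hg w hw h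
    have h1 := hrest g hg w hw.1 (by rw [h]; simp)
    rw [h] at h1
    simp only [cons_val_zero] at h1
    have h2 := hkey w hw g hg 1 one_ne_zero _ h1 (by abel)
    exact sub_eq_zero.1 h2
  obtain ⟨w₁, hw₁, hw₁ψ⟩ := hSurj ![0, 1]
  obtain ⟨w₂, hw₂, hw₂ψ⟩ := hSurj ![1, 1]
  have e₁ : w₁ = b.f hq 1 := by
    have h1 := horbit b.w⁻¹ (inv_mem b.w_mem) w₁ hw₁ (by
      rw [Block.w, ← b.el_inv wS, b.psi_el, hw₁ψ]
      ext i; fin_cases i <;> simp [wS_coe, Matrix.mulVec, dotProduct, Fin.sum_univ_two])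
    rw [Block.f, ← h1, smul_inv_smul]
  have e₂ : w₂ = b.a 1 • b.f hq 1 := by
    have h1 := horbit (b.w⁻¹ * b.a (-1)) (mul_mem (inv_mem b.w_mem) (b.le (b.a_mem _))) w₂ hw₂ (by
      rw [mul_smul, Block.w, ← b.el_inv wS, b.psi_el, b.psi_a, hw₂ψ]
      ext i; fin_cases i <;> simp [wS_coe, Matrix.mulVec, dotProduct, Fin.sum_univ_two])
    rw [Block.f, ← h1, mul_smul, smul_inv_smul, ← mul_smul, ← b.a_add, add_neg_cancel, b.a_zero,
      one_smul]
  have hz : b.G hq 1 1 = 0 := by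
    refine hker _ ?_ ((b.ker _).2 (b.G_mem hq 1 1).1)
    rw [Block.G, ← e₂, ← e₁]
    exact S.sub_mem (S.sub_mem hw₂ hw₁) (hES _)
  exact one_ne_zero (hinj (hz.trans (map_zero G0).symm))

/-- The fixed part of the commutator space is fixed by all the conjugates of the opposite group. -/
theorem R₀_fix {t : P} (ht : t ∈ (T : Subgroup P)) {r : V} (hr : r ∈ b.R₀) :
    r ∈ fix V (cj t b.X) := by
  rw [mem_fix_cj]
  refine fix_anti b.X_le ?_
  by_cases htA : cj t⁻¹ A = A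
  · exact (H.R₀_invariant b hA hAT hL hq hv₀ hs₀ (inv_mem ht) htA hr).1
  · have hB : cj t⁻¹ A ∈ mems V p (T : Subgroup P) :=
      ⟨hA.cj _, (cj_mono _ hAT).trans_eq (cj_self (inv_mem ht))⟩
    exact H.com_le_fix_block b hA hB.1 (H.commute_mems ⟨hA, hAT⟩ hB) (Ne.symm htA) hq
      (smul_mem_com_cj (AddSubgroup.mem_inf.1 hr).2)

theorem R₀_fix_closure {r : V} (hr : r ∈ b.R₀) :
    r ∈ fix V (⨆ t ∈ (T : Subgroup P), cj t b.X) := fun g hg =>
  (iSup₂_le fun _ ht x hx => H.R₀_fix b hA hAT hL hq hv₀ hs₀ ht hr x hx :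
    (⨆ t ∈ (T : Subgroup P), cj t b.X) ≤ MulAction.stabilizer P r) hg

theorem normalizes {t : P} (ht : t ∈ (T : Subgroup P)) (htA : cj t A = A) : cj t L = L := by
  haveI hn := H.closure_normal b hA hAT hL
  set N := ⨆ t ∈ (T : Subgroup P), cj t b.X with hN
  set s₀ := b.ψ v₀ 0 with hs₀def
  set X' := cj t b.X with hX'
  have hz₀ := H.z₀_fix b hA hAT hL hq hv₀ hs₀
  have hX'M : ¬ X' ≤ M := fun h => H.X_not_le b hA hAT hL hq fun x hx => by
    have h1 : t * x * t⁻¹ ∈ M := h (conj_mem_cj hx)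
    simpa [mul_assoc] using mul_mem (mul_mem (inv_mem (H.hover.1 ht)) h1) (H.hover.1 ht)
  have hX'N : X' ≤ N := le_iSup₂_of_le t ht le_rfl
  obtain ⟨μ, r', hr', e⟩ : ∃ μ, ∃ r' ∈ b.R₀, t • b.E hq s₀ = b.E hq μ + r' :=
    ⟨_, _, b.com_split hq (show t • b.E hq s₀ ∈ com V A by
      have := smul_mem_com_cj (g := t) (b.E_mem_com hq s₀)
      rwa [htA] at this), (add_sub_cancel _ _).symm⟩
  have hz₀X : v₀ - b.E hq s₀ ∈ fix V X' := by
    have h1 : t • (v₀ - b.E hq s₀) ∈ fix V X' := by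
      rw [mem_fix_cj, inv_smul_smul]; exact fix_anti b.X_le hz₀
    rw [smul_sub, hv₀ t ht, e] at h1
    have h2 := (fix V X').add_mem h1 (fun x hx => H.R₀_fix_closure b hA hAT hL hq hv₀ hs₀ hr' x
      (hX'N hx))
    rw [show v₀ - (b.E hq μ + r') + r' = v₀ - b.E hq μ by abel] at h2
    by_cases hμ : μ = s₀
    · rwa [hμ] at h2
    · exfalso
      obtain ⟨m, hm, em⟩ := H.orbit_E b hA hAT hL hq hv₀ hs₀ (sub_ne_zero.2 (Ne.symm hμ))
      rw [← b.EHom_apply hq, map_sub, b.EHom_apply hq, b.EHom_apply hq,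
        show b.E hq (b.ψ v₀ 0) - b.E hq μ + (v₀ - b.E hq (b.ψ v₀ 0)) = v₀ - b.E hq μ by abel] at em
      exact hX'M fun d hd => H.stab_le b hA hAT hL hq hv₀ hs₀ hm (em ▸ h2 d hd)
  obtain ⟨w, hw, hwψ⟩ : ∃ w ∈ com V L ⊓ fix V X', b.ψ w ≠ 0 := by
    by_contra hcon
    push Not at hcon
    have h1 : Nat.card ↥(com V L ⊓ fix V X') ≤ Nat.card b.R₀ :=
      Nat.card_le_card_of_injective (fun w : ↥(com V L ⊓ fix V X') => (⟨(w : V), by
        simpa [hcon _ w.2, b.E_zero hq, b.f_zero hq] using b.com_L_split hq w.2.1⟩ : b.R₀))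
        fun w w' h => Subtype.ext (congrArg (fun z : b.R₀ => (z : V)) h :)
    have h2 := (b.card_com_ge hq).trans
      ((card_le_index_mul_inf _ _).trans (Nat.mul_le_mul_left _ h1))
    rw [hX', H.index_fix_X' b hA hAT hL hq] at h2
    have h3 := Nat.le_of_mul_le_mul_left h2 Nat.card_pos
    have h4 : 0 < Nat.card b.R₀ := Nat.card_pos
    nlinarith
  obtain ⟨m, hm⟩ := exists_to_axis hwψ
  set g := b.el m
  have hg : g ∈ L := b.el_mem m
  have hgψ : b.ψ (g • w) = ![1, 0] := by rw [b.psi_el, hm]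
  set r := g • w - b.E hq 1 with hrdef
  have hr : r ∈ b.R₀ := by
    have := b.com_L_split hq (smul_mem_com_self hg hw.1)
    rw [hgψ] at this
    simpa [hrdef, b.f_zero hq] using this
  set B := cj g X'
  have hB : Mem V p B := ((hA.cj b.w).cj t).cj g
  have hBN : B ≤ N := by
    rintro - ⟨d, hd, rfl⟩
    exact hn.conj_mem d (hX'N hd) g
  have hfz : v₀ - b.E hq s₀ ∈ fix V B := by
    rw [mem_fix_cj, hz₀ _ (inv_mem hg)]; exact hz₀X
  have hfgw : g • w ∈ fix V B := by rw [mem_fix_cj, inv_smul_smul]; exact hw.2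
  obtain ⟨mE, hmE, emE⟩ := H.orbit_E b hA hAT hL hq hv₀ hs₀ (one_ne_zero (α := F))
  have hfr : ∀ r'' ∈ b.R₀, r'' ∈ fix V B := fun r'' hr'' d hd =>
    H.R₀_fix_closure b hA hAT hL hq hv₀ hs₀ hr'' d (hBN hd)
  have hfo : mE • v₀ ∈ fix V B := by
    rw [← emE, show b.E hq 1 = g • w - r by rw [hrdef]; abel]
    exact (fix V B).add_mem ((fix V B).sub_mem hfgw (hfr r hr)) hfz
  have hBM : B ≤ M := fun d hd => H.stab_le b hA hAT hL hq hv₀ hs₀ hmE (hfo d hd)
  have hBA : B = A := H.eq_of_fixes_com b hA hAT hL hq ht htA hg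
    (b.com_le_of hq _ (H.member_fix_E b hA hAT hL hq hv₀ hs₀ hB hBM) fun α y =>
      hfr _ (b.G_mem hq α y))
  refine cj_eq_of_le ?_
  rw [← b.gen, cj_sup, htA]
  refine sup_le le_sup_left ?_
  rw [b.gen]
  intro d hd
  have h1 := b.le (hBA ▸ conj_mem_cj (g := g) hd : g * d * g⁻¹ ∈ A)
  simpa [mul_assoc] using mul_mem (mul_mem (inv_mem hg) h1) hg

/-- The blocks of the linear case. -/
theorem linear_blocks :
    Blocks V p T {E | ∃ t ∈ (T : Subgroup P), E = cj t L} := by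
  have hLX : ∀ t ∈ (T : Subgroup P), cj t b.X ≤ cj t L := fun t _ => cj_mono t b.X_le
  have hcl : (⨆ t ∈ (T : Subgroup P), cj t b.X) = sSup {E | ∃ t ∈ (T : Subgroup P), E = cj t L} := by
    refine le_antisymm (iSup₂_le fun t ht => (hLX t ht).trans (le_sSup ⟨t, ht, rfl⟩))
      (sSup_le ?_)
    rintro - ⟨t, ht, rfl⟩
    refine (cj_mono t b.gen.ge).trans ?_
    rw [cj_sup]
    exact sup_le (H.mem_le_closure b hA hAT hL hq (hA.cj t)) (le_iSup₂_of_le t ht le_rfl)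
  haveI hn := H.closure_normal b hA hAT hL
  have hmem : ∀ t ∈ (T : Subgroup P), cj t A ∈ mems V p (T : Subgroup P) := fun t ht =>
    ⟨hA.cj t, (cj_mono t hAT).trans_eq (cj_self ht)⟩
  have hbase : ∀ t ∈ (T : Subgroup P), L ≠ cj t L →
      (∀ x ∈ L, ∀ y ∈ cj t L, x * y = y * x) ∧ com V (cj t L) ≤ fix V L := by
    intro t ht hne
    have hAne : A ≠ cj t A := fun e => hne (H.normalizes b hA hAT hL hq hv₀ hs₀ ht e.symm).symm
    have h1 := H.centralizes b hA hAT hL hq (hA.cj t) (H.commute_mems ⟨hA, hAT⟩ (hmem t ht)) hAne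
    have hc' : ∀ x ∈ cj t A, ∀ y ∈ A, x * y = y * x := H.commute_mems (hmem t ht) ⟨hA, hAT⟩
    have h2 := H.block_centralizes (b.cj t) (hA.cj t) hA hc' hAne.symm hq
    have hXm : Mem V p (cj t b.X) := (hA.cj b.w).cj t
    have hcX : ∀ a ∈ A, ∀ d ∈ cj t b.X, a * d = d * a := fun a ha d hd =>
      (h2 d (cj_mono t b.X_le hd) a ha).symm
    have hXne : A ≠ cj t b.X := by
      intro e
      refine b.not_commute_X fun a ha y hy => ?_
      exact commute_of_conj
        (hc' _ (conj_mem_cj (g := t) ha) _ (e ▸ conj_mem_cj (g := t) hy : t * y * t⁻¹ ∈ A))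
    have h3 := H.centralizes b hA hAT hL hq hXm hcX hXne
    refine ⟨fun x hx y hy => ?_, ?_⟩
    · have hle : cj t L ≤ Subgroup.centralizer (L : Set P) := by
        rw [← b.gen, cj_sup]
        refine sup_le (fun y hy => mem_centralizer_iff.2 fun x hx => h1 x ?_ y hy)
          (fun y hy => mem_centralizer_iff.2 fun x hx => h3 x ?_ y hy) <;>
        simpa [b.gen] using hx
      exact mem_centralizer_iff.1 (hle hy) x hx
    · rw [← b.gen, cj_sup, com_sup, b.gen]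
      exact sup_le
        (H.com_le_fix_block b hA (hA.cj t) (H.commute_mems ⟨hA, hAT⟩ (hmem t ht)) hAne hq)
        (H.com_le_fix_block b hA hXm hcX hXne hq)
  have hsl : ∀ E ∈ {E | ∃ t ∈ (T : Subgroup P), E = cj t L}, SLBlock V p E := by
    rintro - ⟨t, -, rfl⟩
    haveI := Fintype.ofFinite F
    obtain ⟨n, hn'⟩ := IsPGroup.iff_card.1 hA.elem.isPGroup
    rw [b.card_A] at hn'
    refine ⟨F, inferInstance, inferInstance, n, ?_, by rw [← Nat.card_eq_fintype_card, hn'],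
      (b.cj t).ρ, (b.cj t).ψ, fun y => ?_, (b.cj t).ker, (b.cj t).equi⟩
    · rcases n with _ | n
      · rw [hn'] at hq; simp at hq
      · omega
    · refine ⟨(b.cj t).E hq (y 0) + (b.cj t).f hq (y 1),
        add_mem (com_mono (b.cj t).le ((b.cj t).E_mem_com hq _)) ((b.cj t).f_mem_com hq _), ?_⟩
      rw [map_add, (b.cj t).psi_E hq, (b.cj t).psi_f hq]
      ext i; fin_cases i <;> simp
  refine ⟨⟨L, 1, one_mem _, (cj_one L).symm⟩, ?_, hcl ▸ hn,
    fun E ⟨t, ht, e⟩ s hs => ⟨s * t, mul_mem hs ht, by rw [e, cj_mul]⟩, ?_, ?_, ?_,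
    fun E hE => Or.inl (hsl E hE),
    fun B hB => hcl ▸ H.mem_le_closure b hA hAT hL hq hB, Or.inl hsl⟩
  · obtain ⟨x, hx, hxM⟩ := H.exists_x b hA hAT hL hq
    exact H.top_of_not_mem le_sup_right
      (mem_sup_left (le_sSup (s := {E | ∃ t ∈ (T : Subgroup P), E = cj t L})
        ⟨1, one_mem _, (cj_one L).symm⟩ (b.X_le hx))) hxM
  · rintro - ⟨t, ht, rfl⟩ - ⟨u, hu, rfl⟩
    exact ⟨u * t⁻¹, mul_mem hu (inv_mem ht), by rw [← cj_mul, inv_mul_cancel_right]⟩
  · rintro - ⟨t, ht, rfl⟩ - ⟨u, hu, rfl⟩ hne x hx y hy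
    have h := (hbase (t⁻¹ * u) (mul_mem (inv_mem ht) hu) fun e => hne (by
      conv_lhs => rw [e]
      rw [← cj_mul, mul_inv_cancel_left])).1 _ (mem_cj.1 hx) (t⁻¹ * y * t) (by
        rw [mem_cj] at hy ⊢
        simpa [mul_assoc] using hy)
    calc x * y = t * (t⁻¹ * x * t * (t⁻¹ * y * t)) * t⁻¹ := by group
      _ = t * (t⁻¹ * y * t * (t⁻¹ * x * t)) * t⁻¹ := by rw [h]
      _ = y * x := by group
  · rintro - ⟨t, ht, rfl⟩ - ⟨u, hu, rfl⟩ hne
    have h := com_cj_le (hbase (u⁻¹ * t) (mul_mem (inv_mem hu) ht) fun e => hne (by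
      conv_rhs => rw [e]
      rw [← cj_mul, mul_inv_cancel_left])).2 u
    rwa [← cj_mul, mul_inv_cancel_left] at h

end Orbit

end Hyp

end CfsgLib.PMinFF
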