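import Cfsg.Agent.PMinFF.Tv

/-!
The transvection case: classes of non-commuting outside transvections and symmetric groups.
-/

set_option autoImplicit false
set_option linter.style.haveILetI false
set_option linter.unusedSectionVars false

namespace CfsgLib.PMinFF

open Subgroup CfsgLib.OffGen

variable {P : Type*} [Group P] [Finite P]
variable {V : Type*} [AddCommGroup V] [Finite V] [DistribMulAction P V] [Module (ZMod 2) V]

variable (V) in
/-- The outside transvections equal to `x` or not commuting with it. -/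
def cls (M : Subgroup P) (x : P) : Set P :=
  {y | IsTv V y ∧ y ∉ M ∧ (y = x ∨ ¬ Commute x y)}

theorem conj_mul_conj (t x y : P) : t * x * t⁻¹ * (t * y * t⁻¹) = t * (x * y) * t⁻¹ := by group

theorem commute_conj_iff (t x y : P) : Commute (t * x * t⁻¹) (t * y * t⁻¹) ↔ Commute x y := by
  rw [commute_iff_eq, commute_iff_eq, conj_mul_conj, conj_mul_conj]
  exact ⟨fun h => mul_left_cancel (mul_right_cancel h), fun h => by rw [h]⟩

variable {T : Sylow 2 P} {M : Subgroup P} (H : Hyp V 2 T M)
variable (hsmall : ∀ A : Subgroup P, Mem V 2 A → Nat.card A ≤ 2)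

include H hsmall

theorem cls_self {x : P} (hx : IsTv V x) (hxM : x ∉ M) : x ∈ cls V M x := ⟨hx, hxM, Or.inl rfl⟩

theorem cls_noncommute {x y z : P} (hx : IsTv V x) (hxM : x ∉ M) (hy : y ∈ cls V M x)
    (hz : z ∈ cls V M x) (hne : y ≠ z) : ¬ Commute y z := by
  obtain ⟨hyT, hyM, hy⟩ := hy
  obtain ⟨hzT, hzM, hz⟩ := hz
  rcases hy with rfl | hy
  · exact hz.resolve_left (Ne.symm hne)
  rcases hz with rfl | hz
  · exact fun h => hy h.symm
  exact noncommute_trans H hsmall hyT hx hzT hyM hxM hzM (fun h => hy h.symm) hz hne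

theorem cls_commute {x y z : P} (hx : IsTv V x) (hxM : x ∉ M) (hy : y ∈ cls V M x)
    (hz : IsTv V z) (hzM : z ∉ M) (hnz : z ∉ cls V M x) : Commute y z := by
  by_contra hc
  refine hnz ⟨hz, hzM, ?_⟩
  obtain ⟨hyT, hyM, hy⟩ := hy
  rcases hy with rfl | hy
  · exact Or.inr hc
  by_cases h : z = x
  · exact Or.inl h
  · exact Or.inr (noncommute_trans H hsmall hx hyT hz hxM hyM hzM hy hc (Ne.symm h))

theorem cls_eq {x y : P} (hx : IsTv V x) (hxM : x ∉ M) (hy : y ∈ cls V M x) :
    cls V M y = cls V M x := by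
  obtain ⟨hyT, hyM, hy'⟩ := id hy
  ext z
  constructor
  · intro hz
    by_contra h
    have hc := cls_commute H hsmall hx hxM hy hz.1 hz.2.1 h
    rcases hz.2.2 with rfl | hz'
    · exact h hy
    · exact hz' hc
  · intro hz
    refine ⟨hz.1, hz.2.1, ?_⟩
    by_cases h : z = y
    · exact Or.inl h
    · exact Or.inr (cls_noncommute H hsmall hx hxM hy hz (Ne.symm h))

theorem cls_conj {x : P} {t : P} (ht : t ∈ M) :
    cls V M (t * x * t⁻¹) = (fun y => t * y * t⁻¹) '' cls V M x := by
  ext z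
  constructor
  · rintro ⟨hz, hzM, h⟩
    refine ⟨t⁻¹ * z * t, ⟨?_, fun hm => hzM ?_, ?_⟩, by group⟩
    · simpa using hz.conj t⁻¹
    · simpa [mul_assoc] using M.mul_mem (M.mul_mem ht hm) (M.inv_mem ht)
    · refine h.imp (fun e => by rw [e]; group) fun hc hc' => hc ?_
      have := (commute_conj_iff t x _).2 hc'
      simpa [mul_assoc] using this
  · rintro ⟨y, ⟨hy, hyM, h⟩, rfl⟩
    refine ⟨hy.conj t, fun hm => hyM ?_, h.imp (fun e => by rw [e]) fun hc hc' =>
      hc ((commute_conj_iff t x y).1 hc')⟩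
    simpa [mul_assoc] using M.mul_mem (M.mul_mem (M.inv_mem ht) hm) ht

theorem com_closure_le {s : Set P} {K : AddSubgroup V}
    (h : ∀ y ∈ s, IsTv V y ∧ cen V y ∈ K) : com V (Subgroup.closure s) ≤ K := by
  refine com_le.2 fun g hg => ?_
  induction hg using Subgroup.closure_induction with
  | mem y hy =>
    intro v
    rw [tv_apply H (h y hy).1, add_sub_cancel_left]
    rcases zmod_two_cases (fv V y v) with e | e <;> rw [e]
    · rw [zero_smul]; exact K.zero_mem
    · rw [one_smul]; exact (h y hy).2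
  | one => intro v; simp
  | mul y z _ _ hy hz =>
    intro v
    have := K.add_mem (hy (z • v)) (hz v)
    rwa [sub_add_sub_cancel, ← mul_smul] at this
  | inv y _ hy =>
    intro v
    have := K.neg_mem (hy (y⁻¹ • v))
    rwa [smul_inv_smul, neg_sub] at this

theorem cen_mem_com {y : P} (hy : IsTv V y) {E : Subgroup P} (hyE : y ∈ E) :
    cen V y ∈ com V E := by
  obtain ⟨v, hv⟩ := exists_fv_one H hy
  rw [cen_eq H hy hv]
  exact mem_com hyE v

/-- An outside transvection class is one orbit of the Sylow subgroup. -/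
theorem cls_subset_orbit {x : P} (hx : IsTv V x) (hxM : x ∉ M) {y : P} (hy : y ∈ cls V M x) :
    ∃ t ∈ (T : Subgroup P), y = t * x * t⁻¹ := by
  classical
  by_contra hcon
  push Not at hcon
  have hyx : x ≠ y := fun e => hcon 1 (one_mem _) (by rw [← e]; group)
  have hnc : ¬ Commute x y := cls_noncommute H hsmall hx hxM (cls_self H hsmall hx hxM) hy hyx
  have hbr := braid H hx hy.1 hnc
  obtain ⟨v, hv, hg⟩ := exists_moved H
  set N := ⨆ t ∈ (T : Subgroup P), cj t (Subgroup.zpowers x) with hN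
  have hxN : x ∈ N := (le_iSup₂_of_le 1 (one_mem _) (cj_one _).ge : Subgroup.zpowers x ≤ N)
    (Subgroup.mem_zpowers x)
  haveI hn : N.Normal := normalizer_eq_top_iff.1
    (H.top_of_not_mem (normalizer_iSup_cj _ _) (le_normalizer hxN) hxM)
  have hyN : y ∈ N := by
    have h1 : y = x * y * x * (x * y)⁻¹ := by
      rw [hx.inv_eq, hy.1.inv_eq] at hbr
      rw [mul_inv_rev, hx.inv_eq, hy.1.inv_eq]
      calc y = y * x * y * (y * x) := by
            simp only [mul_assoc]
            rw [← mul_assoc y y, hy.1.mul_self, one_mul, hx.mul_self, mul_one]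
        _ = x * y * x * (y * x) := by rw [← hbr]
    rw [h1]
    exact hn.conj_mem x hxN (x * y)
  -- the affine subspace fixed by every generator
  set W := AddSubgroup.closure {u | ∃ z, IsTv V z ∧ z ∉ M ∧ z ∉ cls V M x ∧ u = cen V z} with hW
  set u₀ := v + cen V y with hu₀
  have hfW : ∀ j ∈ cls V M x, ∀ u ∈ W, fv V j u = 0 := by
    intro j hj u hu
    induction hu using AddSubgroup.closure_induction with
    | mem u hu =>
      obtain ⟨z, hz, hzM, hzc, rfl⟩ := hu
      exact fv_of_commute H hz hj.1 (cls_commute H hsmall hx hxM hj hz hzM hzc).symm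
    | zero => exact fv_zero H
    | add u u' _ _ h h' => rw [fv_add H hj.1, h, h', add_zero]
    | neg u _ h => rw [fv_eq_zero] at h ⊢; rw [smul_neg, h]
  let S : Subgroup P :=
    { carrier := {g | (∀ w ∈ W, g • w ∈ W) ∧ (∀ w ∈ W, g⁻¹ • w ∈ W) ∧ g • u₀ - u₀ ∈ W ∧
        g⁻¹ • u₀ - u₀ ∈ W}
      one_mem' := by
        refine ⟨fun w hw => ?_, fun w hw => ?_, ?_, ?_⟩ <;> simp
        all_goals assumption
      mul_mem' := fun {g h} hg hh => by
        refine ⟨fun w hw => by rw [mul_smul]; exact hg.1 _ (hh.1 w hw),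
          fun w hw => by rw [mul_inv_rev, mul_smul]; exact hh.2.1 _ (hg.2.1 w hw), ?_, ?_⟩
        · have := W.add_mem (hg.1 _ hh.2.2.1) hg.2.2.1
          rwa [smul_sub, ← mul_smul, sub_add_sub_cancel] at this
        · have := W.add_mem (hh.2.1 _ hg.2.2.2) hh.2.2.2
          rwa [smul_sub, ← mul_smul, sub_add_sub_cancel, ← mul_inv_rev] at this
      inv_mem' := fun {g} hg => ⟨hg.2.1, by rw [inv_inv]; exact hg.1, hg.2.2.2,
        by rw [inv_inv]; exact hg.2.2.1⟩ }
  have hgen : ∀ j, IsTv V j → j ∉ M → j ≠ y → j ∈ S := by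
    intro j hj hjM hjy
    have key : (∀ w ∈ W, j • w ∈ W) ∧ j • u₀ - u₀ ∈ W := by
      by_cases hjc : j ∈ cls V M x
      · have h0 : fv V j u₀ = 0 := by
          rw [hu₀, fv_add H hj, fv_outside H hsmall hv hg hjM, fv_noncommute H hy.1 hj
            (cls_noncommute H hsmall hx hxM hy hjc (Ne.symm hjy))]
          decide
        exact ⟨fun w hw => by rwa [fv_eq_zero.1 (hfW j hjc w hw)],
          by rw [fv_eq_zero.1 h0, sub_self]; exact zero_mem W⟩
      · have hcW : cen V j ∈ W := AddSubgroup.subset_closure ⟨j, hj, hjM, hjc, rfl⟩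
        have hval : ∀ u : V, j • u - u ∈ W := fun u => by
          rw [tv_apply H hj, add_sub_cancel_left]
          rcases zmod_two_cases (fv V j u) with e | e <;> rw [e]
          · rw [zero_smul]; exact zero_mem W
          · rwa [one_smul]
        exact ⟨fun w hw => by simpa using add_mem (hval w) hw, hval u₀⟩
    show _ ∧ _ ∧ _ ∧ _
    rw [hj.inv_eq]
    exact ⟨key.1, key.1, key.2, key.2⟩
  have hNS : N ≤ S := iSup₂_le fun t ht => by
    rw [cj, MonoidHom.map_zpowers, Subgroup.zpowers_le]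
    refine hgen _ (hx.conj t) (fun h => hxM ?_) (fun e => hcon t ht e.symm)
    simpa [mul_assoc] using
      M.mul_mem (M.mul_mem (M.inv_mem (H.hover.1 ht)) h) (H.hover.1 ht)
  have h1 := (hNS hyN).2.2.1
  rw [tv_apply H hy.1, add_sub_cancel_left, hu₀, fv_add H hy.1, fv_cen H hy.1, add_zero,
    fv_outside H hsmall hv hg hy.2.1, one_smul] at h1
  have h2 := hfW x (cls_self H hsmall hx hxM) _ h1
  rw [fv_noncommute H hy.1 hx fun h => hnc h.symm] at h2
  exact one_ne_zero h2

theorem card_cls {x : P} (hx : IsTv V x) (hxM : x ∉ M) :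
    ∃ n, 1 ≤ n ∧ Nat.card (cls V M x) = 2 ^ n := by
  classical
  let S : Subgroup P :=
    { carrier := {t | t ∈ (T : Subgroup P) ∧ cls V M (t * x * t⁻¹) = cls V M x}
      one_mem' := ⟨one_mem _, by simp⟩
      mul_mem' := fun {s t} hs ht => ⟨mul_mem hs.1 ht.1, by
        rw [show s * t * x * (s * t)⁻¹ = s * (t * x * t⁻¹) * s⁻¹ by group,
          cls_conj H hsmall (H.hover.1 hs.1), ht.2, ← cls_conj H hsmall (H.hover.1 hs.1), hs.2]⟩
      inv_mem' := fun {s} hs => ⟨inv_mem hs.1, by
        rw [cls_conj H hsmall (H.hover.1 (inv_mem hs.1))]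
        conv_lhs => rw [← hs.2, cls_conj H hsmall (H.hover.1 hs.1), Set.image_image]
        simp [mul_assoc]⟩ }
  letI : MulAction S P :=
    MulAction.compHom P ((MulAut.conj : P →* MulAut P).comp S.subtype)
  have horb : MulAction.orbit S x = cls V M x := by
    ext y
    constructor
    · rintro ⟨s, rfl⟩
      show (s : P) * x * (s : P)⁻¹ ∈ _
      have hsM : (s : P) * x * (s : P)⁻¹ ∉ M := fun h => hxM (by
        simpa [mul_assoc] using
          M.mul_mem (M.mul_mem (M.inv_mem (H.hover.1 s.2.1)) h) (H.hover.1 s.2.1))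
      rw [← s.2.2]
      exact cls_self H hsmall (hx.conj _) hsM
    · intro hy
      obtain ⟨t, ht, rfl⟩ := cls_subset_orbit H hsmall hx hxM hy
      exact ⟨⟨t, ht, cls_eq H hsmall hx hxM hy⟩, rfl⟩
  have hSp : IsPGroup 2 S := T.2.to_le fun s hs => hs.1
  obtain ⟨n, hn⟩ := hSp.card_orbit x
  rw [horb] at hn
  refine ⟨n, ?_, hn⟩
  by_contra hcon
  obtain rfl : n = 0 := by omega
  rw [pow_zero, Nat.card_eq_one_iff_unique] at hn
  have hsingle : ∀ y, IsTv V y → y ∉ M → Commute x y := by
    intro y hy hyM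
    by_contra hc
    have e : (⟨x, cls_self H hsmall hx hxM⟩ : cls V M x) = ⟨y, hy, hyM, Or.inr hc⟩ := hn.1.elim _ _
    have e' : x = y := congrArg Subtype.val e
    exact hc (e' ▸ Commute.refl x)
  set N := ⨆ t ∈ (T : Subgroup P), cj t (Subgroup.zpowers x) with hN
  have hxN : x ∈ N := (le_iSup₂_of_le 1 (one_mem _) (cj_one _).ge : Subgroup.zpowers x ≤ N)
    (Subgroup.mem_zpowers x)
  haveI hn' : N.Normal := normalizer_eq_top_iff.1
    (H.top_of_not_mem (normalizer_iSup_cj _ _) (le_normalizer hxN) hxM)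
  set s := {y | ∃ t ∈ (T : Subgroup P), y = t * x * t⁻¹} with hs
  have hNs : N ≤ Subgroup.closure s := iSup₂_le fun t ht => by
    rw [cj, MonoidHom.map_zpowers, Subgroup.zpowers_le]
    exact Subgroup.subset_closure ⟨t, ht, rfl⟩
  have houtS : ∀ t ∈ (T : Subgroup P), t * x * t⁻¹ ∉ M := fun t ht h => hxM (by
    simpa [mul_assoc] using
      M.mul_mem (M.mul_mem (M.inv_mem (H.hover.1 ht)) h) (H.hover.1 ht))
  have hcomm : ∀ a ∈ s, ∀ b ∈ s, a * b = b * a := by
    rintro - ⟨t, ht, rfl⟩ - ⟨u, hu, rfl⟩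
    have h1 := (commute_conj_iff t x (t⁻¹ * u * x * (t⁻¹ * u)⁻¹)).2
      (hsingle _ (hx.conj _) (houtS _ (mul_mem (inv_mem ht) hu)))
    rw [show t * (t⁻¹ * u * x * (t⁻¹ * u)⁻¹) * t⁻¹ = u * x * u⁻¹ by group] at h1
    exact h1.eq
  have hel : Elem 2 (Subgroup.closure s) := by
    have hc : Subgroup.closure s ≤ Subgroup.centralizer s := (Subgroup.closure_le _).2
      fun a ha => Subgroup.mem_centralizer_iff.2 fun b hb => hcomm b hb a ha
    have hc2 : Subgroup.closure s ≤ Subgroup.centralizer (Subgroup.closure s : Set P) :=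
      (Subgroup.closure_le _).2 fun a ha => Subgroup.mem_centralizer_iff.2 fun b hb =>
        (Subgroup.mem_centralizer_iff.1 (hc hb) a ha).symm
    refine ⟨fun a ha b hb => (Subgroup.mem_centralizer_iff.1 (hc2 hb) a ha), fun a ha => ?_⟩
    induction ha using Subgroup.closure_induction with
    | mem a ha => obtain ⟨t, -, rfl⟩ := ha; rw [pow_two, (hx.conj t).mul_self]
    | one => rw [one_pow]
    | mul a b ha hb iha ihb =>
      rw [(show Commute a b from Subgroup.mem_centralizer_iff.1 (hc2 hb) a ha).mul_pow, iha, ihb,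
        one_mul]
    | inv a _ iha => rw [inv_pow, iha, inv_one]
  exact hx.ne_one (mem_bot.1 ((H.normal_bot hn' (hel.isPGroup.to_le hNs)) ▸ hxN))

/-- The group generated by a class is a symmetric block. -/
theorem cls_block {x : P} (hx : IsTv V x) (hxM : x ∉ M) :
    PermBlock V 2 (Subgroup.closure (cls V M x)) ∧
      Inner V (T : Subgroup P) (Subgroup.closure (cls V M x)) ∧
      com V (Subgroup.closure (cls V M x)) ⊓ fix V (Subgroup.closure (cls V M x)) = ⊥ := by
  classical
  obtain ⟨n, hn1, hn⟩ := card_cls H hsmall hx hxM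
  let ι := cls V M x
  haveI : Fintype ι := Fintype.ofFinite ι
  have hcard : Fintype.card ι = 2 ^ n := by rw [← Nat.card_eq_fintype_card]; exact hn
  have hcast : ((Fintype.card ι : ℕ) : ZMod 2) = 0 := by
    rw [hcard, Nat.cast_pow, show ((2 : ℕ) : ZMod 2) = 0 from rfl, zero_pow (by omega)]
  set E := Subgroup.closure (cls V M x) with hE
  let c : ι → V →+ ZMod 2 := fun j => AddMonoidHom.mk' (fv V (j : P)) (fv_add H j.2.1)
  have hc : ∀ (j : ι) (v : V), c j v = fv V (j : P) v := fun _ _ => rfl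
  let S : V →+ ZMod 2 := ∑ j, c j
  have hS : ∀ v, S v = ∑ j, c j v := fun v => AddMonoidHom.finsetSum_apply _ _ _
  let ψ : V →+ (Option ι → ZMod 2) :=
    AddMonoidHom.mk' (fun v o => S v + o.elim 0 (fun j => c j v)) fun u v => by
      funext o
      cases o with
      | none => simp
      | some j => simp only [Option.elim_some, map_add, Pi.add_apply]; abel
  have hψn : ∀ v, ψ v none = S v := fun v => add_zero _
  have hψs : ∀ v j, ψ v (some j) = S v + c j v := fun _ _ => rfl
  have hfe : ∀ i j : ι, fv V (i : P) (cen V (j : P)) = if i = j then 0 else 1 := by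
    intro i j
    split
    · subst i; exact fv_cen H j.2.1
    · rename_i h
      exact fv_noncommute H j.2.1 i.2.1
        (cls_noncommute H hsmall hx hxM j.2 i.2 fun e => h (Subtype.ext e.symm))
  have hsum1 : ∀ (a : ZMod 2) (j : ι), ∑ i, (if i = j then 0 else a) = a := by
    intro a j
    rw [← Finset.add_sum_erase _ _ (Finset.mem_univ j), if_pos rfl, zero_add,
      Finset.sum_congr rfl (fun i hi => if_neg (Finset.ne_of_mem_erase hi)), Finset.sum_const,
      Finset.card_erase_of_mem (Finset.mem_univ j), Finset.card_univ, nsmul_eq_mul]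
    have h1 : ((Fintype.card ι - 1 : ℕ) : ZMod 2) = 1 := by
      have h2 : ((Fintype.card ι - 1 + 1 : ℕ) : ZMod 2) = 0 := by
        rw [Nat.sub_add_cancel (hcard ▸ Nat.one_le_two_pow)]; exact hcast
      rw [Nat.cast_add, Nat.cast_one] at h2
      revert h2; generalize ((Fintype.card ι - 1 : ℕ) : ZMod 2) = z; revert z; decide
    rw [h1, one_mul]
  have hzero : ∀ v, ∑ o, ψ v o = 0 := by
    intro v
    rw [Fintype.sum_option, hψn]
    simp only [hψs, Finset.sum_add_distrib, Finset.sum_const, Finset.card_univ, nsmul_eq_mul,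
      hcast, zero_mul, zero_add, ← hS, zmod_two_self]
  let Φ : (ι → ZMod 2) →+ V := AddMonoidHom.mk' (fun w => ∑ j, w j • cen V (j : P)) fun w w' => by
    simp [add_smul, Finset.sum_add_distrib]
  have hΦ : ∀ w, Φ w = ∑ j, w j • cen V (j : P) := fun _ => rfl
  have hcΦ : ∀ w i, c i (Φ w) = (∑ j, w j) + w i := by
    intro w i
    rw [hΦ, map_sum]
    simp only [hc, fv_smul H, hfe, mul_ite, mul_zero, mul_one]
    rw [← Finset.add_sum_erase _ _ (Finset.mem_univ i), if_pos rfl, zero_add,
      Finset.sum_congr rfl (fun j hj => if_neg fun e => Finset.ne_of_mem_erase hj e.symm),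
      ← Finset.add_sum_erase (Finset.univ : Finset ι) (fun j => w j) (Finset.mem_univ i),
      add_right_comm, zmod_two_self, zero_add]
  have hSΦ : ∀ w, S (Φ w) = ∑ j, w j := fun w => by
    simp only [hS, hcΦ, Finset.sum_add_distrib, Finset.sum_const, Finset.card_univ, nsmul_eq_mul,
      hcast, zero_mul, zero_add]
  have hψΦn : ∀ w, ψ (Φ w) none = ∑ j, w j := fun w => by rw [hψn, hSΦ]
  have hψΦs : ∀ w i, ψ (Φ w) (some i) = w i := fun w i => by
    rw [hψs, hSΦ, hcΦ, ← add_assoc, zmod_two_self, zero_add]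
  have hΦcom : ∀ w, Φ w ∈ com V E := fun w => by
    rw [hΦ]
    refine AddSubgroup.sum_mem _ fun j _ => ?_
    rcases zmod_two_cases (w j) with e | e <;> rw [e]
    · rw [zero_smul]; exact zero_mem _
    · rw [one_smul]; exact cen_mem_com H hsmall j.2.1 (Subgroup.subset_closure j.2)
  have hcomΦ : com V E ≤ Φ.range := com_closure_le H hsmall fun y hy =>
    ⟨hy.1, Pi.single ⟨y, hy⟩ 1, by
      rw [hΦ, Finset.sum_eq_single (⟨y, hy⟩ : ι) (fun j _ hj => by simp [hj]) (by simp)]
      simp⟩
  have hker : ∀ v, ψ v = 0 ↔ v ∈ fix V E := by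
    intro v
    constructor
    · intro h
      have h0 : S v = 0 := (hψn v) ▸ congrFun h none
      have hle : E ≤ MulAction.stabilizer P v := (Subgroup.closure_le _).2 fun y hy => by
        have := congrFun h (some ⟨y, hy⟩)
        rw [hψs, h0, zero_add] at this
        exact fv_eq_zero.1 this
      exact fun g hg => hle hg
    · intro h
      have h0 : ∀ j : ι, c j v = 0 := fun j =>
        fv_eq_zero.2 (h _ (Subgroup.subset_closure j.2))
      funext o
      cases o with
      | none => simp [hψn, hS, h0]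
      | some j => simp [hψs, hS, h0]
  let Rel : P → Equiv.Perm (Option ι) → Prop := fun g σ => ∀ v o, ψ (g • v) o = ψ v (σ⁻¹ o)
  have hswap : ∀ j : ι, Rel (j : P) (Equiv.swap none (some j)) := by
    intro j v o
    have hi : ∀ i : ι, c i ((j : P) • v) = c i v + if i = j then 0 else c j v := fun i => by
      rw [tv_apply H j.2.1, map_add, hc i (fv V (j : P) v • cen V (j : P)), fv_smul H, hfe, mul_ite,
        mul_zero, mul_one]
      rfl
    have hS' : S ((j : P) • v) = S v + c j v := by
      simp only [hS, hi, Finset.sum_add_distrib, hsum1]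
    rw [Equiv.swap_inv]
    rcases o with _ | i
    · rw [hψn, Equiv.swap_apply_left, hψs, hS']
    · by_cases h : i = j
      · subst h
        rw [hψs, Equiv.swap_apply_right, hψn, hS', hi, if_pos rfl, add_zero, add_assoc,
          zmod_two_self, add_zero]
      · rw [hψs, Equiv.swap_apply_of_ne_of_ne (by simp) (by simpa using h), hψs, hS', hi, if_neg h,
          add_add_add_comm, zmod_two_self, add_zero]
  have hmul : ∀ g h σ τ, Rel g σ → Rel h τ → Rel (g * h) (σ * τ) := fun g h σ τ hg hh v o => by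
    rw [mul_smul, hg, hh, mul_inv_rev]; rfl
  have hinv : ∀ g σ, Rel g σ → Rel g⁻¹ σ⁻¹ := fun g σ hg v o => by
    have := hg (g⁻¹ • v) (σ o)
    simpa [smul_inv_smul] using this.symm
  have hex : ∀ g ∈ E, ∃ σ, Rel g σ := by
    intro g hg
    induction hg using Subgroup.closure_induction with
    | mem y hy => exact ⟨_, hswap ⟨y, hy⟩⟩
    | one => exact ⟨1, fun v o => by simp⟩
    | mul y z _ _ hy hz =>
      obtain ⟨σ, hσ⟩ := hy; obtain ⟨τ, hτ⟩ := hz; exact ⟨_, hmul y z σ τ hσ hτ⟩
    | inv y _ hy => obtain ⟨σ, hσ⟩ := hy; exact ⟨_, hinv y σ hσ⟩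
  have hlift : ∀ y : Option ι → ZMod 2, ∑ o, y o = 0 → ψ (Φ fun j => y (some j)) = y := by
    intro y hy
    funext o
    rcases o with _ | i
    · rw [hψΦn]
      rw [Fintype.sum_option] at hy
      revert hy
      generalize y none = a
      generalize ∑ j, y (some j) = d
      revert a d; decide
    · rw [hψΦs]
  have huniq : ∀ g σ τ, Rel g σ → Rel g τ → σ = τ := by
    intro g σ τ hσ hτ
    rw [← inv_inj]
    refine Equiv.ext fun o => ?_
    by_contra hne
    set i := σ⁻¹ o
    set j := τ⁻¹ o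
    obtain ⟨k, hki, hkj⟩ : ∃ k, k ≠ i ∧ k ≠ j := by
      by_contra hcon
      push Not at hcon
      have h3 : Fintype.card (Option ι) ≤ 2 := by
        refine (Finset.card_le_card (fun k _ => ?_)).trans (Finset.card_le_two (a := i) (b := j))
        simp only [Finset.mem_insert, Finset.mem_singleton]
        by_cases h : k = i
        · exact Or.inl h
        · exact Or.inr (hcon k h)
      rw [Fintype.card_option, hcard] at h3
      have : 2 ^ 1 ≤ 2 ^ n := Nat.pow_le_pow_right (by norm_num) hn1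
      omega
    let y : Option ι → ZMod 2 := fun a => (if a = i then 1 else 0) + if a = k then 1 else 0
    have hy : ∑ a, y a = 0 := by
      simp only [y, Finset.sum_add_distrib, Finset.sum_ite_eq', Finset.mem_univ, if_true]
      decide
    have h1 := (hσ (Φ fun j => y (some j)) o).symm.trans (hτ (Φ fun j => y (some j)) o)
    rw [hlift y hy] at h1
    change y i = y j at h1
    simp [y, hki.symm, hkj.symm, Ne.symm hne] at h1
  choose ρ hρ using fun g : E => hex g g.2
  let ρh : E →* Equiv.Perm (Option ι) :=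
    MonoidHom.mk' ρ fun g h => huniq _ _ _ (hρ (g * h)) (hmul _ _ _ _ (hρ g) (hρ h))
  have hinj : Function.Injective ρh := by
    rw [injective_iff_map_eq_one]
    intro g hg
    refine Subtype.ext (H.faithful _ fun v => ?_)
    have h1 : ∀ o, ψ ((g : P) • v) o = ψ v o := fun o => by
      rw [hρ g, show ρ g = 1 from hg]; simp
    obtain ⟨w, hw⟩ := hcomΦ (mem_com g.2 v)
    have h2 : ψ (Φ w) = 0 := by rw [hw, map_sub, sub_eq_zero]; exact funext h1
    have hw0 : w = 0 := funext fun j => by
      have := congrFun h2 (some j); rwa [hψΦs] at this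
    rw [hw0, map_zero] at hw
    exact sub_eq_zero.1 hw.symm
  have hsurj : Function.Surjective ρh := by
    rw [← MonoidHom.range_eq_top, eq_top_iff, ← Equiv.Perm.closure_isSwap, Subgroup.closure_le]
    have hbase : ∀ j : ι, Equiv.swap none (some j) ∈ ρh.range := fun j =>
      ⟨⟨j, Subgroup.subset_closure j.2⟩,
        huniq _ _ _ (hρ ⟨j, Subgroup.subset_closure j.2⟩) (hswap j)⟩
    rintro σ ⟨a, d, had, rfl⟩
    rcases a with _ | a <;> rcases d with _ | d
    · exact absurd rfl had
    · exact hbase d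
    · rw [Equiv.swap_comm]; exact hbase a
    · rw [← Equiv.swap_mul_swap_mul_swap (x := some d) (y := none) (z := some a) (by simp)
        (fun e => had e.symm)]
      rw [Equiv.swap_comm (some d) none]
      exact mul_mem (mul_mem (hbase a) (hbase d)) (hbase a)
  let e : Option ι ≃ Fin (2 ^ n + 1) := Fintype.equivFinOfCardEq (by rw [Fintype.card_option, hcard])
  have hdisj : com V E ⊓ fix V E = ⊥ := by
    rw [eq_bot_iff]
    rintro u ⟨hu, hu'⟩
    obtain ⟨w, rfl⟩ := hcomΦ hu
    have hw0 : w = 0 := funext fun j => by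
      have := congrFun ((hker _).2 hu') (some j); rwa [hψΦs] at this
    rw [hw0, map_zero]; exact zero_mem _
  have hinner : Inner V (T : Subgroup P) E := by
    intro t ht hE'
    have htxM : t * x * t⁻¹ ∉ M := fun h => hxM (by
      simpa [mul_assoc] using
        M.mul_mem (M.mul_mem (M.inv_mem (H.hover.1 ht)) h) (H.hover.1 ht))
    have hcls : cls V M (t * x * t⁻¹) = cls V M x := by
      refine cls_eq H hsmall hx hxM (Classical.byContradiction fun hnot => ?_)
      have hm : t * x * t⁻¹ ∈ E :=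
        hE' ▸ conj_mem_cj (Subgroup.subset_closure (cls_self H hsmall hx hxM))
      have hmem : cen V (t * x * t⁻¹) ∈ com V E ⊓ fix V E := by
        refine ⟨cen_mem_com H hsmall (hx.conj t) hm, fun g hg => ?_⟩
        exact ((Subgroup.closure_le _).2 fun y hy => fv_eq_zero.1 (fv_of_commute H (hx.conj t) hy.1
          (cls_commute H hsmall hx hxM hy (hx.conj t) htxM hnot).symm) :
          E ≤ MulAction.stabilizer P (cen V (t * x * t⁻¹))) hg
      rw [hdisj] at hmem
      exact cen_ne_zero H (hx.conj t) hmem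
    have himg : ∀ j : ι, t * (j : P) * t⁻¹ ∈ cls V M x := fun j => by
      rw [← hcls, cls_conj H hsmall (H.hover.1 ht)]
      exact ⟨j, j.2, rfl⟩
    let π : ι → ι := fun j => ⟨t * (j : P) * t⁻¹, himg j⟩
    have hπ : Function.Bijective π := Finite.injective_iff_bijective.1 fun i j h =>
      Subtype.ext (mul_left_cancel (mul_right_cancel (congrArg Subtype.val h :)))
    let σ : Equiv.Perm (Option ι) := Equiv.optionCongr (Equiv.ofBijective π hπ)
    have hσ : Rel t σ := by
      intro v o
      obtain ⟨o, rfl⟩ := σ.surjective o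
      rw [Equiv.Perm.inv_def, Equiv.symm_apply_apply]
      have hcπ : ∀ j, c (π j) (t • v) = c j v := fun j => by
        rw [hc, hc]
        show fv V (t * (j : P) * t⁻¹) (t • v) = _
        rw [fv_conj, inv_smul_smul]
      have hSt : S (t • v) = S v := by
        rw [hS, hS, ← (Equiv.ofBijective π hπ).sum_comp fun i => c i (t • v)]
        exact Finset.sum_congr rfl fun j _ => hcπ j
      cases o with
      | none => exact (hψn _).trans (hSt.trans (hψn v).symm)
      | some j =>
        show ψ (t • v) (some (π j)) = ψ v (some j)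
        rw [hψs, hψs, hSt, hcπ]
    obtain ⟨g, hg⟩ := hsurj σ
    refine ⟨g, g.2, fun v => (hker _).1 ?_⟩
    have h1 := hmul _ _ _ _ (hinv _ _ (hρ g)) hσ
    rw [show ρ g = σ from hg, inv_mul_cancel] at h1
    rw [map_sub, sub_eq_zero]
    funext o
    simpa using h1 v o
  refine ⟨?_, hinner, hdisj⟩
  refine ⟨rfl, n, hn1, (MulEquiv.ofBijective ρh ⟨hinj, hsurj⟩).trans e.permCongrHom,
    AddMonoidHom.mk' (fun v i => ψ v (e.symm i)) (fun u v => by
      funext i; simp only [map_add, Pi.add_apply]), fun v => ?_, fun y hy => ?_, fun v => ?_,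
    fun g v i => ?_⟩
  · exact (e.symm.sum_comp (fun o => ψ v o)).trans (hzero v)
  · refine ⟨_, hΦcom fun j => y (e (some j)), funext fun i => ?_⟩
    show ψ (Φ fun j => y (e (some j))) (e.symm i) = y i
    rw [hlift (fun o => y (e o)) (by rw [e.sum_comp y]; exact hy)]
    exact congrArg y (e.apply_symm_apply i)
  · rw [← hker]
    exact ⟨fun h => funext fun o => by simpa using congrFun h (e o), fun h => funext fun i => by
      show ψ v (e.symm i) = 0
      rw [h]; rfl⟩
  · show ψ ((g : P) • v) (e.symm i) = ψ v (e.symm ((e.permCongr (ρ g))⁻¹ i))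
    rw [hρ g]
    rw [Equiv.Perm.inv_def, Equiv.Perm.inv_def]
    refine congrArg (ψ v) ?_
    apply e.injective
    rw [e.apply_symm_apply, eq_comm, Equiv.symm_apply_eq]
    simp

/-- The blocks of the transvection case. -/
theorem transvection_blocks {A : Subgroup P} (hA : Mem V 2 A) :
    ∃ 𝓔, Blocks V 2 T 𝓔 := by
  classical
  obtain ⟨x, hx, hxM⟩ := exists_outside H hsmall hA
  have hout : ∀ t ∈ (T : Subgroup P), t * x * t⁻¹ ∉ M := fun t ht h => hxM (by
    simpa [mul_assoc] using
      M.mul_mem (M.mul_mem (M.inv_mem (H.hover.1 ht)) h) (H.hover.1 ht))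
  set f : P → Subgroup P := fun t => Subgroup.closure (cls V M (t * x * t⁻¹)) with hf
  set 𝓔 := {E | ∃ t ∈ (T : Subgroup P), E = f t} with h𝓔
  have hcj : ∀ s ∈ (T : Subgroup P), ∀ t, cj s (f t) = f (s * t) := by
    intro s hs t
    rw [hf, cj]
    simp only [MonoidHom.map_closure]
    rw [show s * t * x * (s * t)⁻¹ = s * (t * x * t⁻¹) * s⁻¹ by group,
      cls_conj H hsmall (H.hover.1 hs)]
    rfl
  set N := sSup 𝓔 with hN
  have hxN : x ∈ N := (le_sSup ⟨1, one_mem _, rfl⟩ : f 1 ≤ N)
    (Subgroup.subset_closure (by simpa using cls_self H hsmall hx hxM))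
  have hTN : (T : Subgroup P) ≤ normalizer (N : Set P) := fun s hs => mem_normalizer_of_le (by
    rw [cj_le_iff, hN, sSup_le_iff]
    rintro - ⟨t, ht, rfl⟩
    rw [← cj_le_iff, hcj s hs t]
    exact le_sSup ⟨s * t, mul_mem hs ht, rfl⟩)
  haveI hn : N.Normal := normalizer_eq_top_iff.1 (H.top_of_not_mem hTN (le_normalizer hxN) hxM)
  have htop : N ⊔ (T : Subgroup P) = ⊤ := H.top_of_not_mem le_sup_right (mem_sup_left hxN) hxM
  have houtN : ∀ y, IsTv V y → y ∉ M → y ∈ N := by
    intro y hy hyM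
    by_contra hyN
    have hcomm : ∀ t ∈ (T : Subgroup P), ∀ z ∈ cls V M (t * x * t⁻¹), Commute z y :=
      fun t ht z hz => cls_commute H hsmall (hx.conj t) (hout t ht) hz hy hyM fun h =>
        hyN ((le_sSup ⟨t, ht, rfl⟩ : f t ≤ N) (Subgroup.subset_closure h))
    have hyc : y ∈ Subgroup.centralizer (N : Set P) := by
      have : N ≤ Subgroup.centralizer ({y} : Set P) := sSup_le (by
        rintro - ⟨t, ht, rfl⟩
        exact (Subgroup.closure_le _).2 fun z hz => Subgroup.mem_centralizer_singleton_iff.2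
          (hcomm t ht z hz).eq)
      exact mem_centralizer_iff.2 fun z hz =>
        Subgroup.mem_centralizer_singleton_iff.1 (this hz)
    haveI : (Subgroup.centralizer (N : Set P)).Normal := ⟨fun c hc g => mem_centralizer_iff.2
      fun z hz => by
        have h1 := mem_centralizer_iff.1 hc (g⁻¹ * z * g) (by simpa using hn.conj_mem z hz g⁻¹)
        calc z * (g * c * g⁻¹) = g * (g⁻¹ * z * g * c) * g⁻¹ := by group
          _ = g * (c * (g⁻¹ * z * g)) * g⁻¹ := by rw [h1]
          _ = g * c * g⁻¹ * z := by group⟩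
    have hCT := H.top_of_not_mem (K := (T : Subgroup P) ⊔ Subgroup.centralizer (N : Set P))
      le_sup_left (mem_sup_right hyc) hyM
    obtain ⟨X, hX, hxX, -, -⟩ := hx.mem_zpowers
    obtain ⟨g, hg⟩ := H.exists_conj_mems hX
    have hgm : g ∈ (T : Subgroup P) ⊔ Subgroup.centralizer (N : Set P) := hCT ▸ mem_top g
    rw [← SetLike.mem_coe, Subgroup.mul_normal] at hgm
    obtain ⟨t, ht, c, hc, rfl⟩ := Set.mem_mul.1 hgm
    have h1 := hg.2 (conj_mem_cj (g := t * c) hxX)
    rw [show t * c * x * (t * c)⁻¹ = t * (c * x * c⁻¹) * t⁻¹ by group,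
      (mem_centralizer_iff.1 hc x hxN).symm, mul_inv_cancel_right] at h1
    exact hxM (H.hover.1 (by simpa [mul_assoc] using mul_mem (mul_mem (inv_mem ht) h1) ht))
  have hall : ∀ d, IsTv V d → d ∈ N := by
    intro d hd
    by_cases hdM : d ∈ M
    swap
    · exact houtN d hd hdM
    by_cases hex : ∃ y, IsTv V y ∧ y ∉ M ∧ ¬ Commute d y
    · obtain ⟨y, hy, hyM, hnc⟩ := hex
      have hy' : d * y * d⁻¹ ∈ N := houtN _ (hy.conj d) fun h => hyM (by
        simpa [mul_assoc] using M.mul_mem (M.mul_mem (M.inv_mem hdM) h) hdM)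
      rw [braid H hd hy hnc] at hy'
      simpa [mul_assoc] using hn.conj_mem _ hy' y⁻¹
    · exfalso
      push Not at hex
      obtain ⟨D, hD, hdD, hDz, -⟩ := hd.mem_zpowers
      refine H.false_of_centralized
        (𝒮 := {B | Mem V 2 B ∧ B ≤ M ∧ ∀ b ∈ B, ∀ y, IsTv V y → y ∉ M → Commute b y}) (B := D)
        ⟨hD, hDz ▸ Subgroup.zpowers_le.2 hdM, fun b hb y hy hyM => ?_⟩ hD (fun C hC => hC.2.1) ?_
        hxM ?_
      · by_cases hb1 : b = 1
        · exact hb1 ▸ Commute.one_left y
        · exact eq_of_card_two (hsmall D hD) hdD hb hd.ne_one hb1 ▸ hex y hy hyM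
      · rintro C ⟨hC, hCM, hC1⟩ t ht
        refine ⟨hC.cj t, ?_, ?_⟩
        · rintro - ⟨c, hc, rfl⟩
          exact M.mul_mem (M.mul_mem (H.hover.1 ht) (hCM hc)) (M.inv_mem (H.hover.1 ht))
        · rintro - ⟨c, hc, rfl⟩ y hy hyM
          show Commute (t * c * t⁻¹) y
          rw [← commute_conj_iff t⁻¹, show t⁻¹ * (t * c * t⁻¹) * t⁻¹⁻¹ = c by group]
          refine hC1 c hc _ (hy.conj _) fun h => hyM ?_
          simpa [mul_assoc] using M.mul_mem (M.mul_mem (H.hover.1 ht) h) (M.inv_mem (H.hover.1 ht))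
      · exact fun C hC y hy => (hC.2.2 y hy x hx hxM).symm.eq
  have hsep : ∀ t ∈ (T : Subgroup P), ∀ u ∈ (T : Subgroup P), f t ≠ f u →
      ∀ y ∈ cls V M (t * x * t⁻¹), ∀ z ∈ cls V M (u * x * u⁻¹), Commute y z := by
    intro t ht u hu hne y hy z hz
    refine cls_commute H hsmall (hx.conj t) (hout t ht) hy hz.1 hz.2.1 fun h => hne ?_
    rw [hf]
    simp only
    rw [← cls_eq H hsmall (hx.conj t) (hout t ht) h, cls_eq H hsmall (hx.conj u) (hout u hu) hz]
  refine ⟨𝓔, ⟨f 1, 1, one_mem _, rfl⟩, htop, hn,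
    fun E ⟨t, ht, e⟩ s hs => ⟨s * t, mul_mem hs ht, by rw [e, hcj s hs]⟩, ?_, ?_, ?_, ?_, ?_,
    Or.inr hsmall⟩
  · rintro - ⟨t, ht, rfl⟩ - ⟨u, hu, rfl⟩
    exact ⟨u * t⁻¹, mul_mem hu (inv_mem ht), by
      rw [hcj _ (mul_mem hu (inv_mem ht)), inv_mul_cancel_right]⟩
  · rintro - ⟨t, ht, rfl⟩ - ⟨u, hu, rfl⟩ hne
    have h1 : f u ≤ Subgroup.centralizer (f t : Set P) := by
      rw [show f t = Subgroup.closure (cls V M (t * x * t⁻¹)) from rfl, Subgroup.centralizer_closure]
      exact (Subgroup.closure_le _).2 fun z hz => mem_centralizer_iff.2 fun y hy =>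
        (hsep t ht u hu hne y hy z hz).eq
    exact fun a ha b hb => mem_centralizer_iff.1 (h1 hb) a ha
  · rintro - ⟨t, ht, rfl⟩ - ⟨u, hu, rfl⟩ hne
    refine com_closure_le H hsmall fun y hy => ⟨hy.1, fun g hg => ?_⟩
    exact ((Subgroup.closure_le _).2 fun z hz => fv_eq_zero.1
      (fv_of_commute H hy.1 hz.1 (hsep t ht u hu hne y hy z hz)) :
      f u ≤ MulAction.stabilizer P (cen V y)) hg
  · rintro - ⟨t, ht, rfl⟩
    exact Or.inr (cls_block H hsmall (hx.conj t) (hout t ht))
  · intro B hB b hb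
    by_cases hb1 : b = 1
    · rw [hb1]; exact one_mem _
    · exact hall b ⟨B, hB, hsmall B hB, hb, hb1⟩

end CfsgLib.PMinFF
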