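import Cfsg.Agent.PMinFF.Structure
import Cfsg.Prelude.Def_BaumannBlocks
import Cfsg.Prelude.Def_Transfer

/-!
A normal abelian subgroup as a module for the quotient by its centralizer, and the translation of
the block decomposition.
-/

set_option autoImplicit false
set_option linter.style.haveILetI false
set_option linter.unusedSectionVars false

namespace CfsgLib.PMinFF

open Subgroup CfsgLib.OffGen
set_option maxHeartbeats 400000
open scoped commutatorElement

universe u

variable {G : Type u} [Group G]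

theorem exists_quot_module [Finite G] (V : Subgroup G) [V.Normal] (hV : IsMulCommutative V) :
    ∃ (W : Type u) (_ : AddCommGroup W) (_ : Finite W)
      (_ : DistribMulAction (G ⧸ centralizer (V : Set G)) W) (e : W ≃ V),
      (∀ x y, e (x + y) = e x * e y) ∧
        ∀ (g : G) (x : W), (e (QuotientGroup.mk' (centralizer (V : Set G)) g • x) : G) =
          g * (e x : G) * g⁻¹ := by
  letI : CommGroup ↥V :=
    { (inferInstance : Group ↥V) with mul_comm := fun a b => hV.is_comm.comm a b }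
  let φ : G ⧸ centralizer (V : Set G) →* MulAut ↥V :=
    QuotientGroup.lift _ (MulAut.conjNormal (H := V)) fun g hg => MulEquiv.ext fun v => Subtype.ext (by
      rw [MulAut.conjNormal_apply, ← mem_centralizer_iff.1 hg v v.2, mul_inv_cancel_right]
      rfl)
  letI act : DistribMulAction (G ⧸ centralizer (V : Set G)) (Additive ↥V) :=
    { smul := fun g v => Additive.ofMul (φ g (Additive.toMul v))
      one_smul := fun v => by
        show Additive.ofMul (φ 1 _) = v
        rw [map_one]; rfl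
      mul_smul := fun g h v => by
        show Additive.ofMul (φ (g * h) _) = Additive.ofMul (φ g (φ h _))
        rw [map_mul]; rfl
      smul_zero := fun g => by
        show Additive.ofMul (φ g 1) = 0
        rw [map_one]; rfl
      smul_add := fun g u v => by
        show Additive.ofMul (φ g (Additive.toMul u * Additive.toMul v)) = _
        rw [map_mul]; rfl }
  exact ⟨Additive ↥V, inferInstance, inferInstance, act, Additive.toMul, fun _ _ => rfl,
    fun g x => MulAut.conjNormal_apply g _⟩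

section Module

variable [Finite G] {P : Type*} [Group P] [Finite P] {V : Subgroup G} {W : Type*} [AddCommGroup W]
  [Finite W] [DistribMulAction P W]

/-- The data of the translation. -/
structure IsQuotModule (V : Subgroup G) (π : G →* P) (e : W ≃ V) : Prop where
  add : ∀ x y, e (x + y) = e x * e y
  smul : ∀ (g : G) (x : W), (e (π g • x) : G) = g * (e x : G) * g⁻¹
  surj : Function.Surjective π
  ker : π.ker = centralizer (V : Set G)

namespace IsQuotModule

variable {π : G →* P} {e : W ≃ V} (he : IsQuotModule V π e)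

/-- The image of an additive subgroup. -/
def img (_he : IsQuotModule V π e) (K : AddSubgroup W) : Subgroup G where
  carrier := {x | ∃ k ∈ K, (e k : G) = x}
  mul_mem' := by
    rintro - - ⟨k, hk, rfl⟩ ⟨l, hl, rfl⟩
    exact ⟨k + l, K.add_mem hk hl, by rw [_he.add, Subgroup.coe_mul]⟩
  one_mem' := ⟨0, K.zero_mem, by
    have h := _he.add 0 0
    rw [add_zero, left_eq_mul] at h
    rw [h, Subgroup.coe_one]⟩
  inv_mem' := by
    rintro - ⟨k, hk, rfl⟩
    refine ⟨-k, K.neg_mem hk, ?_⟩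
    have h := _he.add (-k) k
    have h0 := _he.add 0 0
    rw [add_zero, left_eq_mul] at h0
    rw [neg_add_cancel, h0] at h
    rw [← Subgroup.coe_inv, eq_inv_of_mul_eq_one_left h.symm]

include he

theorem val_zero : (e 0 : G) = 1 := by
  have h := he.add 0 0
  rw [add_zero, left_eq_mul] at h
  rw [h, Subgroup.coe_one]

theorem val_sub (x y : W) : (e (x - y) : G) = (e x : G) * (e y : G)⁻¹ := by
  rw [eq_mul_inv_iff_mul_eq, ← Subgroup.coe_mul, ← he.add, sub_add_cancel]

theorem val_nsmul (n : ℕ) (x : W) : (e (n • x) : G) = (e x : G) ^ n := by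
  induction n with
  | zero => rw [zero_nsmul, he.val_zero, pow_zero]
  | succ n ih => rw [succ_nsmul, he.add, Subgroup.coe_mul, ih, pow_succ]

theorem smul_eq_iff {g : G} {x : W} : π g • x = x ↔ g * (e x : G) = (e x : G) * g := by
  rw [← e.injective.eq_iff, Subtype.ext_iff, he.smul, mul_inv_eq_iff_eq_mul]

theorem mem_img {K : AddSubgroup W} {x : W} : (e x : G) ∈ he.img K ↔ x ∈ K :=
  ⟨fun ⟨_, hk, h⟩ => e.injective (Subtype.ext h) ▸ hk, fun h => ⟨x, h, rfl⟩⟩

theorem exists_of_mem {v : G} (hv : v ∈ V) : ∃ x, (e x : G) = v :=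
  ⟨e.symm ⟨v, hv⟩, by rw [e.apply_symm_apply]⟩

theorem img_fix (B : Subgroup P) :
    he.img (fix W B) = V ⊓ centralizer ((B.comap π : Subgroup G) : Set G) := by
  ext v
  constructor
  · rintro ⟨x, hx, rfl⟩
    exact ⟨(e x).2, mem_centralizer_iff.2 fun b hb => he.smul_eq_iff.1 (hx _ hb)⟩
  · rintro ⟨hv, hc⟩
    obtain ⟨x, rfl⟩ := he.exists_of_mem hv
    refine ⟨x, fun b hb => ?_, rfl⟩
    obtain ⟨g, rfl⟩ := he.surj b
    exact he.smul_eq_iff.2 (mem_centralizer_iff.1 hc g hb)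

theorem img_com (B : Subgroup P) : he.img (com W B) = ⁅V, B.comap π⁆ := by
  refine le_antisymm ?_ (Subgroup.commutator_le.2 ?_)
  · rintro - ⟨x, hx, rfl⟩
    induction hx using AddSubgroup.closure_induction with
    | mem y hy =>
      obtain ⟨b, hb, w, rfl⟩ := hy
      obtain ⟨g, rfl⟩ := he.surj b
      rw [he.val_sub, he.smul, Subgroup.commutator_comm]
      exact commutator_mem_commutator (show g ∈ B.comap π from hb) (e w).2
    | zero => rw [he.val_zero]; exact one_mem _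
    | add y z _ _ hy hz => rw [he.add, Subgroup.coe_mul]; exact mul_mem hy hz
    | neg y _ hy =>
      rw [← zero_sub, he.val_sub, he.val_zero, one_mul]
      exact inv_mem hy
  · intro v hv g hg
    obtain ⟨x, rfl⟩ := he.exists_of_mem hv
    refine ⟨x - π g • x, ?_, ?_⟩
    · rw [← neg_sub]; exact neg_mem (mem_com (Subgroup.mem_comap.1 hg) x)
    · rw [he.val_sub, he.smul, commutatorElement_def]
      group

theorem elem_exp {p : ℕ} (hV : ∀ a ∈ V, a ^ p = 1) (x : W) : p • x = 0 :=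
  e.injective (Subtype.ext (by rw [he.val_nsmul, hV _ (e x).2, he.val_zero]))

theorem faithful (g : P) (hg : ∀ x : W, g • x = x) : g = 1 := by
  obtain ⟨a, rfl⟩ := he.surj g
  rw [← MonoidHom.mem_ker, he.ker]
  refine mem_centralizer_iff.2 fun v hv => ?_
  obtain ⟨x, rfl⟩ := he.exists_of_mem hv
  exact (he.smul_eq_iff.1 (hg x)).symm

theorem card_img (K : AddSubgroup W) : Nat.card (he.img K) = Nat.card K :=
  (Nat.card_congr (Equiv.ofBijective (fun k : K => (⟨(e k : G), k, k.2, rfl⟩ : he.img K))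
    ⟨fun k l h => Subtype.ext (e.injective (Subtype.ext (congrArg (fun z : he.img K => (z : G)) h :))),
      fun z => by obtain ⟨k, hk, h⟩ := z.2; exact ⟨⟨k, hk⟩, Subtype.ext h⟩⟩)).symm

/-- The image of an offender of the ambient group. -/
theorem offender {p : ℕ} {A : Subgroup G} (hA : ∀ a ∈ A, ∀ b ∈ A, a * b = b * a)
    (hAp : ∀ a ∈ A, a ^ p = 1) (hAV : ¬ A ≤ centralizer (V : Set G))
    (hcard : Nat.card V * Nat.card ↥(A ⊓ centralizer (V : Set G)) ≤
      Nat.card A * Nat.card ↥(A ⊓ V)) :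
    Elem p (A.map π) ∧ A.map π ≠ ⊥ ∧ Nat.card W ≤ meas W (A.map π) := by
  refine ⟨⟨?_, ?_⟩, fun h => hAV ?_, ?_⟩
  · rintro - ⟨a, ha, rfl⟩ - ⟨b, hb, rfl⟩
    rw [← map_mul, hA a ha b hb, map_mul]
  · rintro - ⟨a, ha, rfl⟩
    rw [← map_pow, hAp a ha, map_one]
  · exact (A.map_eq_bot_iff.1 h).trans he.ker.le
  · have h1 : Nat.card A = Nat.card (A.map π) * Nat.card ↥(A ⊓ centralizer (V : Set G)) := by
      rw [← he.ker, Subgroup.card_eq_card_quotient_mul_card_subgroup (π.ker.subgroupOf A)]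
      congr 1
      · rw [← MonoidHom.ker_restrict,
          Nat.card_congr (QuotientGroup.quotientKerEquivRange _).toEquiv, MonoidHom.restrict_range]
      · rw [← inf_subgroupOf_left, Nat.card_congr (Subgroup.subgroupOfEquivOfLe inf_le_left).toEquiv]
    have h2 : Nat.card ↥(A ⊓ V) ≤ Nat.card (fix W (A.map π)) := by
      refine Nat.card_le_card_of_injective (fun a => ⟨e.symm ⟨a.1, a.2.2⟩, ?_⟩) fun a b h => ?_
      · rintro - ⟨b, hb, rfl⟩
        rw [he.smul_eq_iff, e.apply_symm_apply]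
        exact hA b hb _ a.2.1
      · exact Subtype.ext (congrArg Subtype.val (e.symm.injective (congrArg Subtype.val h :)) :)
    rw [Nat.card_congr e, meas]
    rw [h1] at hcard
    refine (Nat.le_of_mul_le_mul_right ?_ (Nat.card_pos
      (α := ↥(A ⊓ centralizer (V : Set G))))).trans (Nat.mul_le_mul_left _ h2)
    rw [mul_right_comm]; exact hcard

/-- The isomorphism of a preimage modulo the centralizer. -/
theorem exists_quot_iso (E : Subgroup P) {X : Type*} [Group X] (ρ : E ≃* X) :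
    ∃ _ : ((centralizer (V : Set G)).subgroupOf (E.comap π)).Normal,
      Nonempty (↥(E.comap π) ⧸ (centralizer (V : Set G)).subgroupOf (E.comap π) ≃* X) := by
  let f : ↥(E.comap π) →* X := ρ.toMonoidHom.comp (π.subgroupComap E)
  have hf : Function.Surjective f := ρ.surjective.comp fun z => by
    obtain ⟨g, hg⟩ := he.surj z
    exact ⟨⟨g, Subgroup.mem_comap.2 (hg ▸ z.2)⟩, Subtype.ext hg⟩
  have hker : f.ker = (centralizer (V : Set G)).subgroupOf (E.comap π) := by
    ext g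
    rw [MonoidHom.mem_ker, Subgroup.mem_subgroupOf, ← he.ker, MonoidHom.mem_ker]
    exact ρ.map_eq_one_iff.trans Subtype.ext_iff
  haveI hn : ((centralizer (V : Set G)).subgroupOf (E.comap π)).Normal := hker ▸ f.normal_ker
  exact ⟨hn, ⟨(QuotientGroup.quotientMulEquivOfEq hker.symm).trans
    (QuotientGroup.quotientKerEquivOfSurjective f hf)⟩⟩

theorem com_le_normalizer (E : Subgroup P) :
    E.comap π ≤ normalizer ((⁅V, E.comap π⁆ : Subgroup G) : Set G) := by
  intro g hg
  rw [mem_normalizer_iff, ← he.img_com]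
  intro v
  constructor
  · rintro ⟨x, hx, rfl⟩
    exact ⟨π g • x, smul_mem_com_self (Subgroup.mem_comap.1 hg) hx, he.smul g x⟩
  · rintro ⟨x, hx, h⟩
    refine ⟨π g⁻¹ • x, smul_mem_com_self (show π g⁻¹ ∈ E by rw [map_inv]; exact inv_mem hg) hx, ?_⟩
    rw [he.smul, h]
    group

theorem exists_pre (E : Subgroup P) :
    ∃ pre : ↥⁅V, E.comap π⁆ → W, ∀ u, (e (pre u) : G) = u ∧ pre u ∈ com W E := by
  have h : ∀ u : ↥⁅V, E.comap π⁆, ∃ k, (e k : G) = u ∧ k ∈ com W E := fun u => by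
    obtain ⟨k, hk, h⟩ : (u : G) ∈ he.img (com W E) := (he.img_com E).symm ▸ u.2
    exact ⟨k, h, hk⟩
  choose pre hpre using h
  exact ⟨pre, hpre⟩

theorem actsAsSL2 {F : Type} [Field F] {E : Subgroup P}
    (ρ : E ≃* Matrix.SpecialLinearGroup (Fin 2) F) (ψ : W →+ (Fin 2 → F))
    (hs : ∀ y, ∃ u ∈ com W E, ψ u = y) (hk : ∀ v, ψ v = 0 ↔ v ∈ fix W E)
    (he' : ∀ (g : E) (v : W),
      ψ ((g : P) • v) = (ρ g : Matrix (Fin 2) (Fin 2) F).mulVec (ψ v)) :
    Cfsg.ActsAsSL2OnSection F ⊤ (E.comap π) ⁅V, E.comap π⁆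
      (⁅V, E.comap π⁆ ⊓ centralizer ((E.comap π : Subgroup G) : Set G)) := by
  refine ⟨he.com_le_normalizer E, inf_le_left, ?_⟩
  obtain ⟨pre, hpre⟩ := he.exists_pre E
  have hinj : ∀ (u : ↥⁅V, E.comap π⁆) x, (e x : G) = u → pre u = x := fun u x h =>
    e.injective (Subtype.ext ((hpre u).1.trans h.symm))
  let ψ' : ↥⁅V, E.comap π⁆ →* Multiplicative (Fin 2 → F) :=
    MonoidHom.mk' (fun u => Multiplicative.ofAdd (ψ (pre u))) fun u v => by
      rw [hinj (u * v) (pre u + pre v) (by rw [he.add, Subgroup.coe_mul, Subgroup.coe_mul,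
        (hpre u).1, (hpre v).1]), map_add, ofAdd_add]
  let f : ↥(E.comap π) →* E := π.subgroupComap E
  have hf : Function.Surjective f := fun z => by
    obtain ⟨g, hg⟩ := he.surj z
    exact ⟨⟨g, Subgroup.mem_comap.2 (hg ▸ z.2)⟩, Subtype.ext hg⟩
  refine ⟨ρ.toMonoidHom.comp f, ψ', MonoidHom.range_eq_top.2 (ρ.surjective.comp hf), fun y => ?_,
    fun u => ?_, fun g u => ?_⟩
  · obtain ⟨x, hx, hxy⟩ := hs (Multiplicative.toAdd y)
    refine ⟨⟨(e x : G), he.img_com E ▸ he.mem_img.2 hx⟩, ?_⟩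
    show Multiplicative.ofAdd (ψ (pre _)) = y
    rw [hinj ⟨(e x : G), he.img_com E ▸ he.mem_img.2 hx⟩ x rfl, hxy, ofAdd_toAdd]
  · show Multiplicative.ofAdd (ψ (pre u)) = 1 ↔ _
    rw [ofAdd_eq_one, hk, ← he.mem_img, he.img_fix, (hpre u).1]
    exact ⟨fun h => ⟨u.2, h.2⟩, fun h => ⟨(hpre u).1 ▸ (e (pre u)).2, h.2⟩⟩
  · refine ⟨⟨(e (π g • pre u) : G), he.img_com E ▸ he.mem_img.2
      (smul_mem_com_self (Subgroup.mem_comap.1 g.2) (hpre u).2)⟩, ?_, ?_⟩
    · show (e (π g • pre u) : G) = _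
      rw [he.smul, (hpre u).1]
    · show ψ (pre _) = (ρ (f g) : Matrix (Fin 2) (Fin 2) F).mulVec (ψ (pre u))
      rw [hinj ⟨(e (π g • pre u) : G), he.img_com E ▸ he.mem_img.2
        (smul_mem_com_self (Subgroup.mem_comap.1 g.2) (hpre u).2)⟩ (π g • pre u) rfl]
      exact he' (f g) (pre u)

theorem actsAsPerm {n : ℕ} {E : Subgroup P}
    (ρ : E ≃* Equiv.Perm (Fin n)) (ψ : W →+ (Fin n → ZMod 2))
    (hz : ∀ v, ∑ i, ψ v i = 0) (hs : ∀ y, ∑ i, y i = 0 → ∃ u ∈ com W E, ψ u = y)
    (hk : ∀ v, ψ v = 0 ↔ v ∈ fix W E)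
    (he' : ∀ (g : E) (v : W) i, ψ ((g : P) • v) i = ψ v ((ρ g)⁻¹ i)) :
    Cfsg.ActsAsOddPermModuleOnSection n ⊤ (E.comap π) ⁅V, E.comap π⁆
      (⁅V, E.comap π⁆ ⊓ centralizer ((E.comap π : Subgroup G) : Set G)) := by
  refine ⟨he.com_le_normalizer E, inf_le_left, ?_⟩
  obtain ⟨pre, hpre⟩ := he.exists_pre E
  have hinj : ∀ (u : ↥⁅V, E.comap π⁆) x, (e x : G) = u → pre u = x := fun u x h =>
    e.injective (Subtype.ext ((hpre u).1.trans h.symm))
  let ψ' : ↥⁅V, E.comap π⁆ →* Multiplicative (Fin n → ZMod 2) :=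
    MonoidHom.mk' (fun u => Multiplicative.ofAdd (ψ (pre u))) fun u v => by
      rw [hinj (u * v) (pre u + pre v) (by rw [he.add, Subgroup.coe_mul, Subgroup.coe_mul,
        (hpre u).1, (hpre v).1]), map_add, ofAdd_add]
  let f : ↥(E.comap π) →* E := π.subgroupComap E
  have hf : Function.Surjective f := fun z => by
    obtain ⟨g, hg⟩ := he.surj z
    exact ⟨⟨g, Subgroup.mem_comap.2 (hg ▸ z.2)⟩, Subtype.ext hg⟩
  refine ⟨ρ.toMonoidHom.comp f, ψ', MonoidHom.range_eq_top.2 (ρ.surjective.comp hf),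
    fun u => hz (pre u), fun y hy => ?_, fun u => ?_, fun g u => ?_⟩
  · obtain ⟨x, hx, hxy⟩ := hs y hy
    refine ⟨⟨(e x : G), he.img_com E ▸ he.mem_img.2 hx⟩, ?_⟩
    show ψ (pre _) = y
    rw [hinj ⟨(e x : G), he.img_com E ▸ he.mem_img.2 hx⟩ x rfl, hxy]
  · show Multiplicative.ofAdd (ψ (pre u)) = 1 ↔ _
    rw [ofAdd_eq_one, hk, ← he.mem_img, he.img_fix, (hpre u).1]
    exact ⟨fun h => ⟨u.2, h.2⟩, fun h => ⟨(hpre u).1 ▸ (e (pre u)).2, h.2⟩⟩
  · refine ⟨⟨(e (π g • pre u) : G), he.img_com E ▸ he.mem_img.2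
      (smul_mem_com_self (Subgroup.mem_comap.1 g.2) (hpre u).2)⟩, ?_, ?_⟩
    · show (e (π g • pre u) : G) = _
      rw [he.smul, (hpre u).1]
    · intro i
      show ψ (pre _) i = ψ (pre u) ((ρ (f g))⁻¹ i)
      rw [hinj ⟨(e (π g • pre u) : G), he.img_com E ▸ he.mem_img.2
        (smul_mem_com_self (Subgroup.mem_comap.1 g.2) (hpre u).2)⟩ (π g • pre u) rfl]
      exact he' (f g) (pre u) i

end IsQuotModule

end Module

end CfsgLib.PMinFF
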