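import Cfsg.Agent.PMinFF.Linear
import Cfsg.Agent.PMinFF.Perm

/-!
The block decomposition of a `p`-minimal group with an offender.
-/

set_option autoImplicit false
set_option linter.style.haveILetI false
set_option linter.unusedSectionVars false

namespace CfsgLib.PMinFF

open Subgroup CfsgLib.OffGen

variable {P : Type*} [Group P] [Finite P]
variable {V : Type*} [AddCommGroup V] [Finite V] [DistribMulAction P V]

namespace Hyp

variable {p : ℕ} [Fact p.Prime] {T : Sylow p P} {M : Subgroup P}

theorem exists_blocks (H : Hyp V p T M) {A : Subgroup P} (hA : Mem V p A) :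
    ∃ 𝓔, Blocks V p T 𝓔 := by
  by_cases hlarge : ∃ B : Subgroup P, Mem V p B ∧ 2 < Nat.card B
  · obtain ⟨B, hB, hq⟩ := hlarge
    obtain ⟨g, hgT, F, iF, iFt, L, ⟨b⟩, hL⟩ := H.exists_block_moved hB
    have hqF : 2 < Nat.card F := by rw [← b.card_A, card_cj]; exact hq
    obtain ⟨v₀, hv₀, hs₀⟩ := H.exists_v₀ b (hB.cj g) hgT hL hqF
    exact ⟨_, H.linear_blocks b (hB.cj g) hgT hL hqF hv₀ hs₀⟩
  · push Not at hlarge
    have hp : p = 2 := by
      haveI : Fintype A := Fintype.ofFinite A
      obtain ⟨⟨a, ha⟩, ha1⟩ := Subgroup.ne_bot_iff_exists_ne_one.1 hA.ne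
      have h1 : orderOf (⟨a, ha⟩ : A) = p :=
        orderOf_eq_prime (Subtype.ext (hA.elem.pow a ha)) ha1
      have h2 : p ∣ Nat.card A := h1 ▸ orderOf_dvd_natCard _
      have h3 := Nat.le_of_dvd Nat.card_pos h2
      have h4 := hlarge A hA
      have h5 := (Fact.out : p.Prime).two_le
      omega
    subst hp
    letI : Module (ZMod 2) V := AddCommGroup.zmodModule H.exp
    exact transvection_blocks H hlarge hA

end Hyp

end CfsgLib.PMinFF
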