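import Cfsg.Agent.PMinFF.Blocks

/-!
The transvection case: every member has order two. Basic calculus and the local configuration.
-/

set_option autoImplicit false
set_option linter.style.haveILetI false
set_option linter.unusedSectionVars false

namespace CfsgLib.PMinFF

open Subgroup CfsgLib.OffGen

variable {P : Type*} [Group P] [Finite P]
variable {V : Type*} [AddCommGroup V] [Finite V] [DistribMulAction P V] [Module (ZMod 2) V]

theorem zmod_two_cases (z : ZMod 2) : z = 0 ∨ z = 1 := by revert z; decide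

theorem zmod_two_self (z : ZMod 2) : z + z = 0 := by revert z; decide

theorem two_torsion (u : V) : u + u = 0 := by
  rw [← one_smul (ZMod 2) u, ← add_smul, zmod_two_self, zero_smul]

theorem smul_zmod (g : P) (z : ZMod 2) (u : V) : g • (z • u) = z • (g • u) := by
  rcases zmod_two_cases z with rfl | rfl <;> simp

variable (V) in
/-- A nontrivial element of a member of order two. -/
def IsTv (b : P) : Prop := ∃ A, Mem V 2 A ∧ Nat.card A ≤ 2 ∧ b ∈ A ∧ b ≠ 1

open Classical in
variable (V) in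
/-- The indicator of the moved vectors. -/
noncomputable def fv (b : P) (v : V) : ZMod 2 := if b • v = v then 0 else 1

open Classical in
variable (V) in
/-- The centre. -/
noncomputable def cen (b : P) : V := if h : ∃ w : V, b • w ≠ w then b • h.choose - h.choose else 0

theorem fv_eq_zero {b : P} {v : V} : fv V b v = 0 ↔ b • v = v := by
  unfold fv; split <;> simp [*]

theorem fv_eq_one {b : P} {v : V} : fv V b v = 1 ↔ b • v ≠ v := by
  unfold fv; split <;> simp [*]

theorem fv_conj (g b : P) (v : V) : fv V (g * b * g⁻¹) v = fv V b (g⁻¹ • v) := by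
  rcases zmod_two_cases (fv V b (g⁻¹ • v)) with h | h <;> rw [h]
  · rw [fv_eq_zero] at h ⊢
    rw [mul_smul, mul_smul, h, smul_inv_smul]
  · rw [fv_eq_one] at h ⊢
    rw [mul_smul, mul_smul]
    exact fun e => h (by rw [← inv_smul_smul g (b • g⁻¹ • v), e])

theorem IsTv.conj {b : P} (hb : IsTv V b) (g : P) : IsTv V (g * b * g⁻¹) := by
  obtain ⟨A, hA, h2, hbA, hb1⟩ := hb
  exact ⟨cj g A, hA.cj g, (card_cj g A).le.trans h2, conj_mem_cj hbA, by simpa using hb1⟩

theorem IsTv.mul_self {b : P} (hb : IsTv V b) : b * b = 1 := by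
  obtain ⟨A, hA, -, hbA, -⟩ := hb
  rw [← pow_two]; exact hA.elem.pow b hbA

theorem IsTv.inv_eq {b : P} (hb : IsTv V b) : b⁻¹ = b := inv_eq_of_mul_eq_one_right hb.mul_self

theorem IsTv.ne_one {b : P} (hb : IsTv V b) : b ≠ 1 := hb.choose_spec.2.2.2

theorem IsTv.mem_zpowers {b : P} (hb : IsTv V b) :
    ∃ A, Mem V 2 A ∧ b ∈ A ∧ A = Subgroup.zpowers b ∧ Nat.card A ≤ 2 := by
  obtain ⟨A, hA, h2, hbA, hb1⟩ := hb
  refine ⟨A, hA, hbA, le_antisymm (fun a ha => ?_) (Subgroup.zpowers_le.2 hbA), h2⟩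
  by_cases ha1 : a = 1
  · rw [ha1]; exact one_mem _
  · rw [eq_of_card_two h2 ha hbA ha1 hb1]; exact Subgroup.mem_zpowers b

variable {T : Sylow 2 P} {M : Subgroup P}

section

variable (H : Hyp V 2 T M)

include H

theorem mem_fix_iff {b : P} {A : Subgroup P} (hA : Mem V 2 A) (hb : b ∈ A) (hb1 : b ≠ 1) {v : V} :
    v ∈ fix V A ↔ b • v = v := ⟨fun h => h b hb, H.key hA hb hb1⟩

theorem tv_apply {b : P} (hb : IsTv V b) (v : V) : b • v = v + fv V b v • cen V b := by
  obtain ⟨A, hA, h2, hbA, hb1⟩ := hb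
  rcases zmod_two_cases (fv V b v) with h | h <;> rw [h]
  · rw [zero_smul, add_zero]; exact fv_eq_zero.1 h
  · have hv := fv_eq_one.1 h
    have hex : ∃ w : V, b • w ≠ w := ⟨v, hv⟩
    rw [one_smul, cen, dif_pos hex, ← value_unique hA h2 hbA hv hex.choose_spec]
    abel

theorem fv_add {b : P} (hb : IsTv V b) (v w : V) :
    fv V b (v + w) = fv V b v + fv V b w := by
  have hne : cen V b ≠ 0 := by
    intro h0
    exact hb.ne_one (H.faithful b fun u => by rw [tv_apply H hb, h0, smul_zero, add_zero])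
  have h1 := tv_apply H hb (v + w)
  rw [smul_add, tv_apply H hb v, tv_apply H hb w] at h1
  have h2 : fv V b (v + w) • cen V b = (fv V b v + fv V b w) • cen V b := by
    rw [add_smul]
    refine add_left_cancel (a := v + w) (h1.symm.trans ?_)
    abel
  by_contra hne'
  have h3 : fv V b (v + w) + (fv V b v + fv V b w) = 1 := by
    revert hne'
    generalize fv V b (v + w) = a
    generalize fv V b v + fv V b w = c
    revert a c; decide
  have h4 := congrArg (· + (fv V b v + fv V b w) • cen V b) h2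
  simp only [← add_smul, zmod_two_self, zero_smul, h3, one_smul] at h4
  exact hne h4

theorem fv_zero {b : P} : fv V b (0 : V) = 0 := fv_eq_zero.2 (smul_zero b)

theorem fv_smul {b : P} (z : ZMod 2) (v : V) : fv V b (z • v) = z * fv V b v := by
  rcases zmod_two_cases z with rfl | rfl
  · rw [zero_smul, zero_mul, fv_zero H]
  · rw [one_smul, one_mul]

theorem cen_ne_zero {b : P} (hb : IsTv V b) : cen V b ≠ 0 := fun h0 =>
  hb.ne_one (H.faithful b fun u => by rw [tv_apply H hb, h0, smul_zero, add_zero])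

theorem exists_fv_one {b : P} (hb : IsTv V b) : ∃ v : V, fv V b v = 1 := by
  by_contra hcon
  push Not at hcon
  exact hb.ne_one (H.faithful b fun u =>
    fv_eq_zero.1 ((zmod_two_cases _).resolve_right (hcon u)))

theorem cen_eq {b : P} (hb : IsTv V b) {v : V} (hv : fv V b v = 1) : cen V b = b • v - v := by
  rw [tv_apply H hb v, hv, one_smul, add_sub_cancel_left]

theorem cen_conj {b : P} (hb : IsTv V b) (g : P) : cen V (g * b * g⁻¹) = g • cen V b := by
  obtain ⟨v, hv⟩ := exists_fv_one H hb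
  have hv' : fv V (g * b * g⁻¹) (g • v) = 1 := by rw [fv_conj, inv_smul_smul, hv]
  rw [cen_eq H (hb.conj g) hv', cen_eq H hb hv, smul_sub, mul_smul, mul_smul, inv_smul_smul]

theorem fv_cen {b : P} (hb : IsTv V b) : fv V b (cen V b) = 0 := by
  obtain ⟨A, hA, -, hbA, -⟩ := id hb
  obtain ⟨v, hv⟩ := exists_fv_one H hb
  rw [fv_eq_zero, cen_eq H hb hv]
  exact hA.quad b hbA b hbA v

theorem eq_of_fv {b c : P} (hb : IsTv V b) (hc : IsTv V c) (h : ∀ v : V, fv V b v = fv V c v) :
    b = c := by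
  obtain ⟨A, hA, hbA, rfl, h2⟩ := hb.mem_zpowers
  obtain ⟨B, hB, hcB, rfl, -⟩ := hc.mem_zpowers
  have he : Subgroup.zpowers b = Subgroup.zpowers c := H.eq_of_fix_eq hA hB (by
    ext v
    rw [mem_fix_iff H hA hbA hb.ne_one, mem_fix_iff H hB hcB hc.ne_one, ← fv_eq_zero, h,
      fv_eq_zero])
  exact eq_of_card_two h2 hbA (he ▸ hcB) hb.ne_one hc.ne_one

/-- Formula for the conjugate of a transvection by another. -/
theorem fv_conj_tv {b c : P} (hb : IsTv V b) (hc : IsTv V c) (v : V) :
    fv V (b * c * b⁻¹) v = fv V c v + fv V b v * fv V c (cen V b) := by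
  rw [fv_conj, hb.inv_eq, tv_apply H hb, fv_add H hc, fv_smul H]

theorem cen_conj_tv {b c : P} (hb : IsTv V b) (hc : IsTv V c) :
    cen V (b * c * b⁻¹) = cen V c + fv V b (cen V c) • cen V b := by
  rw [cen_conj H hc, tv_apply H hb]

theorem commute_of_fv {b c : P} (hb : IsTv V b) (hc : IsTv V c) (h : fv V c (cen V b) = 0) :
    Commute b c :=
  mul_inv_eq_iff_eq_mul.1 (eq_of_fv H (hc.conj b) hc fun v => by
    rw [fv_conj_tv H hb hc, h, mul_zero, add_zero])

theorem fv_of_commute {b c : P} (hb : IsTv V b) (hc : IsTv V c) (h : Commute b c) :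
    fv V c (cen V b) = 0 := by
  obtain ⟨A, hA, hbA, hAb, -⟩ := hb.mem_zpowers
  obtain ⟨B, hB, hcB, hBc, -⟩ := hc.mem_zpowers
  obtain ⟨v, hv⟩ := exists_fv_one H hb
  rw [fv_eq_zero, cen_eq H hb hv]
  by_cases hne : A = B
  · exact hA.com_le_fix (mem_com hbA v) c (hne ▸ hcB)
  · refine H.com_le_fix_pair hA hB (fun x hx y hy => ?_) hne (mem_com hbA v) c hcB
    rw [hAb] at hx
    rw [hBc] at hy
    obtain ⟨i, rfl⟩ := Subgroup.mem_zpowers_iff.1 hx
    obtain ⟨j, rfl⟩ := Subgroup.mem_zpowers_iff.1 hy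
    exact h.zpow_zpow i j

theorem fv_noncommute {b c : P} (hb : IsTv V b) (hc : IsTv V c) (h : ¬ Commute b c) :
    fv V c (cen V b) = 1 :=
  (zmod_two_cases _).resolve_left fun e => h (commute_of_fv H hb hc e)

theorem fv_cen_symm {b c : P} (hb : IsTv V b) (hc : IsTv V c) :
    fv V c (cen V b) = fv V b (cen V c) := by
  by_cases h : Commute b c
  · rw [fv_of_commute H hb hc h, fv_of_commute H hc hb h.symm]
  · rw [fv_noncommute H hb hc h, fv_noncommute H hc hb fun e => h e.symm]

theorem braid {b c : P} (hb : IsTv V b) (hc : IsTv V c) (h : ¬ Commute b c) :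
    b * c * b⁻¹ = c * b * c⁻¹ :=
  eq_of_fv H (hc.conj b) (hb.conj c) fun v => by
    rw [fv_conj_tv H hb hc, fv_conj_tv H hc hb, fv_noncommute H hb hc h,
      fv_noncommute H hc hb fun e => h e.symm, mul_one, mul_one, add_comm]

/-- A fixed point of the Sylow subgroup moved by the group. -/
theorem exists_moved : ∃ v ∈ fix V (T : Subgroup P), ∃ g : P, g • v ≠ v := by
  by_contra hcon
  push Not at hcon
  exact H.hover.2.1 (top_le_iff.1 fun g _ => H.cent g fun v hv => hcon v hv g)

theorem stab_moved_le {v : V} (hv : v ∈ fix V (T : Subgroup P)) (hg : ∃ g : P, g • v ≠ v) {g : P}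
    (h : g • v = v) : g ∈ M := by
  by_contra hgM
  have htop : MulAction.stabilizer P v = ⊤ := H.top_of_not_mem (fun t ht => hv t ht) h hgM
  obtain ⟨k, hk⟩ := hg
  exact hk (MulAction.mem_stabilizer_iff.1 (htop ▸ mem_top k))

variable (hsmall : ∀ A : Subgroup P, Mem V 2 A → Nat.card A ≤ 2)

include hsmall

theorem exists_outside {A : Subgroup P} (hA : Mem V 2 A) : ∃ x, IsTv V x ∧ x ∉ M := by
  by_contra hcon
  push Not at hcon
  have hle : ∀ B, Mem V 2 B → B ≤ M := fun B hB b hb => by
    by_cases hb1 : b = 1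
    · rw [hb1]; exact one_mem M
    · exact hcon b ⟨B, hB, hsmall B hB, hb, hb1⟩
  set N := sSup {B : Subgroup P | Mem V 2 B}
  haveI hn : N.Normal := normalizer_eq_top_iff.1 (top_le_iff.1 fun g _ => mem_normalizer_of_le (by
    rw [cj_le_iff, sSup_le_iff]
    intro B hB
    rw [← cj_le_iff]
    exact le_sSup (Mem.cj hB g)))
  refine hA.ne (le_bot_iff.1 ?_)
  rw [← H.inf_eq_bot (N := N) (sSup_le hle) hA.elem.isPGroup]
  exact le_inf (le_sSup hA) le_rfl

section Moved

variable {v : V} (hv : v ∈ fix V (T : Subgroup P)) (hg : ∃ g : P, g • v ≠ v)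

include hv hg

theorem fv_outside {x : P} (hxM : x ∉ M) : fv V x v = 1 :=
  fv_eq_one.2 fun h => hxM (stab_moved_le H hv hg h)

theorem fv_inside {d : P} (hd : IsTv V d) (hdM : d ∈ M) : fv V d v = 0 := by
  by_contra hne
  have h1 := (zmod_two_cases _).resolve_left hne
  obtain ⟨D, hD, hdD, hDz, -⟩ := hd.mem_zpowers
  obtain ⟨x, hx, hxM⟩ := exists_outside H hsmall hD
  have hcomm : ∀ d' : P, IsTv V d' → d' ∈ M → fv V d' v = 1 → Commute d' x := by
    intro d' hd' hd'M h'
    by_contra hnc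
    have h2 : fv V (d' * x * d'⁻¹) v = 0 := by
      rw [fv_conj_tv H hd' hx, fv_outside H hsmall hv hg hxM, h', fv_noncommute H hd' hx hnc]
      decide
    have h3 := stab_moved_le H hv hg (fv_eq_zero.1 h2)
    exact hxM (by simpa [mul_assoc] using M.mul_mem (M.mul_mem (M.inv_mem hd'M) h3) hd'M)
  refine H.false_of_centralized
    (𝒮 := {B | Mem V 2 B ∧ B ≤ M ∧ ∀ b ∈ B, b ≠ 1 → fv V b v = 1}) (B := D)
    ⟨hD, hDz ▸ Subgroup.zpowers_le.2 hdM, fun b hb hb1 =>
      eq_of_card_two (hsmall D hD) hdD hb hd.ne_one hb1 ▸ h1⟩ hD (fun C hC => hC.2.1) ?_ hxM ?_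
  · rintro C ⟨hC, hCM, hC1⟩ t ht
    refine ⟨hC.cj t, fun y hy => ?_, fun b hb hb1 => ?_⟩
    · obtain ⟨c, hc, rfl⟩ := hy
      exact M.mul_mem (M.mul_mem (H.hover.1 ht) (hCM hc)) (M.inv_mem (H.hover.1 ht))
    · obtain ⟨c, hc, rfl⟩ := hb
      show fv V (t * c * t⁻¹) v = 1
      rw [fv_conj, hv t⁻¹ (inv_mem ht)]
      exact hC1 c hc fun e => hb1 (by rw [e, map_one])
  · rintro C ⟨hC, hCM, hC1⟩ y hy
    by_cases hy1 : y = 1
    · rw [hy1, mul_one, one_mul]
    · exact (hcomm y ⟨C, hC, hsmall C hC, hy, hy1⟩ (hCM hy) (hC1 y hy hy1)).symm.eq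

theorem mem_iff_fv {b : P} (hb : IsTv V b) : b ∈ M ↔ fv V b v = 0 :=
  ⟨fv_inside H hsmall hv hg hb, fun h => stab_moved_le H hv hg (fv_eq_zero.1 h)⟩

end Moved

/-- Two commuting transvections in the maximal subgroup are not both moved by an outside one. -/
theorem no_two_aux {a b x : P} (ha : IsTv V a) (hb : IsTv V b) (hx : IsTv V x)
    (haT : a ∈ (T : Subgroup P)) (hbT : b ∈ (T : Subgroup P)) (hxM : x ∉ M) (hab : a ≠ b)
    (hax : ¬ Commute a x) (hbx : ¬ Commute b x) : False := by
  classical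
  obtain ⟨v, hv, hg⟩ := exists_moved H
  have habc : Commute a b := by
    obtain ⟨A, hA, haA, hAa, -⟩ := ha.mem_zpowers
    obtain ⟨B, hB, hbB, hBb, -⟩ := hb.mem_zpowers
    exact H.commute_mems ⟨hA, hAa ▸ Subgroup.zpowers_le.2 haT⟩
      ⟨hB, hBb ▸ Subgroup.zpowers_le.2 hbT⟩ a haA b hbB
  set e₀ := cen V a + cen V b with he₀
  set y := b * x * b⁻¹ with hy
  set w := a * y * a⁻¹ with hw
  have hyT : IsTv V y := hx.conj b
  have hwT : IsTv V w := hyT.conj a
  have fbx := fv_noncommute H hb hx hbx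
  have fax := fv_noncommute H ha hx hax
  have fab := fv_of_commute H ha hb habc
  have fba := fv_of_commute H hb ha habc.symm
  have fxb : fv V b (cen V x) = 1 := by rw [fv_cen_symm H hx hb, fbx]
  have fxa : fv V a (cen V x) = 1 := by rw [fv_cen_symm H hx ha, fax]
  have cy : cen V y = cen V x + cen V b := by rw [hy, cen_conj_tv H hb hx, fxb, one_smul]
  have fy : ∀ u, fv V y u = fv V x u + fv V b u := fun u => by
    rw [hy, fv_conj_tv H hb hx, fbx, mul_one]
  have fay : fv V a (cen V y) = 1 := by rw [cy, fv_add H ha, fxa, fba, add_zero]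
  have fya : fv V y (cen V a) = 1 := by rw [fy, fax, fab, add_zero]
  have cw : cen V w = cen V x + e₀ := by
    rw [hw, cen_conj_tv H ha hyT, fay, one_smul, cy, he₀]; abel
  have fw : ∀ u, fv V w u = fv V x u + fv V b u + fv V a u := fun u => by
    rw [hw, fv_conj_tv H ha hyT, fya, mul_one, fy]
  set W := AddSubgroup.closure
    ({u | ∃ d, IsTv V d ∧ d ∈ (T : Subgroup P) ∧ u = cen V d} ∪ {v}) with hW
  have hWker : ∀ c, IsTv V c → c ∈ (T : Subgroup P) → ∀ u ∈ W, fv V c u = 0 := by
    intro c hc hcT u hu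
    induction hu using AddSubgroup.closure_induction with
    | mem u hu =>
      rcases hu with ⟨d, hd, hdT, rfl⟩ | rfl
      · obtain ⟨C, hC, hcC, hCc, -⟩ := hc.mem_zpowers
        obtain ⟨D, hD, hdD, hDd, -⟩ := hd.mem_zpowers
        exact fv_of_commute H hd hc (H.commute_mems ⟨hD, hDd ▸ Subgroup.zpowers_le.2 hdT⟩
          ⟨hC, hCc ▸ Subgroup.zpowers_le.2 hcT⟩ d hdD c hcC)
      · exact fv_eq_zero.2 (hv c hcT)
    | zero => exact fv_zero H
    | add u u' _ _ h h' => rw [fv_add H hc, h, h', add_zero]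
    | neg u _ h => rw [fv_eq_zero] at h ⊢; rw [smul_neg, h]
  let S : Subgroup P :=
    { carrier := {g | ∀ u : V, g • u ∈ W ↔ u ∈ W}
      one_mem' := fun u => by rw [one_smul]
      mul_mem' := fun {g h} hg hh u => by rw [mul_smul]; exact (hg _).trans (hh u)
      inv_mem' := fun {g} hg u => by
        have := hg (g⁻¹ • u); rw [smul_inv_smul] at this; exact this.symm }
  have hTfwd : ∀ t ∈ (T : Subgroup P), ∀ u ∈ W, t • u ∈ W := by
    intro t ht u hu
    induction hu using AddSubgroup.closure_induction with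
    | mem u hu =>
      rcases hu with ⟨d, hd, hdT, rfl⟩ | rfl
      · exact AddSubgroup.subset_closure (Or.inl ⟨t * d * t⁻¹, hd.conj t,
          mul_mem (mul_mem ht hdT) (inv_mem ht), (cen_conj H hd t).symm⟩)
      · exact AddSubgroup.subset_closure (Or.inr (hv t ht))
    | zero => rw [smul_zero]; exact zero_mem W
    | add u u' _ _ h h' => rw [smul_add]; exact add_mem h h'
    | neg u _ h => rw [smul_neg]; exact neg_mem h
  have hTS : (T : Subgroup P) ≤ S := fun t ht u =>
    ⟨fun h => by simpa using hTfwd t⁻¹ (inv_mem ht) _ h, hTfwd t ht u⟩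
  have heW : e₀ ∈ W := add_mem (AddSubgroup.subset_closure (Or.inl ⟨a, ha, haT, rfl⟩))
    (AddSubgroup.subset_closure (Or.inl ⟨b, hb, hbT, rfl⟩))
  have hgW : ∀ u ∈ W, (x * w) • u = u + fv V x u • e₀ := by
    intro u hu
    have hfw : fv V w u = fv V x u := by
      rw [fw, hWker b hb hbT u hu, hWker a ha haT u hu, add_zero, add_zero]
    have hfx : fv V x (cen V w) = 0 := by
      rw [cw, fv_add H hx, fv_cen H hx, he₀, fv_add H hx, fax, fbx]
      decide
    rw [mul_smul, tv_apply H hwT, hfw, smul_add, smul_zmod, fv_eq_zero.1 hfx, tv_apply H hx, cw,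
      smul_add, add_assoc, ← add_assoc (fv V x u • cen V x), ← smul_add, two_torsion, smul_zero,
      zero_add]
  have hgS : x * w ∈ S := fun u => by
    have hmaps : Set.MapsTo ((x * w) • · : V → V) (W : Set V) W := fun u hu => by
      show (x * w) • u ∈ W
      rw [hgW u hu]
      refine add_mem hu ?_
      rcases zmod_two_cases (fv V x u) with h | h <;> rw [h]
      · rw [zero_smul]; exact zero_mem W
      · rwa [one_smul]
    refine ⟨fun h => ?_, fun h => hmaps h⟩
    obtain ⟨u', hu', e⟩ := ((Set.toFinite (W : Set V)).injOn_iff_bijOn_of_mapsTo hmaps).1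
      (MulAction.injective (x * w)).injOn |>.surjOn h
    rw [← MulAction.injective (x * w) e]
    exact hu'
  have hxS : x ∉ S := by
    intro hxS
    have hvW : v ∈ W := AddSubgroup.subset_closure (Or.inr rfl)
    have h1 := W.sub_mem ((hxS v).2 hvW) hvW
    rw [← cen_eq H hx (fv_outside H hsmall hv hg hxM)] at h1
    have := hWker a ha haT _ h1
    rw [fxa] at this
    exact one_ne_zero this
  have hgM : x * w ∈ M := (H.hover.2.2 S hTS).resolve_left (fun h => hxS (h ▸ mem_top x)) hgS
  have hS' : ((x * w) • T : Sylow 2 P).toSubgroup ≤ M := by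
    show (((x * w) • T : Sylow 2 P) : Subgroup P) ≤ M
    rw [smul_coe]
    exact (cj_mono _ H.hover.1).trans (cj_self hgM).le
  have hv' : v + e₀ = (x * w) • v := by
    rw [hgW v (AddSubgroup.subset_closure (Or.inr rfl)), fv_outside H hsmall hv hg hxM, one_smul]
  have hkill : ∀ d : P, IsTv V d → fv V d e₀ = 0 := by
    intro d hd
    have H' := H.of_le hS'
    have hv'' : (x * w) • v ∈ fix V (((x * w) • T : Sylow 2 P) : Subgroup P) := by
      rw [smul_coe, mem_fix_cj, inv_smul_smul]; exact hv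
    have hmoved : ∃ g : P, g • ((x * w) • v) ≠ (x * w) • v := by
      obtain ⟨g, hg⟩ := hg
      refine ⟨(x * w) * g * (x * w)⁻¹, fun e => hg ?_⟩
      rw [mul_smul, mul_smul, inv_smul_smul] at e
      exact MulAction.injective _ e
    have h1 : fv V d ((x * w) • v) = fv V d v := by
      by_cases hdM : d ∈ M
      · rw [fv_inside H' hsmall hv'' hmoved hd hdM, fv_inside H hsmall hv hg hd hdM]
      · rw [fv_outside H' hsmall hv'' hmoved hdM, fv_outside H hsmall hv hg hdM]
    rw [← hv', fv_add H hd] at h1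
    simpa using h1
  have hsym : ∀ d : P, IsTv V d → fv V a (cen V d) = fv V b (cen V d) := by
    intro d hd
    rw [fv_cen_symm H hd ha, fv_cen_symm H hd hb]
    have h1 := hkill d hd
    rw [he₀, fv_add H hd] at h1
    revert h1
    generalize fv V d (cen V a) = i
    generalize fv V d (cen V b) = j
    revert i j; decide
  set Nall := sSup {B : Subgroup P | Mem V 2 B}
  have hNall : ∀ g : P, cj g Nall = Nall := fun g => cj_eq_of_le (by
    rw [cj_le_iff, sSup_le_iff]
    intro B hB
    rw [← cj_le_iff]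
    exact le_sSup (Mem.cj hB g))
  set Z := fix V Nall with hZ
  set E := com V Nall with hE
  have hEZ : ∀ u ∈ E, fv V a u = fv V b u := by
    let Q : AddSubgroup V :=
      { carrier := {u | fv V a u = fv V b u}
        zero_mem' := by show fv V a 0 = fv V b 0; rw [fv_zero H, fv_zero H]
        add_mem' := fun {u u'} h h' => by
          show fv V a (u + u') = fv V b (u + u')
          rw [fv_add H ha, fv_add H hb, h, h']
        neg_mem' := fun {u} h => by
          have e : -u = u := neg_eq_of_add_eq_zero_left (two_torsion u)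
          show fv V a (-u) = fv V b (-u)
          rw [e]; exact h }
    let R : Subgroup P :=
      { carrier := {g | ∀ u : V, g • u - u ∈ Q}
        one_mem' := fun u => by rw [one_smul, sub_self]; exact Q.zero_mem
        mul_mem' := fun {g h} hg hh u => by
          have := Q.add_mem (hg (h • u)) (hh u)
          rwa [sub_add_sub_cancel, ← mul_smul] at this
        inv_mem' := fun {g} hg u => by
          have := Q.neg_mem (hg (g⁻¹ • u))
          rwa [smul_inv_smul, neg_sub] at this }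
    have hR : Nall ≤ R := sSup_le fun B hB d hd u => by
      by_cases hd1 : d = 1
      · rw [hd1, one_smul, sub_self]; exact Q.zero_mem
      have hdT : IsTv V d := ⟨B, hB, hsmall B hB, hd, hd1⟩
      rw [tv_apply H hdT, add_sub_cancel_left]
      show fv V a (fv V d u • cen V d) = fv V b (fv V d u • cen V d)
      rw [fv_smul H, fv_smul H, hsym d hdT]
    exact fun u hu => com_le.2 (fun g hg => hR hg) hu
  have he₀Z : e₀ ∈ Z := fun g hg => by
    refine (sSup_le fun B hB d hd => ?_ : Nall ≤ MulAction.stabilizer P e₀) hg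
    by_cases hd1 : d = 1
    · rw [hd1]; exact one_mem _
    · exact fv_eq_zero.1 (hkill d ⟨B, hB, hsmall B hB, hd, hd1⟩)
  let K : Subgroup P :=
    { carrier := {k | (∀ z ∈ Z, k • z = z) ∧ (∀ e ∈ E, k • e - e ∈ Z) ∧ ∀ u, k • u - u ∈ E}
      one_mem' := ⟨fun z _ => one_smul P z, fun e _ => by simp, fun u => by simp⟩
      mul_mem' := fun {g h} hg hh => by
        have hhE : ∀ e ∈ E, h • e ∈ E := fun e he => by
          simpa using E.add_mem (hh.2.2 e) he
        refine ⟨fun z hz => by rw [mul_smul, hh.1 z hz, hg.1 z hz], fun e he => ?_, fun u => ?_⟩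
        · have := Z.add_mem (hg.2.1 _ (hhE e he)) (hh.2.1 e he)
          rwa [sub_add_sub_cancel, ← mul_smul] at this
        · have := E.add_mem (hg.2.2 (h • u)) (hh.2.2 u)
          rwa [sub_add_sub_cancel, ← mul_smul] at this
      inv_mem' := fun {g} hg => by
        have hgE : ∀ e ∈ E, g⁻¹ • e ∈ E := fun e he => by
          simpa using E.sub_mem he (hg.2.2 (g⁻¹ • e))
        refine ⟨fun z hz => by rw [inv_smul_eq_iff, hg.1 z hz], fun e he => ?_, fun u => ?_⟩
        · have := Z.neg_mem (hg.2.1 _ (hgE e he))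
          rwa [smul_inv_smul, neg_sub] at this
        · have := E.neg_mem (hg.2.2 (g⁻¹ • u))
          rwa [smul_inv_smul, neg_sub] at this }
  have hinvZ : ∀ (g : P), ∀ z ∈ Z, g • z ∈ Z := fun g z hz => by
    rw [hZ, ← hNall g, mem_fix_cj, inv_smul_smul]; exact hz
  have hinvE : ∀ (g : P), ∀ e ∈ E, g • e ∈ E := fun g e he => by
    rw [hE, ← hNall g]; exact smul_mem_com_cj he
  have hKn : K.Normal := ⟨fun k hk g => ⟨fun z hz => by
      rw [mul_smul, mul_smul, hk.1 _ (hinvZ g⁻¹ z hz), smul_inv_smul],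
    fun e he => by
      have := hinvZ g _ (hk.2.1 _ (hinvE g⁻¹ e he))
      rwa [smul_sub, smul_inv_smul, ← mul_smul, ← mul_smul] at this,
    fun u => by
      have := hinvE g _ (hk.2.2 (g⁻¹ • u))
      rwa [smul_sub, smul_inv_smul, ← mul_smul, ← mul_smul] at this⟩⟩
  have hKp : IsPGroup 2 K := fun k => ⟨2, Subtype.ext (H.faithful _ fun u => by
    obtain ⟨h1, h2, h3⟩ := k.2
    have hsq : ∀ u : V, ((k : P) * k) • u = u + ((k : P) • ((k : P) • u - u) - ((k : P) • u - u)) := by
      intro u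
      rw [mul_smul, smul_sub]
      rw [eq_comm, ← sub_eq_zero]
      have := two_torsion ((k : P) • u - u)
      rw [← neg_eq_zero, ← this]; abel
    have hsqZ : ∀ u, ((k : P) * k) • u - u ∈ Z := fun u => by
      rw [hsq, add_sub_cancel_left]; exact h2 _ (h3 u)
    have hd := hsqZ u
    rw [show (((k ^ 2 ^ 2 : K)) : P) = ((k : P) * k) * ((k : P) * k) by
      rw [SubmonoidClass.coe_pow, show (2 : ℕ) ^ 2 = 4 from rfl, pow_succ, pow_succ, pow_two, mul_assoc (a := (k : P) * k)], mul_smul]
    set z := ((k : P) * k) • u - u with hz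
    rw [show ((k : P) * k) • u = z + u by rw [hz]; abel, smul_add, mul_smul (k : P) (k : P) z,
      h1 z hd, h1 z hd, show ((k : P) * k) • u = z + u by rw [hz]; abel, ← add_assoc, two_torsion,
      zero_add])⟩
  have haN : a ∈ Nall := by
    obtain ⟨A, hA, haA, -, -⟩ := ha.mem_zpowers; exact le_sSup (a := A) hA haA
  have hbN : b ∈ Nall := by
    obtain ⟨A, hA, haA, -, -⟩ := hb.mem_zpowers; exact le_sSup (a := A) hA haA
  have habK : a * b ∈ K := by
    refine ⟨fun z hz => hz _ (mul_mem haN hbN), fun e he => ?_, fun u => mem_com (mul_mem haN hbN) u⟩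
    rw [mul_smul, tv_apply H hb, smul_add, tv_apply H ha e, smul_zmod,
      fv_eq_zero.1 (fv_of_commute H hb ha habc.symm), add_assoc, add_sub_cancel_left, hEZ e he,
      ← smul_add]
    rcases zmod_two_cases (fv V b e) with h | h <;> rw [h]
    · rw [zero_smul]; exact zero_mem Z
    · rw [one_smul]; exact he₀Z
  have h1 : a * b = 1 := by
    have := H.normal_bot hKn hKp
    rw [this] at habK
    exact mem_bot.1 habK
  exact hab ((mul_eq_one_iff_eq_inv.1 h1).trans hb.inv_eq)

theorem no_two {a b x : P} (ha : IsTv V a) (hb : IsTv V b) (hx : IsTv V x) (haM : a ∈ M)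
    (hbM : b ∈ M) (hxM : x ∉ M) (habc : Commute a b) (hab : a ≠ b) (hax : ¬ Commute a x)
    (hbx : ¬ Commute b x) : False := by
  obtain ⟨A, hA, haA, hAa, -⟩ := ha.mem_zpowers
  obtain ⟨B, hB, hbB, hBb, -⟩ := hb.mem_zpowers
  have hel : Elem 2 (A ⊔ B) := hA.elem.sup hB.elem (fun x hx y hy => by
    rw [hAa] at hx; rw [hBb] at hy
    obtain ⟨i, rfl⟩ := Subgroup.mem_zpowers_iff.1 hx
    obtain ⟨j, rfl⟩ := Subgroup.mem_zpowers_iff.1 hy
    exact habc.zpow_zpow i j)
  obtain ⟨m, hm, hle⟩ := H.exists_conj_le hel.isPGroup (sup_le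
    (hAa ▸ Subgroup.zpowers_le.2 haM) (hBb ▸ Subgroup.zpowers_le.2 hbM))
  have hS : ((m • T : Sylow 2 P) : Subgroup P) ≤ M := by
    rw [smul_coe]; exact (cj_mono m H.hover.1).trans (cj_self hm).le
  exact no_two_aux (H.of_le hS) hsmall ha hb hx (smul_coe m T ▸ hle (mem_sup_left haA))
    (smul_coe m T ▸ hle (mem_sup_right hbB)) hxM hab hax hbx

/-- Not commuting is transitive on distinct outside transvections. -/
theorem noncommute_trans {x y z : P} (hx : IsTv V x) (hy : IsTv V y) (hz : IsTv V z)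
    (hxM : x ∉ M) (hyM : y ∉ M) (hzM : z ∉ M) (hxy : ¬ Commute x y) (hyz : ¬ Commute y z)
    (hne : x ≠ z) : ¬ Commute x z := by
  intro hc
  obtain ⟨v, hv, hg⟩ := exists_moved H
  have hxy' : ¬ Commute y x := fun h => hxy h.symm
  have hmem : ∀ u, IsTv V u → u ∉ M → ¬ Commute y u → y * u * y⁻¹ ∈ M := fun u hu huM hnc => by
    rw [mem_iff_fv H hsmall hv hg (hu.conj y), fv_conj_tv H hy hu, fv_outside H hsmall hv hg huM,
      fv_outside H hsmall hv hg hyM, fv_noncommute H hy hu hnc]
    decide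
  have hmeet : ∀ u, IsTv V u → ¬ Commute y u → Commute x u →
      ¬ Commute (y * u * y⁻¹) x := fun u hu hnc hcu h => by
    have h1 := fv_of_commute H hx (hu.conj y) h.symm
    rw [fv_conj_tv H hy hu, fv_of_commute H hx hu hcu, zero_add,
      fv_noncommute H hy hu hnc, mul_one, fv_noncommute H hx hy hxy] at h1
    exact one_ne_zero h1
  refine no_two H hsmall (hx.conj y) (hz.conj y) hx (hmem x hx hxM hxy') (hmem z hz hzM hyz) hxM
    (hc.map (MulAut.conj y).toMonoidHom) ?_ (hmeet x hx hxy' (Commute.refl x))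
    (hmeet z hz hyz hc)
  intro e
  exact hne (mul_left_cancel (mul_right_cancel e))

end

end CfsgLib.PMinFF
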